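import Mathlib
import Cfsg.Agent.H85.BrauerSuzuki
import Cfsg.Agent.H1.Cores
import Cfsg.Agent.H31.GenBound
import Cfsg.Agent.H16.OddOrder

/-!
Groups in which the non-trivial subgroups of a cyclic subgroup of even order share one normaliser.
-/

set_option autoImplicit false
set_option linter.style.haveILetI false

namespace H79.SameNorm

open Subgroup

universe u

/-- Conjugation preserves `⟨x⟩` exactly when it preserves a given non-trivial subgroup of it,
for `x` of even order. -/
def Cond (G : Type*) [Group G] : Prop :=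
  ∀ x : G, Even (orderOf x) → ∀ w ∈ zpowers x, w ≠ 1 → ∀ g : G,
    (g * x * g⁻¹ ∈ zpowers x ↔ g * w * g⁻¹ ∈ zpowers w)

/-- No non-trivial solvable normal subgroup. -/
def NS (G : Type*) [Group G] : Prop :=
  ∀ N : Subgroup G, N.Normal → Group.IsSolvable ↥N → N = ⊥

variable {G : Type u} [Group G]

theorem two_pow_two {t : G} (ht : orderOf t = 2) : t * t = 1 := by
  rw [← pow_two, ← ht]; exact pow_orderOf_eq_one t

theorem ne_one_of_two {t : G} (ht : orderOf t = 2) : t ≠ 1 := by
  rintro rfl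
  rw [orderOf_one] at ht
  omega

theorem inv_of_two {t : G} (ht : orderOf t = 2) : t⁻¹ = t :=
  inv_eq_of_mul_eq_one_right (two_pow_two ht)

theorem two_of_sq {t : G} (h : t * t = 1) (h1 : t ≠ 1) : orderOf t = 2 :=
  orderOf_eq_prime (by rw [pow_two]; exact h) h1

theorem conj_two {t : G} (ht : orderOf t = 2) (g : G) : orderOf (g * t * g⁻¹) = 2 := by
  rw [← ht]
  exact orderOf_injective (MulAut.conj g).toMonoidHom (MulAut.conj g).injective t

theorem mem_zpowers_two {t a : G} (ht : orderOf t = 2) (ha : a ∈ zpowers t) : a = 1 ∨ a = t := by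
  obtain ⟨i, rfl⟩ := mem_zpowers_iff.1 ha
  rw [← zpow_mod_orderOf t i, ht]
  rcases Int.emod_two_eq i with h | h
  · exact Or.inl (by rw [show (i % (2 : ℕ) : ℤ) = 0 from h, zpow_zero])
  · exact Or.inr (by rw [show (i % (2 : ℕ) : ℤ) = 1 from h, zpow_one])

theorem conj_mem_zpowers_two {t g : G} (ht : orderOf t = 2) :
    g * t * g⁻¹ ∈ zpowers t ↔ Commute g t := by
  refine ⟨fun h => ?_, fun h => by rw [h.eq, mul_inv_cancel_right]; exact mem_zpowers t⟩
  rcases mem_zpowers_two ht h with h | h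
  · exact absurd (conj_eq_one_iff.1 h) (ne_one_of_two ht)
  · show g * t = t * g
    exact mul_inv_eq_iff_eq_mul.1 h

theorem even_of_mem_zpowers {x t : G} (ht : orderOf t = 2) (hx : t ∈ zpowers x) :
    Even (orderOf x) := by
  obtain ⟨i, rfl⟩ := mem_zpowers_iff.1 hx
  rw [even_iff_two_dvd, ← ht]
  exact orderOf_dvd_of_pow_eq_one (by
    rw [← zpow_natCast, ← zpow_mul, mul_comm, zpow_mul, zpow_natCast, pow_orderOf_eq_one, one_zpow])

theorem Cond.f1 (hc : Cond G) {t x : G} (ht : orderOf t = 2) (hx : t ∈ zpowers x) (g : G) :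
    Commute g t ↔ g * x * g⁻¹ ∈ zpowers x :=
  (conj_mem_zpowers_two ht).symm.trans
    (hc x (even_of_mem_zpowers ht hx) t hx (ne_one_of_two ht) g).symm

theorem Cond.f2 (hc : Cond G) {t y : G} (ht : orderOf t = 2) (hty : Commute t y)
    (hy : Odd (orderOf y)) (hy1 : y ≠ 1) (g : G) :
    Commute g t ↔ g * y * g⁻¹ ∈ zpowers y := by
  have hco : Nat.Coprime (orderOf t) (orderOf y) := by
    rw [ht]; exact hy.coprime_two_left
  have ho : orderOf (t * y) = 2 * orderOf y := by
    rw [hty.orderOf_mul_eq_mul_orderOf_of_coprime hco, ht]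
  have htm : t ∈ zpowers (t * y) := by
    refine mem_zpowers_iff.2 ⟨(orderOf y : ℤ), ?_⟩
    rw [zpow_natCast, hty.mul_pow, pow_orderOf_eq_one, mul_one]
    obtain ⟨k, hk⟩ := hy
    rw [hk, pow_add, pow_mul, pow_two, two_pow_two ht, one_pow, one_mul, pow_one]
  have hym : y ∈ zpowers (t * y) := by
    have h : t⁻¹ * (t * y) ∈ zpowers (t * y) := mul_mem (inv_mem htm) (mem_zpowers _)
    rwa [inv_mul_cancel_left] at h
  have he : Even (orderOf (t * y)) := by rw [ho]; exact even_two_mul _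
  exact ((conj_mem_zpowers_two ht).symm.trans (hc _ he t htm (ne_one_of_two ht) g).symm).trans
    (hc _ he y hym hy1 g)

theorem Cond.subgroup (hc : Cond G) (H : Subgroup G) : Cond H := by
  intro x hx w hw hw1 g
  have key : ∀ a b : H, a ∈ zpowers b ↔ (a : G) ∈ zpowers (b : G) := fun a b => by
    simp only [mem_zpowers_iff]
    exact exists_congr fun i => by rw [← Subgroup.coe_zpow]; exact Subtype.ext_iff
  rw [key, key]
  simpa using hc (x : G) (by rwa [Subgroup.orderOf_coe]) w ((key w x).1 hw)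
    (fun h => hw1 (Subtype.ext h)) g

theorem cond_of_normalizer [Finite G]
    (hii : ∀ X : Subgroup G, IsCyclic ↥X → Even (Nat.card ↥X) → ∀ Y : Subgroup G, Y ≤ X → Y ≠ ⊥ →
      normalizer (X : Set G) = normalizer (Y : Set G)) : Cond G := by
  intro x hx w hw hw1 g
  have key : ∀ a : G, g * a * g⁻¹ ∈ zpowers a ↔ g ∈ normalizer ((zpowers a : Subgroup G) : Set G) := by
    intro a
    refine ⟨fun h => ?_, fun h => (mem_normalizer_iff.1 h a).1 (mem_zpowers a)⟩
    have hle : (zpowers a).map (MulAut.conj g).toMonoidHom ≤ zpowers a := by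
      rw [MonoidHom.map_zpowers, zpowers_le]
      exact h
    have heq := eq_of_le_of_card_ge hle
      (le_of_eq (Nat.card_congr (equivMapOfInjective _ _ (MulAut.conj g).injective).toEquiv))
    refine mem_normalizer_iff.2 fun y => ⟨fun hy => ?_, fun hy => ?_⟩
    · exact hle (mem_map_of_mem _ hy)
    · rw [← heq] at hy
      obtain ⟨z, hz, hzy⟩ := hy
      rwa [← (MulAut.conj g).injective (show (MulAut.conj g) z = (MulAut.conj g) y from hzy)]
  rw [key, key, hii (zpowers x) inferInstance (by rwa [Nat.card_zpowers]) (zpowers w)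
    (zpowers_le.2 hw) (by rwa [Ne, zpowers_eq_bot])]

/-- The involution in a non-trivial cyclic `2`-group. -/
theorem exists_two {x : G} {k : ℕ} (hx : orderOf x = 2 ^ (k + 1)) :
    orderOf (x ^ 2 ^ k) = 2 := by
  rw [orderOf_pow_of_dvd (by positivity) (by rw [hx]; exact Nat.pow_dvd_pow 2 (Nat.le_succ k)), hx,
    pow_succ]
  exact Nat.mul_div_cancel_left 2 (by positivity)

theorem involution_mem_unique [Finite G] {x a b : G} (ha : a ∈ zpowers x) (hb : b ∈ zpowers x)
    (ha2 : orderOf a = 2) (hb2 : orderOf b = 2) : a = b := by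
  classical
  letI := Fintype.ofFinite (zpowers x)
  have hd : 2 ∣ Fintype.card (zpowers x) := by
    rw [← Nat.card_eq_fintype_card, Nat.card_zpowers]
    exact even_iff_two_dvd.1 (even_of_mem_zpowers ha2 ha)
  have key := IsCyclic.card_orderOf_eq_totient hd
  rw [Nat.totient_two, Finset.card_eq_one] at key
  obtain ⟨c, hc⟩ := key
  have h : ∀ a : G, ∀ h : a ∈ zpowers x, orderOf a = 2 → (⟨a, h⟩ : zpowers x) = c := by
    intro a h h2
    have : (⟨a, h⟩ : zpowers x) ∈ ({c} : Finset _) := hc ▸ by simp [h2]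
    simpa using this
  exact congrArg Subtype.val ((h a ha ha2).trans (h b hb hb2).symm)

/-- A member of a `2`-group has `2`-power order. -/
theorem exists_order {S : Subgroup G} (hS : IsPGroup 2 S) {x : G} (hx : x ∈ S) :
    ∃ k, orderOf x = 2 ^ k := by
  haveI : Fact (Nat.Prime 2) := ⟨Nat.prime_two⟩
  obtain ⟨k, hk⟩ := IsPGroup.iff_orderOf.1 hS ⟨x, hx⟩
  exact ⟨k, by rwa [orderOf_mk] at hk⟩

/-- The involution of a non-trivial member of a `2`-group. -/
theorem exists_inv_mem {S : Subgroup G} (hS : IsPGroup 2 S) {x : G} (hx : x ∈ S) (h1 : x ≠ 1) :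
    ∃ v ∈ zpowers x, orderOf v = 2 ∧ v ∈ S := by
  obtain ⟨k, hk⟩ := exists_order hS hx
  cases k with
  | zero => exact absurd (orderOf_eq_one_iff.1 hk) h1
  | succ k => exact ⟨_, npow_mem_zpowers x _, exists_two hk, pow_mem hx _⟩

theorem isSolvable_of_le_commute {N : Subgroup G} (h : ∀ a ∈ N, ∀ b ∈ N, a * b = b * a) :
    Group.IsSolvable ↥N :=
  Group.isSolvable_of_comm fun a b => Subtype.ext (h _ a.2 _ b.2)

theorem NS.center_eq_bot (hns : NS G) : center G = ⊥ :=
  hns _ inferInstance (isSolvable_of_le_commute fun _ _ b hb => (mem_center_iff.1 hb _))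

theorem NS.two_core [Finite G] (hns : NS G) {N : Subgroup G} (hN : N.Normal)
    (h : IsPGroup 2 N) : N = ⊥ := by
  haveI : Fact (Nat.Prime 2) := ⟨Nat.prime_two⟩
  haveI := h.isNilpotent
  exact hns N hN inferInstance

theorem NS.not_isolated [Finite G] (hns : NS G) (S : Sylow 2 G) {t : G} (ht : orderOf t = 2)
    (htS : t ∈ S) : ∃ g : G, g * t * g⁻¹ ∈ S ∧ g * t * g⁻¹ ≠ t := by
  by_contra h
  push Not at h
  have hz := H85.zStar (H85.isolated_of_sylow S ht htS h)
  haveI hn := H1.pPrimeCore_normal' 2 G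
  have hO : Cfsg.pPrimeCore 2 G = ⊥ :=
    hns _ hn (H16.FT.oddOrder (Nat.coprime_two_right.1 (H1.card_pPrimeCore_coprime 2 G)))
  have htc : t ∈ center G := by
    refine mem_center_iff.2 fun g => ?_
    have := hz g
    rw [hO, mem_bot, mul_inv_eq_one, mul_inv_eq_iff_eq_mul] at this
    exact this.symm
  rw [hns.center_eq_bot, mem_bot] at htc
  exact ne_one_of_two ht htc

theorem exists_sylow_mem [Finite G] {R : Subgroup G} (hR : IsPGroup 2 R) (S : Sylow 2 G) :
    ∃ g : G, ∀ x ∈ R, g * x * g⁻¹ ∈ S := by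
  haveI : Fact (Nat.Prime 2) := ⟨Nat.prime_two⟩
  obtain ⟨P, hP⟩ := hR.exists_le_sylow
  obtain ⟨g, rfl⟩ := MulAction.exists_smul_eq G P S
  refine ⟨g, fun x hx => ?_⟩
  show g * x * g⁻¹ ∈ ((g • P : Sylow 2 G) : Subgroup G)
  rw [Sylow.coe_subgroup_smul, mem_pointwise_smul_iff_inv_smul_mem]
  simpa [MulAut.smul_def, mul_assoc] using hP hx

end H79.SameNorm
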