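import Cfsg.Agent.H79.SameNorm.Points
import Cfsg.Agent.H5.PResidual
import Cfsg.Agent.H5.Burnside
import Cfsg.Agent.H41.RadFree
import Cfsg.Agent.H59.SharpThree

/-!
Extensions by a `2`-group of the groups found in the case `O²(G) = G`.
-/

set_option autoImplicit false
set_option linter.style.haveILetI false
set_option linter.unusedSectionVars false
set_option maxHeartbeats 1000000

namespace H79.SameNorm

open Subgroup MulAction
open scoped MatrixGroups

universe u

variable {G : Type u} [Group G] [Finite G]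

local notation "O2" => Cfsg.pResidual 2 G

theorem residual_ne_bot [Nontrivial G] (hns : NS G) : O2 ≠ ⊥ := by
  intro h
  haveI : Fact (Nat.Prime 2) := ⟨Nat.prime_two⟩
  have hp : IsPGroup 2 ↥(⊤ : Subgroup G) := by
    intro g
    obtain ⟨k, hk⟩ := H5.exists_pow_prime_pow_coprime (p := 2) (g : G)
    refine ⟨k, Subtype.ext ?_⟩
    have := H5.mem_pResidual_of_coprime hk
    rw [h, mem_bot] at this
    exact this
  exact top_ne_bot (hns.two_core inferInstance hp)

theorem odd_mem_residual {b : G} (hb : Odd (orderOf b)) : b ∈ O2 :=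
  H5.mem_pResidual_of_coprime hb.coprime_two_right

theorem ns_residual (hns : NS G) : NS ↥O2 := by
  have key : ∀ C : Subgroup ↥O2, C.Characteristic → Group.IsSolvable ↥C → C = ⊥ := by
    intro C hC hs
    haveI := hC
    haveI := hs
    haveI : (C.map (O2).subtype).Normal := ConjAct.normal_of_characteristic_of_normal
    have h := hns (C.map (O2).subtype) inferInstance
      (solvable_of_surjective
        (f := (C.equivMapOfInjective (O2).subtype (O2).subtype_injective).toMonoidHom)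
        ((C.equivMapOfInjective (O2).subtype (O2).subtype_injective).surjective))
    rwa [map_eq_bot_iff_of_injective _ (O2).subtype_injective] at h
  haveI : Fact (Nat.Prime 2) := ⟨Nat.prime_two⟩
  refine H41.radFree_of_cores (key _ (H1.pPrimeCore_characteristic 2 _)
    (H16.FT.oddOrder (Nat.coprime_two_right.1 (H1.card_pPrimeCore_coprime 2 _)))) (key _
    (H1.pCore_characteristic 2 _) ?_)
  haveI := (H1.isPGroup_pCore 2 ↥O2).isNilpotent
  infer_instance

/-- An elementary abelian kernel of order at least eight admits no extension. -/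
theorem residual_eq_top [Nontrivial G] (hc : Cond G) (hns : NS G)
    (P1 : ∀ t y : G, t ∈ O2 → orderOf t = 2 → y ∈ O2 → Odd (orderOf y) → Commute y t → y = 1)
    (P2 : ∀ x : G, x ∈ O2 → (∃ k, orderOf x ∣ 2 ^ k) → x * x = 1)
    (P3 : ∃ n, 3 ≤ n ∧ 2 ^ n ∣ Nat.card ↥O2) : O2 = ⊤ := by
  haveI : Fact (Nat.Prime 2) := ⟨Nat.prime_two⟩
  obtain ⟨S⟩ : Nonempty (Sylow 2 G) := inferInstance
  by_contra hne
  have hpg : IsPGroup 2 ↥(S : Subgroup G) := S.isPGroup'
  have h2el : ∀ x ∈ (S : Subgroup G), ∃ k, orderOf x ∣ 2 ^ k := fun x hx =>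
    (exists_order hpg hx).elim fun k hk => ⟨k, hk.dvd⟩
  obtain ⟨s, hsS, hsH⟩ : ∃ s ∈ (S : Subgroup G), s ∉ O2 := by
    by_contra h
    push Not at h
    exact hne (by rw [← H5.pResidual_sup_sylow (p := 2) S, sup_eq_left.2 h])
  set R : Subgroup G := (S : Subgroup G) ⊓ O2 with hR
  have hR8 : 8 ≤ Nat.card ↥R := by
    obtain ⟨n, hn, hdvd⟩ := P3
    have h1 : (O2).index = (O2).relIndex (S : Subgroup G) := by
      rw [← relIndex_top_right, ← H5.pResidual_sup_sylow (p := 2) S, sup_comm, relIndex_sup_right]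
    have h2 := ((O2).subgroupOf (S : Subgroup G)).index_mul_card
    have h4 : Nat.card ↥((O2).subgroupOf (S : Subgroup G)) = Nat.card ↥R := by
      rw [hR, inf_comm, ← inf_subgroupOf_right (O2) (S : Subgroup G)]
      exact Nat.card_congr (subgroupOfEquivOfLe inf_le_right).toEquiv
    rw [h4, show ((O2).subgroupOf (S : Subgroup G)).index = (O2).index from h1.symm] at h2
    have h3 := (O2).index_mul_card
    rw [← (S : Subgroup G).card_mul_index, ← h2, mul_assoc] at h3
    have h5 := Nat.eq_of_mul_eq_mul_left (Nat.pos_of_ne_zero index_ne_zero_of_finite) h3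
    rw [h5] at hdvd
    have hco : Nat.Coprime (2 ^ n) (S : Subgroup G).index :=
      ((Nat.Prime.coprime_iff_not_dvd Nat.prime_two).2 S.not_dvd_index).pow_left n
    have := Nat.le_of_dvd Nat.card_pos (hco.dvd_of_dvd_mul_right hdvd)
    have : 2 ^ 3 ≤ 2 ^ n := Nat.pow_le_pow_right (by norm_num) hn
    omega
  have hR2 : ∀ a ∈ R, a * a = 1 := fun a ha => P2 a ha.2 (h2el a ha.1)
  have hRc : ∀ a ∈ R, ∀ b ∈ R, Commute a b := fun a ha b hb => by
    have h1 := inv_eq_of_mul_eq_one_right (hR2 _ (mul_mem ha hb))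
    rw [mul_inv_rev, inv_eq_of_mul_eq_one_right (hR2 a ha),
      inv_eq_of_mul_eq_one_right (hR2 b hb)] at h1
    exact h1.symm
  by_cases hab : ∀ a ∈ (S : Subgroup G), ∀ b ∈ (S : Subgroup G), a * b = b * a
  · -- an element outside `O²(G)` fixed by `N(S)`
    haveI hSc : IsMulCommutative ↥(S : Subgroup G) :=
      ⟨⟨fun a b => Subtype.ext (hab _ a.2 _ b.2)⟩⟩
    letI : CommGroup ↥(S : Subgroup G) :=
      { (inferInstance : Group ↥(S : Subgroup G)) with mul_comm := fun a b => Subtype.ext (hab _ a.2 _ b.2) }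
    set N := normalizer ((S : Subgroup G) : Set G) with hN
    set S' : Subgroup ↥N := (S : Subgroup G).subgroupOf N with hS'
    haveI : S'.Normal := Subgroup.normal_in_normalizer
    letI := Fintype.ofFinite (↥N ⧸ S')
    let f : ↥N → ↥(S : Subgroup G) := fun n =>
      ⟨(n : G) * s * (n : G)⁻¹, (mem_normalizer_iff.1 n.2 s).1 hsS⟩
    have hf : ∀ n m : ↥N, (QuotientGroup.mk n : ↥N ⧸ S') = QuotientGroup.mk m → f n = f m := by
      intro n m h
      rw [QuotientGroup.eq, hS', mem_subgroupOf] at h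
      apply Subtype.ext
      show (n : G) * s * (n : G)⁻¹ = (m : G) * s * (m : G)⁻¹
      have h1 := hab _ h s hsS
      push_cast at h1
      calc (n : G) * s * (n : G)⁻¹ = n * (s * ((n : G)⁻¹ * m)) * (m : G)⁻¹ := by group
        _ = n * (((n : G)⁻¹ * m) * s) * (m : G)⁻¹ := by rw [h1]
        _ = _ := by group
    set v : ↥(S : Subgroup G) := ∏ c : ↥N ⧸ S', f c.out with hv
    have hfix : ∀ n ∈ N, n * (v : G) * n⁻¹ = v := by
      intro n hn
      let φ : ↥(S : Subgroup G) →* ↥(S : Subgroup G) :=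
        { toFun := fun a => ⟨n * a * n⁻¹, (mem_normalizer_iff.1 hn _).1 a.2⟩
          map_one' := Subtype.ext (by simp)
          map_mul' := fun a b => Subtype.ext (by push_cast; group) }
      have hφ : φ v = v := by
        rw [hv, map_prod]
        refine Fintype.prod_equiv (Equiv.mulLeft (QuotientGroup.mk (⟨n, hn⟩ : ↥N) : ↥N ⧸ S')) _ _
          fun c => ?_
        have hcast : φ (f c.out) = f (⟨n, hn⟩ * c.out) := Subtype.ext (by
          show n * ((c.out : ↥N) * s * ((c.out : ↥N) : G)⁻¹) * n⁻¹ =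
            (n * (c.out : ↥N)) * s * (n * ((c.out : ↥N) : G))⁻¹
          group)
        rw [hcast]
        refine hf _ _ ?_
        rw [QuotientGroup.out_eq', QuotientGroup.mk_mul, QuotientGroup.out_eq']
        rfl
      exact congrArg Subtype.val hφ
    have hcomm : ∀ g : G, g * s * g⁻¹ * s⁻¹ ∈ O2 := by
      intro g
      haveI : (O2).Normal := inferInstance
      have hg : g ∈ ((O2 ⊔ (S : Subgroup G) : Subgroup G) : Set G) := by
        rw [H5.pResidual_sup_sylow (p := 2) S]; exact mem_top g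
      rw [Subgroup.normal_mul] at hg
      obtain ⟨h, hh, s₁, hs₁, rfl⟩ := Set.mem_mul.1 hg
      rw [show h * s₁ * s * (h * s₁)⁻¹ * s⁻¹ = h * ((s₁ * s * s₁⁻¹) * h⁻¹ * s⁻¹) by group,
        hab s₁ hs₁ s hsS, mul_inv_cancel_right]
      exact mul_mem hh ((inferInstance : (O2).Normal).conj_mem _ (inv_mem hh) s)
    have hvH : (v : G) ∉ O2 := by
      intro hvH
      let π : ↥(S : Subgroup G) →* G ⧸ O2 := (QuotientGroup.mk' O2).comp (S : Subgroup G).subtype
      have hπ : ∀ n : ↥N, π (f n) = QuotientGroup.mk' O2 s := fun n => by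
        show QuotientGroup.mk' O2 ((n : G) * s * (n : G)⁻¹) = _
        calc QuotientGroup.mk' O2 ((n : G) * s * (n : G)⁻¹)
            = QuotientGroup.mk' O2 ((n : G) * s * (n : G)⁻¹ * s⁻¹) * QuotientGroup.mk' O2 s := by
              rw [← map_mul, inv_mul_cancel_right]
          _ = 1 * QuotientGroup.mk' O2 s := by
              rw [show QuotientGroup.mk' O2 ((n : G) * s * (n : G)⁻¹ * s⁻¹) = 1 from
                (QuotientGroup.eq_one_iff _).2 (hcomm n)]
          _ = _ := one_mul _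
      have hclose : IsPGroup 2 (G ⧸ O2) := H5.isPGroup_quotient_pResidual
      have h1 : (QuotientGroup.mk' O2 s) ^ Fintype.card (↥N ⧸ S') = 1 := by
        have h0 : π v = 1 := (QuotientGroup.eq_one_iff _).2 hvH
        letI : CommGroup (G ⧸ O2) :=
          { (inferInstance : Group (G ⧸ O2)) with
            mul_comm := fun a b => by
              obtain ⟨a', ha'⟩ : ∃ a' : ↥(S : Subgroup G), π a' = a := by
                obtain ⟨a, rfl⟩ := QuotientGroup.mk'_surjective O2 a
                have ha : a ∈ ((O2 ⊔ (S : Subgroup G) : Subgroup G) : Set G) := by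
                  rw [H5.pResidual_sup_sylow (p := 2) S]; exact mem_top a
                rw [Subgroup.normal_mul] at ha
                obtain ⟨h, hh, a₁, ha₁, rfl⟩ := Set.mem_mul.1 ha
                refine ⟨⟨a₁, ha₁⟩, ?_⟩
                show QuotientGroup.mk' O2 a₁ = _
                rw [map_mul, show QuotientGroup.mk' O2 h = 1 from
                  (QuotientGroup.eq_one_iff _).2 hh, one_mul]
              obtain ⟨b', hb'⟩ : ∃ b' : ↥(S : Subgroup G), π b' = b := by
                obtain ⟨b, rfl⟩ := QuotientGroup.mk'_surjective O2 b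
                have hb : b ∈ ((O2 ⊔ (S : Subgroup G) : Subgroup G) : Set G) := by
                  rw [H5.pResidual_sup_sylow (p := 2) S]; exact mem_top b
                rw [Subgroup.normal_mul] at hb
                obtain ⟨h, hh, b₁, hb₁, rfl⟩ := Set.mem_mul.1 hb
                refine ⟨⟨b₁, hb₁⟩, ?_⟩
                show QuotientGroup.mk' O2 b₁ = _
                rw [map_mul, show QuotientGroup.mk' O2 h = 1 from
                  (QuotientGroup.eq_one_iff _).2 hh, one_mul]
              rw [← ha', ← hb', ← map_mul, ← map_mul, mul_comm] }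
        have hmp : π v = ∏ _c : ↥N ⧸ S', QuotientGroup.mk' O2 s := by
          rw [hv]
          rw [map_prod]
          exact Finset.prod_congr rfl fun c _ => hπ _
        rw [h0] at hmp
        rw [Finset.prod_const, Finset.card_univ] at hmp
        exact hmp.symm
      have hodd : Odd (Fintype.card (↥N ⧸ S')) := by
        rw [← Nat.card_eq_fintype_card, ← index_eq_card, ← Nat.not_even_iff_odd, even_iff_two_dvd]
        intro h
        exact S.not_dvd_index (h.trans (relIndex_dvd_index_of_le le_normalizer))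
      obtain ⟨k, hk⟩ := hclose (QuotientGroup.mk' O2 s)
      have h2 := Nat.eq_one_of_dvd_coprimes (hodd.coprime_two_left.pow_left k)
        (orderOf_dvd_of_pow_eq_one hk) (orderOf_dvd_of_pow_eq_one h1)
      exact hsH ((QuotientGroup.eq_one_iff _).1 (orderOf_eq_one_iff.1 h2))
    obtain ⟨w, hw, hw2, hwS⟩ := exists_inv_mem hpg v.2 (fun h => hvH (h ▸ one_mem _))
    obtain ⟨g, hgS, hgne⟩ := hns.not_isolated S hw2 hwS
    obtain ⟨n, hn, hnw⟩ := H5.control_of_commutative S w hwS g hgS
    apply hgne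
    rw [← hnw]
    obtain ⟨i, rfl⟩ := mem_zpowers_iff.1 hw
    rw [← conj_zpow, hfix n hn]
  push Not at hab
  obtain ⟨a₀, ha₀, b₀, hb₀, hne₀⟩ := hab
  have hcent : ∀ e : G, orderOf e = 2 → e ∈ (S : Subgroup G) → Cen (S : Subgroup G) e →
      ∀ g, Commute g e → g ∈ (S : Subgroup G) := by
    intro e he heS hec g hg
    have hp : IsPGroup 2 ↥(centralizer ({e} : Set G)) := by
      intro x
      obtain ⟨a, b, hab', hax, hbx, ⟨k, hk⟩, hb⟩ := exists_parts (x : G)
      have hbe : Commute b e := by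
        obtain ⟨i, rfl⟩ := mem_zpowers_iff.1 hbx
        exact (show Commute (x : G) e from mem_centralizer_singleton_iff.1 x.2).zpow_left i
      refine ⟨k, Subtype.ext ?_⟩
      suffices hb1 : b = 1 by
        push_cast
        rw [hab', hb1, mul_one]
        exact orderOf_dvd_iff_pow_eq_one.1 hk
      have hbH := odd_mem_residual hb
      have hinv : ∀ t ∈ R, t ≠ 1 → t * b * t⁻¹ = b⁻¹ ∨ b = 1 := by
        intro t ht ht1
        have ht2 := two_of_sq (hR2 t ht) ht1
        by_cases hs : Same e t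
        · exact Or.inr (P1 t b ht.2 ht2 hbH hb ((hs b).2 hbe))
        · exact Or.inl (hc.dichotomy he ht2 (hec t ht.1) hs hb hbe)
      obtain ⟨t₁, ht₁⟩ : ∃ t : ↥R, t ≠ 1 := by
        haveI : Nontrivial ↥R := Finite.one_lt_card_iff_nontrivial.1 (by omega)
        exact exists_ne 1
      obtain ⟨t₂, ht₂, ht₂'⟩ : ∃ t : ↥R, t ≠ 1 ∧ t ≠ t₁ := by
        classical
        letI := Fintype.ofFinite ↥R
        have : (({1, t₁} : Finset ↥R)ᶜ).Nonempty := by
          rw [← Finset.card_pos, Finset.card_compl]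
          have := Finset.card_le_two (a := (1 : ↥R)) (b := t₁)
          rw [Nat.card_eq_fintype_card] at hR8
          omega
        obtain ⟨c, hc'⟩ := this
        simp only [Finset.mem_compl, Finset.mem_insert, Finset.mem_singleton, not_or] at hc'
        exact ⟨c, hc'⟩
      rcases hinv t₁ t₁.2 (fun h => ht₁ (Subtype.ext h)) with h1 | h1
      swap; · exact h1
      rcases hinv t₂ t₂.2 (fun h => ht₂ (Subtype.ext h)) with h2 | h2
      swap; · exact h2
      rcases hinv _ (mul_mem t₁.2 t₂.2) (fun h => ht₂' (Subtype.ext (by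
        have := eq_inv_of_mul_eq_one_right h
        rw [inv_eq_of_mul_eq_one_right (hR2 _ t₁.2)] at this
        exact this))) with h3 | h3
      swap; · exact h3
      rw [show (t₁ : G) * t₂ * b * ((t₁ : G) * t₂)⁻¹ = t₁ * ((t₂ : G) * b * (t₂ : G)⁻¹) * (t₁ : G)⁻¹ by
        group, h2, ← conj_inv, h1, inv_inv] at h3
      exact orderOf_eq_one_iff.1 (Nat.eq_one_of_dvd_coprimes hb.coprime_two_left
        (orderOf_dvd_of_pow_eq_one (by rw [pow_two]; nth_rw 1 [h3]; exact inv_mul_cancel b)) dvd_rfl)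
    rw [← S.is_maximal' hp (fun s hs => mem_centralizer_singleton_iff.2 (hec s hs).eq)]
    exact mem_centralizer_singleton_iff.2 hg.eq
  obtain ⟨t, htS, ht, htc⟩ := exists_central_two hns S
  obtain ⟨c, u, Dh⟩ := dihedral ⟨hc, hns, hcent, a₀, ha₀, b₀, hb₀, hne₀⟩ ht htS htc
  -- at most four elements
  classical
  have hcyc : ∀ a ∈ zpowers c, a * a = 1 → a = 1 ∨ a = t := fun a ha h => by
    by_cases h1 : a = 1
    · exact Or.inl h1
    · exact Or.inr (involution_mem_unique ha Dh.tc (two_of_sq h h1) ht)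
  obtain ⟨a₁, ha₁⟩ : ∃ a₁ : G, ∀ a ∈ R, a ∈ ({1, t, a₁, t * a₁} : Finset G) := by
    by_cases hall : ∀ a ∈ R, a ∈ zpowers c
    · refine ⟨1, fun a ha => ?_⟩
      rcases hcyc a (hall a ha) (hR2 a ha) with h | h <;> simp [h]
    push Not at hall
    obtain ⟨a₁, ha₁, hna₁⟩ := hall
    refine ⟨a₁, fun a ha => ?_⟩
    by_cases hac : a ∈ zpowers c
    · rcases hcyc a hac (hR2 a ha) with h | h <;> simp [h]
    have h1 := (Dh.all a ha.1).resolve_left hac
    have h2 := (Dh.all a₁ ha₁.1).resolve_left hna₁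
    have h3 : a * a₁⁻¹ ∈ zpowers c := by
      have := mul_mem h1 (inv_mem h2)
      rwa [mul_inv_rev, ← mul_assoc, mul_inv_cancel_right] at this
    rcases hcyc _ h3 (hR2 _ (mul_mem ha (inv_mem ha₁))) with h | h
    · simp [mul_inv_eq_one.1 h]
    · simp [mul_inv_eq_iff_eq_mul.1 h]
  have hle : Nat.card ↥R ≤ ({1, t, a₁, t * a₁} : Finset G).card := by
    rw [← Fintype.card_coe, ← Nat.card_eq_fintype_card]
    exact Nat.card_le_card_of_injective (fun a : ↥R => (⟨(a : G), ha₁ a a.2⟩ : ({1, t, a₁, t * a₁} : Finset G)))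
      fun a b h => Subtype.ext (congrArg (fun z : ({1, t, a₁, t * a₁} : Finset G) => (z : G)) h)
  have := hle.trans (Finset.card_le_four)
  omega

/-- The extension of the odd case is `PGL(2,q)`. -/
theorem pgl_of_frame [Nontrivial G] (hc : Cond G) (hns : NS G) (hne : O2 ≠ ⊤) {Q D : Subgroup ↥O2}
    (F : Frame ↥O2 Q D) {p n : ℕ} (hp : p.Prime) (hq : Nat.card ↥Q = p ^ n) :
    ∃ (K : Type) (_ : Field K) (_ : Fintype K), 3 < Fintype.card K ∧
      Nonempty (G ≃* Matrix.ProjGenLinGroup (Fin 2) K) := by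
  classical
  haveI : Fact p.Prime := ⟨hp⟩
  haveI h2f : Fact (Nat.Prime 2) := ⟨Nat.prime_two⟩
  -- `Q` is a Sylow subgroup
  obtain ⟨P, hP⟩ := (IsPGroup.of_card hq : IsPGroup p ↥Q).exists_le_sylow
  have hPQ : (P : Subgroup ↥O2) = Q := by
    refine (eq_of_le_of_card_ge hP ?_).symm
    obtain ⟨m, hm⟩ := IsPGroup.iff_card.1 P.isPGroup'
    have hd : p ^ m ∣ Nat.card ↥O2 := hm ▸ card_subgroup_dvd_card _
    have h1 := F.card
    have h2 : p ^ m ∣ Nat.card ↥Q * ((Nat.card ↥Q + 1) * (Nat.card ↥Q - 1)) := by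
      rw [← mul_assoc, ← h1]; exact hd.mul_left 2
    have hn0 : n ≠ 0 := by
      rintro rfl
      have := F.q_pos
      rw [hq, pow_zero] at this
      omega
    have hpq : p ∣ Nat.card ↥Q := hq ▸ dvd_pow_self p hn0
    have hco : Nat.Coprime (p ^ m) ((Nat.card ↥Q + 1) * (Nat.card ↥Q - 1)) := by
      refine Nat.Coprime.pow_left _ ((Nat.Prime.coprime_iff_not_dvd hp).2 fun h => ?_)
      rcases hp.dvd_mul.1 h with h' | h'
      · exact hp.not_dvd_one ((Nat.dvd_add_right hpq).1 h')
      · have := Nat.dvd_sub hpq h'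
        rw [show Nat.card ↥Q - (Nat.card ↥Q - 1) = 1 by have := F.q_pos; omega] at this
        exact hp.not_dvd_one this
    rw [hm]
    exact Nat.le_of_dvd Nat.card_pos (hco.dvd_of_dvd_mul_right h2)
  subst hPQ
  set N : Subgroup G := normalizer (((P : Subgroup ↥O2).map (O2).subtype : Subgroup G) : Set G) with hN
  have hfr : N ⊔ O2 = ⊤ := Sylow.normalizer_sup_eq_top P
  let a : G ⧸ N := QuotientGroup.mk 1
  haveI htr : IsPretransitive ↥O2 (G ⧸ N) := by
    suffices key : ∀ x : G ⧸ N, ∃ h : ↥O2, h • a = x by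
      refine ⟨fun x y => ?_⟩
      obtain ⟨h₁, rfl⟩ := key x
      obtain ⟨h₂, rfl⟩ := key y
      exact ⟨h₂ * h₁⁻¹, by rw [mul_smul, inv_smul_smul]⟩
    intro x
    obtain ⟨g, rfl⟩ := QuotientGroup.mk_surjective x
    have hg : g ∈ ((O2 ⊔ N : Subgroup G) : Set G) := by rw [sup_comm, hfr]; exact mem_top g
    rw [Subgroup.normal_mul] at hg
    obtain ⟨h, hh, k, hk, rfl⟩ := Set.mem_mul.1 hg
    refine ⟨⟨h, hh⟩, ?_⟩
    show (h : G) • (QuotientGroup.mk 1 : G ⧸ N) = QuotientGroup.mk (h * k)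
    rw [MulAction.Quotient.smul_mk, QuotientGroup.eq, smul_eq_mul, mul_one, inv_mul_cancel_left]
    exact hk
  have hstG : ∀ g : G, g • a = a ↔ g ∈ N := fun g => by
    show g • (QuotientGroup.mk 1 : G ⧸ N) = QuotientGroup.mk 1 ↔ _
    rw [MulAction.Quotient.smul_mk, QuotientGroup.eq, smul_eq_mul, mul_one, mul_one, inv_mem_iff]
  have hst : stabilizer ↥O2 a = normalizer ((P : Subgroup ↥O2) : Set ↥O2) := by
    ext h
    rw [mem_stabilizer_iff]
    refine (hstG h).trans ?_
    rw [hN, mem_normalizer_iff, mem_normalizer_iff]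
    constructor
    · intro hh x
      have key : ∀ z : ↥O2, (z : G) ∈ (P : Subgroup ↥O2).map (O2).subtype ↔ z ∈ (P : Subgroup ↥O2) :=
        fun z => ⟨fun ⟨w, hw, e⟩ => Subtype.ext e ▸ hw, fun hz => ⟨z, hz, rfl⟩⟩
      have h' := hh (x : G)
      rw [key] at h'
      exact h'.trans (key (h * x * h⁻¹))
    · intro hh x
      constructor
      · rintro ⟨y, hy, rfl⟩
        exact ⟨h * y * h⁻¹, (hh y).1 hy, rfl⟩
      · rintro ⟨y, hy, hyx⟩
        refine ⟨h⁻¹ * y * h, ?_, ?_⟩
        · refine (hh _).2 ?_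
          rwa [show h * (h⁻¹ * y * h) * h⁻¹ = y by group]
        · show (h : G)⁻¹ * (y : G) * h = x
          rw [show (y : G) = (h : G) * x * (h : G)⁻¹ from hyx]
          group
  haveI := Fintype.ofFinite (G ⧸ N)
  have hq5 := F.q_pos
  have hn := F.card_points a htr hst
  have h2H := F.two_trans a htr hst
  obtain ⟨b, hba, hstab, hD, u, hu, hua, huinv⟩ := F.exists_pair a htr hst
  -- involutions of `G` fix at most two points
  have hinvol : ∀ φ : G, orderOf φ = 2 → ∀ x y z : G ⧸ N, x ≠ y → x ≠ z → y ≠ z →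
      φ • x = x → φ • y = y → φ • z = z → False := by
    have step : ∀ φ : G, orderOf φ = 2 → ∀ x y z : G ⧸ N, x ≠ y → x ≠ z → y ≠ z →
        φ • x = x → φ • y = y → φ • z = z →
        (∀ g : G, Commute g φ → g • x = x) ∧ ∃ r : G, Commute r φ ∧ r • y ≠ y := by
      intro φ hφ x y z hxy hxz hyz hx hy hz
      obtain ⟨⟨k, hkH⟩, hk⟩ := exists_smul_eq ↥O2 x a
      have hk' : k • x = a := hk
      set ψ := k * φ * k⁻¹ with hψ
      have hψ2 : orderOf ψ = 2 := conj_two hφ k
      have hfix : ∀ w : G ⧸ N, φ • w = w → ψ • (k • w) = k • w := fun w hw => by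
        rw [hψ, mul_smul, inv_smul_smul, mul_smul, hw]
      have hya : k • y ≠ a := fun e => hxy (smul_left_cancel k (hk'.trans e.symm))
      have hza : k • z ≠ a := fun e => hxz (smul_left_cancel k (hk'.trans e.symm))
      obtain ⟨r, hr, huniq⟩ := F.regular a htr hst hya hza
      have hψN : ψ ∈ N := (hstG ψ).1 (hk' ▸ hfix x hx)
      have hmem : ψ * ((r : ↥O2) : G) * ψ⁻¹ ∈ (P : Subgroup ↥O2).map (O2).subtype :=
        (mem_normalizer_iff.1 (hN ▸ hψN) _).1 ⟨r, r.2, rfl⟩
      obtain ⟨r', hr'P, hr'⟩ := hmem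
      have hr'eq : (r' : G) = ψ * ((r : ↥O2) : G) * ψ⁻¹ := hr'
      have he : (⟨r', hr'P⟩ : ↥(P : Subgroup ↥O2)) = r := huniq _ (by
        show ((r' : ↥O2) : G) • (k • y) = k • z
        rw [hr'eq, mul_smul, inv_smul_eq_iff.2 (hfix y hy).symm, mul_smul,
          show ((r : ↥O2) : G) • (k • y) = k • z from hr, hfix z hz])
      have hcr : Commute ψ ((r : ↥O2) : G) := by
        have : (r' : G) = ((r : ↥O2) : G) := congrArg (fun w : ↥(P : Subgroup ↥O2) => ((w : ↥O2) : G)) he
        exact mul_inv_eq_iff_eq_mul.1 (hr'eq.symm.trans this)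
      have hr1 : (r : ↥O2) ≠ 1 := fun e => hyz (smul_left_cancel k (by
        have h0 : ((r : ↥O2) : G) • (k • y) = k • z := hr
        rwa [e, Subgroup.coe_one, one_smul] at h0))
      have hrodd : Odd (orderOf ((r : ↥O2) : G)) := by
        rw [orderOf_coe]; exact F.odd_mem r.2
      have hr1' : ((r : ↥O2) : G) ≠ 1 := fun e => hr1 (Subtype.ext e)
      have hC : ∀ g : G, Commute g ψ → g • a = a := by
        intro g hg
        obtain ⟨i, hi⟩ := mem_zpowers_iff.1 ((hc.f2 hψ2 hcr hrodd hr1' g).1 hg)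
        have hw : g * ((r : ↥O2) : G) * g⁻¹ = (((r : ↥O2) ^ i : ↥O2) : G) := by
          rw [Subgroup.coe_zpow, hi]
        have hne : (r : ↥O2) ^ i ≠ 1 := fun e => hr1' (conj_eq_one_iff.1 (by
          rw [hw, e]; rfl))
        have hfixga : ((r : ↥O2) ^ i) • (g • a) = g • a := by
          show (((r : ↥O2) ^ i : ↥O2) : G) • (g • a) = g • a
          rw [← hw, mul_smul, inv_smul_smul, mul_smul]
          congr 1
          exact (hstG _).2 (hN ▸ le_normalizer ⟨r, r.2, rfl⟩)
        exact F.semiregular a htr hst (zpow_mem r.2 i) hne hfixga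
      refine ⟨fun g hg => ?_, k⁻¹ * ((r : ↥O2) : G) * k, ?_, fun e => hr1 ?_⟩
      · have := hC (k * g * k⁻¹) (by
          show _ * _ = _ * _
          rw [hψ, conj_mul, conj_mul, hg.eq])
        rw [mul_smul, mul_smul, ← hk', inv_smul_smul] at this
        exact smul_left_cancel k this
      · show _ * _ = _ * _
        calc k⁻¹ * ((r : ↥O2) : G) * k * φ = k⁻¹ * (((r : ↥O2) : G) * ψ) * k := by rw [hψ]; group
          _ = k⁻¹ * (ψ * ((r : ↥O2) : G)) * k := by rw [hcr.eq]
          _ = _ := by rw [hψ]; group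
      · rw [mul_smul, mul_smul, inv_smul_eq_iff] at e
        by_contra h1
        exact hya (F.semiregular a htr hst r.2 h1 e)
    intro φ hφ x y z hxy hxz hyz hx hy hz
    obtain ⟨-, r, hr, hry⟩ := step φ hφ x y z hxy hxz hyz hx hy hz
    exact hry ((step φ hφ y x z (Ne.symm hxy) hyz hxz hy hx hz).1 r hr)
  have hfix : ∀ g : G, ∀ x y z : G ⧸ N, x ≠ y → x ≠ z → y ≠ z →
      g • x = x → g • y = y → g • z = z → g = 1 := by
    intro g x y z hxy hxz hyz hx hy hz
    by_contra hg1
    have hgH : ∀ i : ℕ, g ^ i ∈ O2 → g ^ i = 1 := fun i hi => by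
      have hp : ∀ w : G ⧸ N, g • w = w → (⟨g ^ i, hi⟩ : ↥O2) • w = w := fun w hw => by
        show (g ^ i) • w = w
        exact (Subgroup.pow_mem (stabilizer G w) hw i)
      exact congrArg Subtype.val
        (F.three' a htr hst (g := (⟨g ^ i, hi⟩ : ↥O2)) hxy hxz hyz (hp x hx) (hp y hy) (hp z hz))
    obtain ⟨k, hk⟩ := (H5.isPGroup_quotient_pResidual (G := G) (p := 2)) (QuotientGroup.mk g)
    have h1 := hgH (2 ^ k) ((QuotientGroup.eq_one_iff _).1 hk)
    obtain ⟨j, -, hj⟩ := (Nat.dvd_prime_pow Nat.prime_two).1 (orderOf_dvd_of_pow_eq_one h1)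
    rcases j with _ | j
    · exact hg1 (orderOf_eq_one_iff.1 hj)
    exact hinvol _ (exists_two hj) x y z hxy hxz hyz
      (Subgroup.pow_mem (stabilizer G x) hx _) (Subgroup.pow_mem (stabilizer G y) hy _)
      (Subgroup.pow_mem (stabilizer G z) hz _)
  set L : Subgroup G := stabilizer G a ⊓ stabilizer G b with hL
  have hLm : ∀ g, g ∈ L ↔ g • a = a ∧ g • b = b := fun g => Iff.rfl
  set D' : Subgroup G := D.map (O2).subtype with hD'
  have hD'L : D' ≤ L := by
    rintro _ ⟨d, hd, rfl⟩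
    exact (hLm _).2 (hD d hd)
  have hLD : ∀ g ∈ L, g ∈ O2 → g ∈ D' := fun g hg hgH =>
    ⟨⟨g, hgH⟩, hstab _ ((hLm g).1 hg).1 ((hLm g).1 hg).2, rfl⟩
  have hD'card : Nat.card ↥D' = Nat.card ↥D :=
    (Nat.card_congr (D.equivMapOfInjective _ (O2).subtype_injective).toEquiv).symm
  obtain ⟨c₀, hc₀a, hc₀b⟩ : ∃ c : G ⧸ N, c ≠ a ∧ c ≠ b := by
    have : (({a, b} : Finset (G ⧸ N))ᶜ).Nonempty := by
      rw [← Finset.card_pos, Finset.card_compl]
      have := Finset.card_le_two (a := a) (b := b)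
      rw [Nat.card_eq_fintype_card] at hn
      omega
    obtain ⟨c, hc'⟩ := this
    simp only [Finset.mem_compl, Finset.mem_insert, Finset.mem_singleton, not_or] at hc'
    exact ⟨c, hc'⟩
  let T := {w : G ⧸ N // w ≠ a ∧ w ≠ b}
  have hT : Nat.card T = Nat.card ↥(P : Subgroup ↥O2) - 1 := by
    rw [Nat.card_eq_fintype_card (α := T), Fintype.card_subtype,
      show (Finset.univ.filter fun w : G ⧸ N => w ≠ a ∧ w ≠ b) = ({a, b} : Finset (G ⧸ N))ᶜ by
        ext w; simp, Finset.card_compl, Finset.card_pair (Ne.symm hba), ← Nat.card_eq_fintype_card, hn]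
    omega
  let f : ↥L → T := fun l => ⟨(l : G) • c₀, fun e => hc₀a (smul_left_cancel (l : G)
    (e.trans ((hLm _).1 l.2).1.symm)), fun e => hc₀b (smul_left_cancel (l : G)
    (e.trans ((hLm _).1 l.2).2.symm))⟩
  have hfinj : Function.Injective f := fun l l' h => by
    have hm := (hLm _).1 (mul_mem (inv_mem l'.2) l.2)
    have := hfix _ a b c₀ (Ne.symm hba) (Ne.symm hc₀a) (Ne.symm hc₀b) hm.1 hm.2 (by
      rw [mul_smul, inv_smul_eq_iff]; exact congrArg Subtype.val h)
    exact Subtype.ext (inv_mul_eq_one.1 this).symm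
  -- an element of `L` outside
  obtain ⟨l₀, hl₀, hl₀H⟩ : ∃ l ∈ L, l ∉ O2 := by
    obtain ⟨g, hg⟩ : ∃ g, g ∉ O2 := by
      by_contra h
      push Not at h
      exact hne (eq_top_iff.2 fun g _ => h g)
    obtain ⟨⟨k, hkH⟩, hk1, hk2⟩ :=
      (MulAction.is_two_pretransitive_iff.1 h2H)
        (show g • a ≠ g • b from fun e => hba (smul_left_cancel g e).symm) (show a ≠ b from Ne.symm hba)
    exact ⟨k * g, (hLm _).2 ⟨by rw [mul_smul]; exact hk1, by rw [mul_smul]; exact hk2⟩,
      fun h => hg (by simpa using mul_mem (inv_mem hkH) h)⟩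
  have hD'lt : 2 * Nat.card ↥D' ≤ Nat.card ↥L := by
    have h1 := card_dvd_of_le hD'L
    obtain ⟨m, hm⟩ := h1
    rw [hm, mul_comm 2]
    refine Nat.mul_le_mul_left _ ?_
    rcases m with _ | _ | m
    · exact absurd hm (by rw [mul_zero]; exact Nat.card_pos.ne')
    · exfalso
      rw [Nat.zero_add, mul_one] at hm
      have := eq_of_le_of_card_ge hD'L hm.le
      exact hl₀H (by obtain ⟨d, -, hd⟩ := this.ge hl₀; rw [← hd]; exact d.2)
    · omega
  have hqd := F.qd
  have hcardL : Nat.card ↥L = Nat.card T := by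
    have h1 : Nat.card ↥L ≤ Nat.card T := Nat.card_le_card_of_injective f hfinj
    omega
  have hfbij : Function.Bijective f := (Nat.bijective_iff_injective_and_card f).2 ⟨hfinj, hcardL⟩
  have hidx : (D'.subgroupOf L).index = 2 := by
    have h1 := (D'.subgroupOf L).index_mul_card
    rw [Nat.card_congr (subgroupOfEquivOfLe hD'L).toEquiv, hcardL] at h1
    have hpos : 0 < Nat.card ↥D' := Nat.card_pos
    refine Nat.eq_of_mul_eq_mul_right hpos (h1.trans ?_)
    omega
  have h3 : IsMultiplyPretransitive G (G ⧸ N) 3 := by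
    have key : ∀ x y z : G ⧸ N, x ≠ y → x ≠ z → y ≠ z →
        ∃ g : G, g • x = a ∧ g • y = b ∧ g • z = c₀ := by
      intro x y z hxy hxz hyz
      obtain ⟨⟨k, hkH⟩, hk1, hk2⟩ :=
        (MulAction.is_two_pretransitive_iff.1 h2H) hxy (show a ≠ b from Ne.symm hba)
      have hk1' : k • x = a := hk1
      have hk2' : k • y = b := hk2
      obtain ⟨l, hl⟩ := hfbij.2 ⟨k • z, fun e => hxz (smul_left_cancel k (hk1'.trans e.symm)),
        fun e => hyz (smul_left_cancel k (hk2'.trans e.symm))⟩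
      have hl' : (l : G) • c₀ = k • z := congrArg Subtype.val hl
      obtain ⟨hla, hlb⟩ := (hLm _).1 l.2
      exact ⟨(l : G)⁻¹ * k, by rw [mul_smul, hk1', inv_smul_eq_iff, hla],
        by rw [mul_smul, hk2', inv_smul_eq_iff, hlb], by rw [mul_smul, ← hl', inv_smul_smul]⟩
    refine ⟨fun e e' => ?_⟩
    obtain ⟨g, g1, g2, g3⟩ := key (e 0) (e 1) (e 2) (e.injective.ne (by decide))
      (e.injective.ne (by decide)) (e.injective.ne (by decide))
    obtain ⟨g', g1', g2', g3'⟩ := key (e' 0) (e' 1) (e' 2) (e'.injective.ne (by decide))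
      (e'.injective.ne (by decide)) (e'.injective.ne (by decide))
    refine ⟨g'⁻¹ * g, ?_⟩
    ext i
    show (g'⁻¹ * g) • e i = e' i
    fin_cases i <;> rw [mul_smul, inv_smul_eq_iff]
    · exact g1.trans g1'.symm
    · exact g2.trans g2'.symm
    · exact g3.trans g3'.symm
  -- involutions of `L` are unique
  have hLuniq : ∀ v ∈ L, ∀ w ∈ L, orderOf v = 2 → orderOf w = 2 → v = w := by
    have hinv : ∀ v ∈ L, orderOf v = 2 → ∀ x : ↥(P : Subgroup ↥O2),
        v * ((x : ↥O2) : G) * v⁻¹ = ((x : ↥O2) : G)⁻¹ := by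
      intro v hv hv2 x
      obtain ⟨hva, hvb⟩ := (hLm v).1 hv
      obtain ⟨x', hx'P, hx'⟩ : v * ((x : ↥O2) : G) * v⁻¹ ∈ (P : Subgroup ↥O2).map (O2).subtype :=
        (mem_normalizer_iff.1 (hN ▸ (hstG v).1 hva) _).1 ⟨x, x.2, rfl⟩
      have hx'eq : (x' : G) = v * ((x : ↥O2) : G) * v⁻¹ := hx'
      have hcm : Commute (x : ↥O2) x' := F.qcomm x.2 hx'P
      set z : ↥O2 := (x : ↥O2) * x' with hz
      have hzv : v * (z : G) * v⁻¹ = z := by
        rw [hz, Subgroup.coe_mul, hx'eq,
          show v * (((x : ↥O2) : G) * (v * ((x : ↥O2) : G) * v⁻¹)) * v⁻¹ =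
            (v * ((x : ↥O2) : G) * v⁻¹) * ((v * v) * ((x : ↥O2) : G) * (v * v)⁻¹) by group,
          two_pow_two hv2, ← hx'eq]
        simpa using congrArg (fun w : ↥O2 => (w : G)) hcm.eq.symm
      have h1 : (z : G) • b = b := by
        by_contra hne1
        have hfx : v • ((z : G) • b) = (z : G) • b := by
          conv_rhs => rw [← hzv]
          rw [mul_smul, mul_smul, inv_smul_eq_iff.2 hvb.symm]
        have hzb : (z : G) • b ≠ a := fun e => hba (smul_left_cancel (z : G) (e.trans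
          ((hstG _).2 (hN ▸ le_normalizer ⟨z, mul_mem x.2 hx'P, rfl⟩)).symm))
        exact ne_one_of_two hv2 (hfix v a b _ (Ne.symm hba) (Ne.symm hzb) (Ne.symm hne1) hva hvb hfx)
      by_cases hz1 : z = 1
      · rw [← hx'eq, ← Subgroup.coe_inv]
        exact congrArg (fun w : ↥O2 => (w : G)) (eq_inv_of_mul_eq_one_right hz1)
      · exact absurd (F.semiregular a htr hst (mul_mem x.2 hx'P) hz1 h1) hba
    intro v hv w hw hv2 hw2
    have hmem := mul_mem hv hw
    obtain ⟨ha', hb'⟩ := (hLm _).1 hmem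
    obtain ⟨x, hx, -⟩ := F.regular a htr hst hba hc₀a
    have hx' : ((x : ↥O2) : G) • b = c₀ := hx
    have hcx : Commute (v * w) ((x : ↥O2) : G) := mul_inv_eq_iff_eq_mul.1 (by
      rw [show v * w * ((x : ↥O2) : G) * (v * w)⁻¹ =
        v * (w * ((x : ↥O2) : G) * w⁻¹) * v⁻¹ by group, hinv w hw hw2 x, ← conj_inv,
        hinv v hv hv2 x, inv_inv])
    have := hfix (v * w) a b c₀ (Ne.symm hba) (Ne.symm hc₀a) (Ne.symm hc₀b) ha' hb' (by
      rw [← hx', ← mul_smul, hcx.eq, mul_smul, hb'])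
    exact (eq_inv_of_mul_eq_one_left this).trans (inv_of_two hw2)
  have hDcomm : ∀ x ∈ D', ∀ y ∈ D', Commute x y := by
    rintro _ ⟨x, hx, rfl⟩ _ ⟨y, hy, rfl⟩
    show _ * _ = _ * _
    rw [← map_mul, ← map_mul, F.dcomm x hx y hy]
  have huinv' : ∀ d ∈ D', (u : G) * d * (u : G)⁻¹ = d⁻¹ := by
    rintro _ ⟨d, hd, rfl⟩
    exact congrArg (fun w : ↥O2 => (w : G)) (huinv d hd)
  have huG : orderOf (u : G) = 2 := by rw [orderOf_coe]; exact hu
  have hnormD : ∀ g ∈ L, ∀ d ∈ D', g * d * g⁻¹ ∈ D' := fun g hg d hd =>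
    hLD _ (mul_mem (mul_mem hg (hD'L hd)) (inv_mem hg))
      ((inferInstance : (O2).Normal).conj_mem d (by obtain ⟨d', -, rfl⟩ := hd; exact d'.2) g)
  have hoddD : ∀ g ∈ L, Odd (orderOf g) → g ∈ D' := fun g hg h => hLD g hg (odd_mem_residual h)
  -- `L` is commutative
  have hLcomm : ∀ g ∈ L, ∀ h ∈ L, g * h = h * g := by
    suffices key : ∀ x ∈ L, x ∉ D' → (∃ k, orderOf x ∣ 2 ^ k) → ∀ d ∈ D', Commute x d by
      have hcen : ∀ g ∈ L, ∀ d ∈ D', Commute g d := by
        intro g hg d hd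
        obtain ⟨x, y, hxy, hxg, hyg, hx2, hy⟩ := exists_parts g
        have hgL : zpowers g ≤ L := zpowers_le.2 hg
        have hyD := hoddD y (hgL hyg) hy
        by_cases hxD : x ∈ D'
        · rw [hxy]; exact hDcomm _ (mul_mem hxD hyD) d hd
        · rw [hxy]
          exact (key x (hgL hxg) hxD hx2 d hd).mul_left (hDcomm y hyD d hd)
      intro g hg h hh
      by_cases hgD : g ∈ D'
      · exact (hcen h hh g hgD).eq.symm
      by_cases hhD : h ∈ D'
      · exact (hcen g hg h hhD).eq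
      have hgh : g * h ∈ D' := by
        have := (mul_mem_iff_of_index_two hidx (a := (⟨g, hg⟩ : ↥L)) (b := ⟨h, hh⟩)).2
          (iff_of_false hgD hhD)
        exact this
      have := (hcen g hg _ hgh).eq
      rw [← mul_assoc] at this
      exact mul_left_cancel (a := g) (by simpa [mul_assoc] using this)
    intro x hxL hxD hx2
    obtain ⟨k, hk⟩ := hx2
    obtain ⟨j, -, hj⟩ := (Nat.dvd_prime_pow Nat.prime_two).1 hk
    have hx1 : x ≠ 1 := fun h => hxD (h ▸ one_mem _)
    obtain ⟨i, rfl⟩ := Nat.exists_eq_succ_of_ne_zero (show j ≠ 0 by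
      rintro rfl; exact hx1 (orderOf_eq_one_iff.1 hj))
    set t' := x ^ 2 ^ i with ht'
    have ht'2 : orderOf t' = 2 := exists_two hj
    have ht'L : t' ∈ L := pow_mem hxL _
    have ht'c : ∀ g ∈ L, Commute g t' := fun g hg => commute_of_conj_eq
      (hLuniq _ (mul_mem (mul_mem hg ht'L) (inv_mem hg)) _ ht'L (conj_two ht'2 g) ht'2)
    by_cases hx2' : x * x = 1
    · intro d hd
      rw [hLuniq x hxL t' ht'L (two_of_sq hx2' hx1) ht'2]
      exact (ht'c d (hD'L hd)).symm
    have ht'D : t' ∈ D' := by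
      rcases i with _ | i
      · exfalso
        rw [pow_zero, pow_one] at ht'
        exact hx2' (ht' ▸ two_pow_two ht'2)
      · have hm : x * x ∈ D' := by
          have := (mul_mem_iff_of_index_two hidx (a := (⟨x, hxL⟩ : ↥L)) (b := ⟨x, hxL⟩)).2 Iff.rfl
          exact this
        rw [ht', pow_succ', pow_mul, pow_two]
        exact pow_mem hm _
    have hnormx : ∀ g, Commute g t' → g * x * g⁻¹ ∈ zpowers x :=
      fun g hg => (hc.f1 ht'2 (npow_mem_zpowers x _) g).1 hg
    have hxsq : x * x ∈ D' := by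
      have := (mul_mem_iff_of_index_two hidx (a := (⟨x, hxL⟩ : ↥L)) (b := ⟨x, hxL⟩)).2 Iff.rfl
      exact this
    intro d hd
    obtain ⟨c, e, hde, hcd, hed, hc2, he⟩ := exists_parts d
    have hcD : c ∈ D' := zpowers_le.2 hd hcd
    have heD : e ∈ D' := zpowers_le.2 hd hed
    have hxe : Commute x e := by
      by_cases he1 : e = 1
      · exact he1 ▸ Commute.one_right x
      refine commute_of_coprime_norm (coprime_of_two_odd ⟨k, hk⟩ he) ?_ (hnormx e (ht'c e (hD'L heD)))
      exact (hc.f2 ht'2 (ht'c e (hD'L heD)).symm he he1 x).1 (ht'c x hxL)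
    suffices hxc : Commute x c by
      rw [hde]; exact hxc.mul_right hxe
    by_contra hxc
    set m := x * c * x⁻¹ * c⁻¹ with hm
    have hmx : m ∈ zpowers x := by
      rw [show m = x * (c * x * c⁻¹)⁻¹ by rw [hm]; group]
      exact mul_mem (mem_zpowers x) (inv_mem (hnormx c (ht'c c (hD'L hcD))))
    have hmD : m ∈ D' := mul_mem (hnormD x hxL c hcD) (inv_mem hcD)
    have hmm : m * m = 1 := by
      have hxm : Commute x m := by
        obtain ⟨l, hl⟩ := mem_zpowers_iff.1 hmx
        exact hl ▸ (Commute.refl x).zpow_right l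
      have hc' : x * c * x⁻¹ = m * c := by rw [hm, inv_mul_cancel_right]
      have hm' : x * m * x⁻¹ = m := by rw [hxm.eq, mul_inv_cancel_right]
      have h1 : x * x * c * (x * x)⁻¹ = m * m * c :=
        calc _ = x * (x * c * x⁻¹) * x⁻¹ := by group
          _ = x * (m * c) * x⁻¹ := by rw [hc']
          _ = (x * m * x⁻¹) * (x * c * x⁻¹) := conj_mul.symm
          _ = m * (m * c) := by rw [hm', hc']
          _ = _ := (mul_assoc _ _ _).symm
      rw [(hDcomm _ hxsq c hcD).eq, mul_inv_cancel_right] at h1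
      exact mul_eq_right.1 h1.symm
    have hm1 : m ≠ 1 := fun h => hxc (mul_inv_eq_iff_eq_mul.1 (mul_inv_eq_one.1 h))
    have hmt : m = t' := hLuniq m (hD'L hmD) t' ht'L (two_of_sq hmm hm1) ht'2
    have hxc' : x * c * x⁻¹ = t' * c := by rw [← hmt, hm, inv_mul_cancel_right]
    -- the `2`-group generated by `x²` and `c` is cyclic
    obtain ⟨c', hc'D, hc'2, hc'x⟩ : ∃ c' ∈ D', (∃ k, orderOf c' ∣ 2 ^ k) ∧ x * x = c' * c' := by
      have hp : IsPGroup 2 ↥(zpowers (x * x) ⊔ zpowers c) := by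
        refine IsPGroup.to_sup_of_normal_left' ?_ ?_ ?_
        · obtain ⟨l, -, hl⟩ := (Nat.dvd_prime_pow Nat.prime_two).1
            ((orderOf_dvd_of_mem_zpowers (mul_mem (mem_zpowers x) (mem_zpowers x))).trans hk)
          exact IsPGroup.of_card (n := l) (by rw [Nat.card_zpowers, hl])
        · obtain ⟨k', hk'⟩ := hc2
          obtain ⟨l, -, hl⟩ := (Nat.dvd_prime_pow Nat.prime_two).1 hk'
          exact IsPGroup.of_card (n := l) (by rw [Nat.card_zpowers, hl])
        · rw [zpowers_le, mem_normalizer_iff]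
          intro z
          have hcc : ∀ z ∈ zpowers (x * x), c * z * c⁻¹ = z := fun z hz => by
            rw [(hDcomm c hcD z (zpowers_le.2 hxsq hz)).eq, mul_inv_cancel_right]
          refine ⟨fun hz => by rwa [hcc z hz], fun hz => ?_⟩
          have h1 := hcc _ hz
          have h2 : c * z * c⁻¹ = z := (MulAut.conj c).injective (by simpa using h1)
          rwa [h2] at hz
      set M := zpowers (x * x) ⊔ zpowers c with hM
      have hMD : M ≤ D' := sup_le (zpowers_le.2 hxsq) (zpowers_le.2 hcD)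
      letI : CommGroup ↥M :=
        { (inferInstance : Group ↥M) with
          mul_comm := fun p q => Subtype.ext (hDcomm _ (hMD p.2) _ (hMD q.2)).eq }
      have ht'M : t' ∈ M := by
        rcases i with _ | i
        · exact absurd (by rw [← pow_two, show 2 = orderOf x from hj.symm, pow_orderOf_eq_one]) hx2'
        · rw [ht', pow_succ', pow_mul, pow_two]
          exact pow_mem (mem_sup_left (mem_zpowers _)) _
      haveI : IsCyclic ↥M := H31.GenBound.cyclic_of_unique_involution hp (z := ⟨t', ht'M⟩) (fun p hp2 => by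
        by_cases h1 : p = 1
        · exact Or.inl h1
        · refine Or.inr (Subtype.ext (hLuniq _ (hD'L (hMD p.2)) t' ht'L (two_of_sq ?_ fun h => h1 (Subtype.ext h)) ht'2))
          rw [pow_two] at hp2; exact congrArg Subtype.val hp2)
      obtain ⟨⟨e₀, he₀⟩, hgen⟩ := IsCyclic.exists_generator (α := ↥M)
      have hgen' : ∀ z ∈ M, z ∈ zpowers e₀ := fun z hz => by
        obtain ⟨l, hl⟩ := mem_zpowers_iff.1 (hgen ⟨z, hz⟩)
        exact mem_zpowers_iff.2 ⟨l, congrArg Subtype.val hl⟩
      obtain ⟨l, hl⟩ := mem_zpowers_iff.1 (hgen' (x * x) (mem_sup_left (mem_zpowers _)))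
      rcases Int.even_or_odd' l with ⟨r, rfl | rfl⟩
      · refine ⟨e₀ ^ r, zpow_mem (hMD he₀) r, ?_, by rw [← zpow_add, ← hl, two_mul]⟩
        obtain ⟨o, ho⟩ := exists_order hp he₀
        exact ⟨o, ho ▸ orderOf_dvd_of_mem_zpowers (zpow_mem (mem_zpowers e₀) r)⟩
      · exfalso
        obtain ⟨o, ho⟩ := exists_order hp he₀
        have hco : IsCoprime (2 * r + 1) ((2 ^ o : ℕ) : ℤ) := by
          push_cast
          exact (IsCoprime.symm ⟨-r, 1, by ring⟩).pow_right
        obtain ⟨p, q, hpq⟩ := hco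
        have he : e₀ = (x * x) ^ p := by
          rw [← hl, ← zpow_mul]
          conv_lhs => rw [← zpow_one e₀, ← hpq, zpow_add, mul_comm p, mul_comm q, zpow_mul e₀ _ q,
            zpow_natCast, ← ho, pow_orderOf_eq_one, one_zpow, mul_one]
        obtain ⟨l', hl'⟩ := mem_zpowers_iff.1 (hgen' c (mem_sup_right (mem_zpowers c)))
        refine hxc ?_
        rw [← hl', he, ← zpow_mul]
        exact ((Commute.refl x).mul_right (Commute.refl x)).zpow_right _
    -- an element of order four outside `D'`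
    set y := x * c'⁻¹ with hy
    have hyL : y ∈ L := mul_mem hxL (inv_mem (hD'L hc'D))
    have hyD : y ∉ D' := fun h => hxD (by simpa [hy] using mul_mem h hc'D)
    have hxc'' : x * c' * x⁻¹ = c' ∨ x * c' * x⁻¹ = t' * c' := by
      set n := x * c' * x⁻¹ * c'⁻¹ with hn'
      have hnx : n ∈ zpowers x := by
        rw [show n = x * (c' * x * c'⁻¹)⁻¹ by rw [hn']; group]
        exact mul_mem (mem_zpowers x) (inv_mem (hnormx c' (ht'c c' (hD'L hc'D))))
      have hnD : n ∈ D' := mul_mem (hnormD x hxL c' hc'D) (inv_mem hc'D)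
      have hxn : Commute x n := by
        obtain ⟨l, hl⟩ := mem_zpowers_iff.1 hnx
        exact hl ▸ (Commute.refl x).zpow_right l
      have hxn' : x * c' * x⁻¹ = n * c' := by rw [hn', inv_mul_cancel_right]
      have hn2 : x * n * x⁻¹ = n := by rw [hxn.eq, mul_inv_cancel_right]
      have h1 : x * x * c' * (x * x)⁻¹ = n * n * c' :=
        calc _ = x * (x * c' * x⁻¹) * x⁻¹ := by group
          _ = x * (n * c') * x⁻¹ := by rw [hxn']
          _ = (x * n * x⁻¹) * (x * c' * x⁻¹) := conj_mul.symm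
          _ = n * (n * c') := by rw [hn2, hxn']
          _ = _ := (mul_assoc _ _ _).symm
      rw [(hDcomm _ hxsq c' hc'D).eq, mul_inv_cancel_right] at h1
      by_cases hn1 : n = 1
      · left; rw [hxn', hn1, one_mul]
      · right; rw [hxn', hLuniq n (hD'L hnD) t' ht'L (two_of_sq (mul_eq_right.1 h1.symm) hn1) ht'2]
    have hyy : y * y = 1 ∨ y * y = t' := by
      have hbase : y * y = (x * c'⁻¹ * x⁻¹) * (x * x) * c'⁻¹ := by rw [hy]; group
      rw [← conj_inv] at hbase
      rcases hxc'' with h | h <;> rw [h] at hbase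
      · left; rw [hbase, hc'x]; group
      · right
        rw [hbase, hc'x, mul_inv_rev, inv_of_two ht'2, mul_assoc, mul_assoc]
        rw [show t' * (c' * c' * c'⁻¹) = t' * c' by group,
          (ht'c c' (hD'L hc'D)).symm.eq, ← mul_assoc, inv_mul_cancel, one_mul]
    have hy1 : y * y ≠ 1 := fun h => hyD (by
      rw [hLuniq y hyL t' ht'L (two_of_sq h fun e => hyD (e ▸ one_mem _)) ht'2]; exact ht'D)
    have hyt : y * y = t' := hyy.resolve_left hy1
    have hyc : y * c * y⁻¹ = t' * c := by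
      rw [show y * c * y⁻¹ = x * (c'⁻¹ * c * c') * x⁻¹ by rw [hy]; group,
        (hDcomm c'⁻¹ (inv_mem hc'D) c hcD).eq, inv_mul_cancel_right, hxc']
    -- `c² = t'`
    obtain ⟨kc, hkc⟩ := hc2
    obtain ⟨jc, -, hjc⟩ := (Nat.dvd_prime_pow Nat.prime_two).1 hkc
    have hnc : ¬ Commute y c := fun h => by
      rw [h.eq, mul_inv_cancel_right] at hyc
      exact ne_one_of_two ht'2 (mul_eq_right.1 hyc.symm)
    have hcc : c * c = t' := by
      rcases jc with _ | _ | _ | jc
      · exact absurd (by rw [orderOf_eq_one_iff.1 hjc]; exact Commute.one_right y) hnc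
      · exact absurd (hLuniq c (hD'L hcD) t' ht'L hjc ht'2 ▸ ht'c y hyL) hnc
      · refine hLuniq _ (mul_mem (hD'L hcD) (hD'L hcD)) t' ht'L ?_ ht'2
        have h2 := exists_two hjc; rwa [pow_one, pow_two] at h2
      · exfalso
        set c₀' := c ^ 2 ^ (jc + 1) with hc₀
        have hc₀o : c₀' * c₀' = t' := hLuniq _ (mul_mem (pow_mem (hD'L hcD) _) (pow_mem (hD'L hcD) _))
          t' ht'L (by rw [← pow_add, ← two_mul, ← pow_succ']; exact exists_two hjc) ht'2
        have hy0 : Commute y c₀' := by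
          have h2 : Commute y (c * c) := commute_of_conj_eq (by
            rw [← conj_mul, hyc, (ht'c c (hD'L hcD)).mul_mul_mul_comm, two_pow_two ht'2, one_mul])
          rw [hc₀, pow_succ', pow_mul, pow_two]
          exact h2.pow_right _
        have hsq : (y * c₀') * (y * c₀') = 1 := by
          rw [hy0.symm.mul_mul_mul_comm, hyt, hc₀o, two_pow_two ht'2]
        have hnD' : y * c₀' ∉ D' := fun h => hyD (by
          have := mul_mem h (inv_mem (pow_mem hcD (2 ^ (jc + 1))))
          rwa [mul_inv_cancel_right] at this)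
        exact hnD' (by
          rw [hLuniq _ (mul_mem hyL (pow_mem (hD'L hcD) _)) t' ht'L
            (two_of_sq hsq fun e => hnD' (e ▸ one_mem _)) ht'2]
          exact ht'D)
    -- an element outside `D'` commuting with `u`
    have hut : Commute (u : G) t' := commute_of_conj_eq (by rw [huinv' t' ht'D, inv_of_two ht'2])
    have hyc2 : (y * c) * (y * c) = t' := by
      rw [show (y * c) * (y * c) = (y * c * y⁻¹) * (y * y) * c by group, hyc, hyt, mul_assoc t',
        (ht'c c (hD'L hcD)).eq, ← mul_assoc, two_pow_two ht'2, one_mul, hcc]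
    have hcase : ∀ z : G, z * z = t' → (u : G) * z * (u : G)⁻¹ = z ∨
        (u : G) * z * (u : G)⁻¹ = z * t' := by
      intro z hz
      have hm := (hc.f1 ht'2 (hz ▸ mul_mem (mem_zpowers z) (mem_zpowers z)) (u : G)).1 hut
      rw [← hz]
      refine four_cases ?_ hm fun h => ne_one_of_two ht'2 ?_
      · rw [show z ^ 4 = (z * z) * (z * z) by simp only [pow_succ, pow_zero, one_mul, mul_assoc],
          hz, two_pow_two ht'2]
      · rw [← hz, show z * z = (u : G)⁻¹ * (((u : G) * z * (u : G)⁻¹) * ((u : G) * z * (u : G)⁻¹)) *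
          (u : G) by group, h]
        group
    obtain ⟨y₀, hy₀L, hy₀2, hy₀u⟩ : ∃ y₀ ∈ L, y₀ * y₀ = t' ∧ Commute (u : G) y₀ := by
      rcases hcase y hyt with h | h
      · exact ⟨y, hyL, hyt, commute_of_conj_eq h⟩
      refine ⟨y * c, mul_mem hyL (hD'L hcD), hyc2, commute_of_conj_eq ?_⟩
      rw [← conj_mul, h, huinv' c hcD, mul_assoc]
      congr 1
      rw [← hcc, mul_inv_cancel_right]
    -- `y₀` permutes the fixed points of `u`
    obtain ⟨t₂, ht₂D, ht₂⟩ := ht'D
    have ht₂o : orderOf t₂ = 2 := by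
      rw [← orderOf_coe, show (t₂ : G) = t' from ht₂]; exact ht'2
    obtain ⟨h, hh⟩ := isConj_iff.1 (F.conj t₂ u ht₂o hu)
    have hh' : (h : G) * t' * (h : G)⁻¹ = u := by
      rw [← show (t₂ : G) = t' from ht₂]; exact congrArg (fun w : ↥O2 => (w : G)) hh
    obtain ⟨ht'a, ht'b⟩ := (hLm t').1 ht'L
    have hfixt : ∀ w : G ⧸ N, t' • w = w → w = a ∨ w = b := fun w hw => by
      by_contra hw'
      push Not at hw'
      exact ne_one_of_two ht'2 (hfix t' a b w (Ne.symm hba) (Ne.symm hw'.1) (Ne.symm hw'.2) ht'a ht'b hw)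
    have hfixu : ∀ w : G ⧸ N, (u : G) • w = w → w = (h : G) • a ∨ w = (h : G) • b := fun w hw => by
      have : t' • ((h : G)⁻¹ • w) = (h : G)⁻¹ • w := by
        rw [← hh', mul_smul, mul_smul] at hw
        exact smul_left_cancel (h : G) (hw.trans (smul_inv_smul _ _).symm)
      rcases hfixt _ this with e | e
      · exact Or.inl (inv_smul_eq_iff.1 e)
      · exact Or.inr (inv_smul_eq_iff.1 e)
    have hua' : (u : G) • a = b := hua
    have huw : ∀ w : G ⧸ N, t' • w = w → (u : G) • w ≠ w := by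
      intro w hw e
      rcases hfixt w hw with rfl | rfl
      · exact hba (hua'.symm.trans e)
      · exact hba (smul_left_cancel (u : G) (e.trans hua'.symm))
    have hum : ∀ w : G ⧸ N, (u : G) • w = w → (u : G) • (y₀ • w) = y₀ • w := fun w hw => by
      rw [← mul_smul, hy₀u.eq, mul_smul, hw]
    have hfa : (u : G) • ((h : G) • a) = (h : G) • a := by
      rw [← hh', mul_smul, inv_smul_smul, mul_smul, ht'a]
    have hfb : (u : G) • ((h : G) • b) = (h : G) • b := by
      rw [← hh', mul_smul, inv_smul_smul, mul_smul, ht'b]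
    refine huw ((h : G) • a) ?_ hfa
    rw [← hy₀2, mul_smul]
    rcases hfixu _ (hum _ hfa) with e | e
    · rw [e, e]
    · rw [e]
      rcases hfixu _ (hum _ hfb) with e' | e'
      · exact e'
      · exact absurd (smul_left_cancel y₀ (e.trans e'.symm)) (fun e'' => hba (smul_left_cancel (h : G) e'').symm)
  -- apply the sharply triply transitive classification
  have hcomm : ∀ w o : G ⧸ N, o ≠ w → ∀ g k : G,
      g • w = w → g • o = o → k • w = w → k • o = o → g * k = k * g := by
    intro w o how g k g1 g2 k1 k2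
    obtain ⟨⟨m, hmH⟩, hm1, hm2⟩ :=
      (MulAction.is_two_pretransitive_iff.1 h2H) (show w ≠ o from Ne.symm how) (show a ≠ b from Ne.symm hba)
    have hm1' : m • w = a := hm1
    have hm2' : m • o = b := hm2
    have hto : ∀ z : G, z • w = w → z • o = o → m * z * m⁻¹ ∈ L := fun z z1 z2 =>
      (hLm _).2 ⟨by rw [← hm1', mul_smul, inv_smul_smul, mul_smul, z1],
        by rw [← hm2', mul_smul, inv_smul_smul, mul_smul, z2]⟩
    have := hLcomm _ (hto g g1 g2) _ (hto k k1 k2)
    rw [conj_mul, conj_mul, mul_left_inj, mul_right_inj] at this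
    exact this
  have hcardΩ : 3 ≤ Fintype.card (G ⧸ N) := by
    rw [← Nat.card_eq_fintype_card, hn]; omega
  obtain ⟨K, iK, iKt, hK, e⟩ := H59.sharp_three_PGL hcardΩ h3 hfix hcomm
  refine ⟨K, iK, iKt, ?_, e⟩
  rw [← Nat.card_eq_fintype_card (α := G ⧸ N), hn] at hK
  omega

end H79.SameNorm
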