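import Cfsg.Agent.H79.SameNorm.Cond
import Cfsg.Agent.H31.Hamilton
import Cfsg.Agent.H6.Transfer
import Cfsg.Agent.H5.Burnside
import Mathlib.GroupTheory.SpecificGroups.Cyclic

/-!
The centraliser of a central involution when it is not a `2`-group.
-/

set_option autoImplicit false
set_option linter.style.haveILetI false
set_option linter.unusedSectionVars false
set_option maxHeartbeats 1000000

namespace H79.SameNorm

open Subgroup

universe u

variable {G : Type u} [Group G]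

/-- The centraliser of the involution `t` is `K⟨s⟩`, `K` abelian inverted by `s`. -/
structure Shape (S : Subgroup G) (t s : G) (K : Subgroup G) : Prop where
  t2 : orderOf t = 2
  s2 : orderOf s = 2
  tS : t ∈ S
  sS : s ∈ S
  st : Commute s t
  tK : t ∈ K
  sK : s ∉ K
  comm : ∀ a ∈ K, ∀ b ∈ K, a * b = b * a
  le : ∀ k ∈ K, Commute k t
  inv : ∀ k ∈ K, s * k * s⁻¹ = k⁻¹
  cov : ∀ g : G, Commute g t → g ∈ K ∨ g * s ∈ K
  uniq : ∀ v ∈ K, orderOf v = 2 → v = t
  tc : ∀ a ∈ S, Commute a t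

/-- The same centraliser. -/
def Same (t v : G) : Prop := ∀ g : G, Commute g v ↔ Commute g t

variable [Finite G]

/-- Splitting an element into its `2`-part and odd part. -/
theorem exists_parts (x : G) : ∃ a b : G, x = a * b ∧ a ∈ zpowers x ∧ b ∈ zpowers x ∧
    (∃ k, orderOf a ∣ 2 ^ k) ∧ Odd (orderOf b) := by
  obtain ⟨k, m, hm, hx⟩ := Nat.exists_eq_two_pow_mul_odd (orderOf_pos x).ne'
  have hco : IsCoprime (m : ℤ) ((2 ^ k : ℕ) : ℤ) :=
    Int.isCoprime_iff_nat_coprime.2 (by simpa using (hm.coprime_two_left.pow_left k).symm)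
  obtain ⟨p, q, hpq⟩ := hco
  refine ⟨(x ^ m) ^ p, (x ^ 2 ^ k) ^ q, ?_, zpow_mem (npow_mem_zpowers x m) _,
    zpow_mem (npow_mem_zpowers x _) _, ⟨k, ?_⟩, ?_⟩
  · rw [← zpow_natCast, ← zpow_mul, ← zpow_natCast x (2 ^ k), ← zpow_mul, ← zpow_add,
      mul_comm (m : ℤ), mul_comm ((2 ^ k : ℕ) : ℤ), hpq, zpow_one]
  · refine (orderOf_dvd_of_mem_zpowers (zpow_mem (mem_zpowers _) _)).trans
      (orderOf_dvd_of_pow_eq_one ?_)
    rw [← pow_mul, mul_comm, ← hx, pow_orderOf_eq_one]
  · refine hm.of_dvd_nat ((orderOf_dvd_of_mem_zpowers (zpow_mem (mem_zpowers _) _)).trans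
      (orderOf_dvd_of_pow_eq_one ?_))
    rw [← pow_mul, ← hx, pow_orderOf_eq_one]

theorem commute_of_coprime_norm {a b : G} (hco : (orderOf a).Coprime (orderOf b))
    (h1 : a * b * a⁻¹ ∈ zpowers b) (h2 : b * a * b⁻¹ ∈ zpowers a) : Commute a b := by
  have hca : a * b * a⁻¹ * b⁻¹ ∈ zpowers a := by
    rw [show a * b * a⁻¹ * b⁻¹ = a * (b * a * b⁻¹)⁻¹ by group]
    exact mul_mem (mem_zpowers a) (inv_mem h2)
  have hcb : a * b * a⁻¹ * b⁻¹ ∈ zpowers b := mul_mem h1 (inv_mem (mem_zpowers b))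
  have h := orderOf_eq_one_iff.1 (Nat.eq_one_of_dvd_coprimes hco
    (orderOf_dvd_of_mem_zpowers hca) (orderOf_dvd_of_mem_zpowers hcb))
  exact mul_inv_eq_iff_eq_mul.1 (mul_inv_eq_one.1 h)

theorem coprime_of_two_odd {a b : G} (ha : ∃ k, orderOf a ∣ 2 ^ k) (hb : Odd (orderOf b)) :
    (orderOf a).Coprime (orderOf b) := by
  obtain ⟨k, hk⟩ := ha
  exact Nat.Coprime.coprime_dvd_left hk (hb.coprime_two_left.pow_left k)

theorem Cond.commute_two (hc : Cond G) {t a v y : G} (ht : orderOf t = 2) (hat : Commute a t)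
    (ha : ∃ k, orderOf a ∣ 2 ^ k) (hv : v ∈ zpowers a) (hv2 : orderOf v = 2) (hvs : Same t v)
    (hyt : Commute y t) (hy : Odd (orderOf y)) : Commute a y := by
  by_cases hy1 : y = 1
  · exact hy1 ▸ Commute.one_right a
  refine commute_of_coprime_norm (coprime_of_two_odd ha hy) ((hc.f2 ht hyt.symm hy hy1 a).1 hat) ?_
  exact (hc.f1 hv2 hv y).1 ((hvs y).2 hyt)

/-- An involution commuting with `t` centralises `C(t)`'s odd elements or inverts them. -/
theorem Cond.dichotomy (hc : Cond G) {t v : G} (ht : orderOf t = 2) (hv : orderOf v = 2)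
    (hvt : Commute v t) (hns : ¬ Same t v) {y : G} (hy : Odd (orderOf y)) (hyt : Commute y t) :
    v * y * v⁻¹ = y⁻¹ := by
  by_cases hy1 : y = 1
  · subst hy1; simp
  have hvy : v * y * v⁻¹ ∈ zpowers y := (hc.f2 ht hyt.symm hy hy1 v).1 hvt
  set f := y * (v * y * v⁻¹) with hf
  by_contra hne
  have hfy : f ∈ zpowers y := mul_mem (mem_zpowers y) hvy
  have hf1 : f ≠ 1 := fun h => hne (eq_inv_of_mul_eq_one_right h)
  have hfv : Commute v f := commute_of_conj_eq' (by
    obtain ⟨i, hi⟩ := mem_zpowers_iff.1 hvy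
    rw [hf, show v * (y * (v * y * v⁻¹)) * v⁻¹ = (v * y * v⁻¹) * ((v * v) * y * (v * v)⁻¹) by group,
      two_pow_two hv, ← hi, one_mul, inv_one, mul_one]
    exact ((Commute.refl y).zpow_left i).eq)
  have hft : Commute f t := by
    obtain ⟨i, hi⟩ := mem_zpowers_iff.1 hfy
    exact hi ▸ hyt.zpow_left i
  have hodd : Odd (orderOf f) := hy.of_dvd_nat (orderOf_dvd_of_mem_zpowers hfy)
  exact hns fun g => (hc.f2 hv hfv hodd hf1 g).trans (hc.f2 ht hft.symm hodd hf1 g).symm
where commute_of_conj_eq' {g a : G} (h : g * a * g⁻¹ = a) : Commute g a :=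
  mul_inv_eq_iff_eq_mul.1 h

theorem mem_sylow_of_norm {S : Sylow 2 G} {a : G} (ha : ∃ k, orderOf a ∣ 2 ^ k)
    (hn : ∀ s ∈ (S : Subgroup G), s * a * s⁻¹ ∈ zpowers a) : a ∈ (S : Subgroup G) := by
  haveI : Fact (Nat.Prime 2) := ⟨Nat.prime_two⟩
  obtain ⟨k, hk⟩ := ha
  obtain ⟨i, -, hi⟩ := (Nat.dvd_prime_pow Nat.prime_two).1 hk
  have hp : IsPGroup 2 ↥(zpowers a) := IsPGroup.of_card (n := i) (by rw [Nat.card_zpowers, hi])
  have hle : (S : Subgroup G) ≤ normalizer ((zpowers a : Subgroup G) : Set G) := by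
    intro s hs
    refine mem_normalizer_iff.2 fun z => ⟨fun hz => ?_, fun hz => ?_⟩
    · obtain ⟨j, rfl⟩ := mem_zpowers_iff.1 hz
      rw [← conj_zpow]; exact zpow_mem (hn s hs) j
    · obtain ⟨j, hj⟩ := mem_zpowers_iff.1 hz
      have h1 := zpow_mem (hn s⁻¹ (inv_mem hs)) j
      rwa [conj_zpow, hj, inv_inv, ← mul_assoc, ← mul_assoc, inv_mul_cancel, one_mul,
        inv_mul_cancel_right] at h1
  have h := hp.to_sup_of_normal_left' S.isPGroup' hle
  rw [← S.is_maximal' h le_sup_right]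
  exact mem_sup_left (mem_zpowers a)

theorem NS.quaternion_false (hns : NS G) {S : Sylow 2 G}
    (hn : ∀ x ∈ (S : Subgroup G), ∀ s ∈ (S : Subgroup G), s * x * s⁻¹ ∈ zpowers x)
    (hA : ∀ e ∈ (S : Subgroup G), orderOf e = 2 → ∀ s ∈ (S : Subgroup G), Commute s e)
    (hS : ∀ e ∈ (S : Subgroup G), orderOf e = 2 → ∀ a : G, (∃ k, orderOf a ∣ 2 ^ k) →
      Commute a e → a ∈ (S : Subgroup G)) :
    ∀ a ∈ (S : Subgroup G), ∀ b ∈ (S : Subgroup G), a * b = b * a := by
  intro a0 ha0 b0 hb0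
  by_contra hab0
  have hpg : IsPGroup 2 ↥(S : Subgroup G) := S.isPGroup'
  have hAN : H31.Hamilton.AllNormal ↥(S : Subgroup G) := fun H => ⟨fun h hh s => by
    obtain ⟨i, hi⟩ := mem_zpowers_iff.1 (hn _ h.2 _ s.2)
    rw [show s * h * s⁻¹ = h ^ i from Subtype.ext (by push_cast; exact hi.symm)]
    exact zpow_mem hh i⟩
  haveI : Fact (Nat.Prime 2) := ⟨Nat.prime_two⟩
  obtain ⟨-, ⟨a, haS⟩, ⟨b, hbS⟩, ha4, -, hbb, hba⟩ := H31.Hamilton.exists_quaternion_pair hAN (p := 2)
    (x := ⟨a0, ha0⟩) (y := ⟨b0, hb0⟩) (hpg _) (hpg _) (fun h => hab0 (congrArg Subtype.val h))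
  rw [orderOf_mk] at ha4
  have hbb' : b * b = a * a := congrArg Subtype.val hbb
  have hba' : b * a * b⁻¹ = a⁻¹ := congrArg Subtype.val hba
  have h4 : a * a * (a * a) = 1 := by
    rw [show a * a * (a * a) = a ^ 4 by simp only [pow_succ, pow_zero, one_mul, mul_assoc], ← ha4,
      pow_orderOf_eq_one]
  have hz1 : a * a ≠ 1 := fun h => by
    have h2 : orderOf a ∣ 2 := orderOf_dvd_of_pow_eq_one (by rw [pow_two]; exact h)
    rw [ha4] at h2; norm_num at h2
  have hz : orderOf (a * a) = 2 := two_of_sq h4 hz1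
  obtain ⟨g, heS, hne⟩ := hns.not_isolated S hz (mul_mem haS haS)
  set e := g * (a * a) * g⁻¹ with he
  have he2 : orderOf e = 2 := conj_two hz g
  set a' := g * a * g⁻¹ with ha'
  have hsq : a' * a' = e := by rw [he, ha']; group
  have ha'o : orderOf a' = 4 := by
    rw [← ha4]
    exact orderOf_injective (MulAut.conj g).toMonoidHom (MulAut.conj g).injective a
  have ha'S : a' ∈ (S : Subgroup G) := hS e heS he2 a' ⟨2, by rw [ha'o]; norm_num⟩ (by
    show _ * _ = _ * _
    rw [← hsq]; group)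
  have hea : e ∈ zpowers a' := hsq ▸ mul_mem (mem_zpowers _) (mem_zpowers _)
  have comm : ∀ x ∈ (S : Subgroup G), (a * a) ∈ zpowers x → Commute x a' := by
    intro x hx hxz
    by_contra hc
    have hcx : x * a' * x⁻¹ * a'⁻¹ ∈ zpowers x := by
      rw [show x * a' * x⁻¹ * a'⁻¹ = x * (a' * x * a'⁻¹)⁻¹ by group]
      exact mul_mem (mem_zpowers x) (inv_mem (hn _ hx _ ha'S))
    have hcy : x * a' * x⁻¹ * a'⁻¹ ∈ zpowers a' :=
      mul_mem (hn _ ha'S _ hx) (inv_mem (mem_zpowers a'))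
    have hne1 : x * a' * x⁻¹ * a'⁻¹ ≠ 1 := fun h =>
      hc (mul_inv_eq_iff_eq_mul.1 (mul_inv_eq_one.1 h))
    obtain ⟨v, hv, hv2, -⟩ := exists_inv_mem hpg
      (mul_mem (mul_mem (mul_mem hx ha'S) (inv_mem hx)) (inv_mem ha'S)) hne1
    exact hne ((involution_mem_unique hea (zpowers_le.2 hcy hv) he2 hv2).trans
      (involution_mem_unique (zpowers_le.2 hcx hv) hxz hv2 hz))
  have hc1 : Commute a a' := comm a haS (mul_mem (mem_zpowers a) (mem_zpowers a))
  have hc2 : Commute b a' := comm b hbS (hbb' ▸ mul_mem (mem_zpowers b) (mem_zpowers b))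
  have hm : (a * a') * (a * a') = a * a * e := by
    rw [← hsq, hc1.symm.mul_mul_mul_comm]
  have hm1 : a * a * e ≠ 1 := fun h => hne (by
    rw [← inv_of_two hz]; exact eq_inv_of_mul_eq_one_right h)
  have hm2 : orderOf (a * a * e) = 2 := two_of_sq
    (by rw [((hA e heS he2) _ (mul_mem haS haS)).symm.mul_mul_mul_comm, two_pow_two he2, mul_one,
      h4]) hm1
  have hbm : b * (a * a') * b⁻¹ = a⁻¹ * a' := by
    rw [show b * (a * a') * b⁻¹ = (b * a * b⁻¹) * (b * a' * b⁻¹) by group, hba', hc2.eq,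
      mul_inv_cancel_right]
  have hzm : a * a ∈ zpowers (a * a') := by
    have h1 := hn _ (mul_mem haS ha'S) _ hbS
    rw [hbm] at h1
    have h2 := mul_mem (mem_zpowers (a * a')) (inv_mem h1)
    rwa [show (a * a') * (a⁻¹ * a')⁻¹ = a * a by group] at h2
  have hkey := involution_mem_unique hzm (hm ▸ mul_mem (mem_zpowers _) (mem_zpowers _)) hz hm2
  exact ne_one_of_two he2 (mul_eq_left.1 hkey.symm)

/-- The shape of the centraliser of a central involution centralising an element of odd order. -/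
theorem shape_of_odd (hc : Cond G) (hns : NS G) (hO : Cfsg.pResidual 2 G = ⊤) (S : Sylow 2 G)
    {t : G} (ht : orderOf t = 2) (htS : t ∈ (S : Subgroup G))
    (htc : ∀ s ∈ (S : Subgroup G), Commute s t)
    {y₀ : G} (hy₀ : Odd (orderOf y₀)) (hy₀1 : y₀ ≠ 1) (hy₀t : Commute y₀ t)
    (hnab : ∃ a b : G, Commute a t ∧ Commute b t ∧ a * b ≠ b * a) :
    ∃ s K, Shape (S : Subgroup G) t s K := by
  haveI h2f : Fact (Nat.Prime 2) := ⟨Nat.prime_two⟩
  have hpg : IsPGroup 2 ↥(S : Subgroup G) := S.isPGroup'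
  have h2el : ∀ x ∈ (S : Subgroup G), ∃ k, orderOf x ∣ 2 ^ k := fun x hx =>
    (exists_order hpg hx).elim fun k hk => ⟨k, hk.dvd⟩
  -- some involution of `S` has another centraliser
  obtain ⟨u, huS, hu, hus⟩ : ∃ u ∈ (S : Subgroup G), orderOf u = 2 ∧ ¬ Same t u := by
    by_contra hA
    push Not at hA
    have hn2 : ∀ x ∈ (S : Subgroup G), ∀ g, Commute g t → g * x * g⁻¹ ∈ zpowers x := by
      intro x hx g hg
      by_cases h1 : x = 1
      · subst h1; simp
      obtain ⟨v, hv, hv2, hvS⟩ := exists_inv_mem hpg hx h1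
      exact (hc.f1 hv2 hv g).1 ((hA v hvS hv2 g).2 hg)
    have hnorm : ∀ a, Commute a t → (∃ k, orderOf a ∣ 2 ^ k) → a ∈ (S : Subgroup G) := by
      intro a hat ha
      obtain ⟨k, hk⟩ := ha
      obtain ⟨i, -, hi⟩ := (Nat.dvd_prime_pow Nat.prime_two).1 hk
      have hp : IsPGroup 2 ↥(zpowers a) := IsPGroup.of_card (n := i) (by rw [Nat.card_zpowers, hi])
      have hle : zpowers a ≤ normalizer ((S : Subgroup G) : Set G) := by
        rw [zpowers_le, mem_normalizer_iff]
        refine fun z => ⟨fun hz => ?_, fun hz => ?_⟩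
        · exact zpowers_le.2 hz (hn2 z hz a hat)
        · have h := zpowers_le.2 hz (hn2 _ hz a⁻¹ hat.inv_left)
          rwa [inv_inv, ← mul_assoc, ← mul_assoc, inv_mul_cancel, one_mul,
            inv_mul_cancel_right] at h
      have h := hp.inf_normalizer_sylow S
      exact (h.le ⟨mem_zpowers a, hle (mem_zpowers a)⟩).2
    have hSab := hns.quaternion_false (fun x hx s hs => hn2 x hx s (htc s hs))
      (fun e he he2 s hs => (hA e he he2 s).2 (htc s hs))
      (fun e he he2 a ha hae => hnorm a ((hA e he he2 a).1 hae) ha)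
    -- everything commutes
    have hAN : H31.Hamilton.AllNormal ↥(centralizer ({t} : Set G)) := fun H => ⟨fun h hh g => by
      obtain ⟨a, b, hab, hax, hbx, ha, hb⟩ := exists_parts (h : G)
      have hht : Commute (h : G) t := mem_centralizer_singleton_iff.1 h.2
      have hgt : Commute (g : G) t := mem_centralizer_singleton_iff.1 g.2
      have hat : Commute a t := by
        obtain ⟨i, rfl⟩ := mem_zpowers_iff.1 hax; exact hht.zpow_left i
      have hbt : Commute b t := by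
        obtain ⟨i, rfl⟩ := mem_zpowers_iff.1 hbx; exact hht.zpow_left i
      have h1 : (g : G) * a * (g : G)⁻¹ ∈ zpowers (h : G) :=
        zpowers_le.2 hax (hn2 a (hnorm a hat ha) g hgt)
      have h2 : (g : G) * b * (g : G)⁻¹ ∈ zpowers (h : G) := by
        by_cases hb1 : b = 1
        · subst hb1; simp
        · exact zpowers_le.2 hbx ((hc.f2 ht hbt.symm hb hb1 g).1 hgt)
      have h3 : (g : G) * h * (g : G)⁻¹ ∈ zpowers (h : G) := by
        rw [show (g : G) * h * (g : G)⁻¹ = ((g : G) * a * (g : G)⁻¹) * ((g : G) * b * (g : G)⁻¹) by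
          rw [hab, conj_mul]]
        exact mul_mem h1 h2
      obtain ⟨i, hi⟩ := mem_zpowers_iff.1 h3
      rw [show g * h * g⁻¹ = h ^ i from Subtype.ext (by push_cast; exact hi.symm)]
      exact zpow_mem hh i⟩
    obtain ⟨a₀, b₀, ha₀, hb₀, hab₀⟩ := hnab
    obtain ⟨a, b, hab, hax, hbx, ha, hb⟩ := exists_parts a₀
    have hat : Commute a t := by
      obtain ⟨i, rfl⟩ := mem_zpowers_iff.1 hax; exact ha₀.zpow_left i
    have hbt : Commute b t := by
      obtain ⟨i, rfl⟩ := mem_zpowers_iff.1 hbx; exact ha₀.zpow_left i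
    have hodd : ∀ y, Commute y t → Odd (orderOf y) → ∀ g, Commute g t → Commute g y := by
      intro y hyt hy g hg
      exact congrArg Subtype.val (mem_center_iff.1 (H31.Hamilton.odd_mem_center hAN
        (x := (⟨y, mem_centralizer_singleton_iff.2 hyt.eq⟩ : centralizer ({t} : Set G)))
        (by rwa [orderOf_mk])) ⟨g, mem_centralizer_singleton_iff.2 hg.eq⟩)
    obtain ⟨c, d, hcd, hcx, hdx, hc', hd'⟩ := exists_parts b₀
    have hct : Commute c t := by
      obtain ⟨i, rfl⟩ := mem_zpowers_iff.1 hcx; exact hb₀.zpow_left i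
    have hdt : Commute d t := by
      obtain ⟨i, rfl⟩ := mem_zpowers_iff.1 hdx; exact hb₀.zpow_left i
    have hac : Commute a c := hSab a (hnorm a hat ha) c (hnorm c hct hc')
    apply hab₀
    rw [hab, hcd]
    exact ((hac.mul_right (hodd d hdt hd' a hat)).mul_left
      ((hodd b hbt hb c hct).symm.mul_right (hodd d hdt hd' b hbt))).eq
  have hut : Commute u t := htc u huS
  -- an element of prime order
  obtain ⟨p, hp, hpd⟩ := Nat.exists_prime_and_dvd (n := orderOf y₀)
    (fun h => hy₀1 (orderOf_eq_one_iff.1 h))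
  set y := y₀ ^ (orderOf y₀ / p) with hydef
  have hyo : orderOf y = p := orderOf_pow_orderOf_div (orderOf_pos _).ne' hpd
  have hp2 : Odd p := hy₀.of_dvd_nat hpd
  have hy : Odd (orderOf y) := hyo.symm ▸ hp2
  have hy1 : y ≠ 1 := fun h => hp.ne_one (by rw [← hyo, h, orderOf_one])
  have hyt : Commute y t := hy₀t.pow_left _
  have huy : u * y * u⁻¹ = y⁻¹ := hc.dichotomy ht hu hut hus hy hyt
  have hyy : y⁻¹ ≠ y := fun h => hy1 (orderOf_eq_one_iff.1 (Nat.eq_one_of_dvd_coprimes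
    hy.coprime_two_left (orderOf_dvd_of_pow_eq_one (by
      rw [pow_two]; nth_rw 1 [← h]; exact inv_mul_cancel y)) dvd_rfl))
  have hsame : ∀ v, orderOf v = 2 → Commute v t → Commute v y → Same t v := by
    intro v hv hvt hvy
    by_contra h
    have h' := hc.dichotomy ht hv hvt h hy hyt
    rw [hvy.eq, mul_inv_cancel_right] at h'
    exact hyy h'.symm
  have hnormy : ∀ g, Commute g t → g * y * g⁻¹ ∈ zpowers y := fun g hg =>
    (hc.f2 ht hyt.symm hy hy1 g).1 hg
  set S₀ : Subgroup G := (S : Subgroup G) ⊓ centralizer {y} with hS₀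
  have hS₀m : ∀ a, a ∈ S₀ ↔ a ∈ (S : Subgroup G) ∧ Commute a y := fun a => by
    rw [hS₀, mem_inf, mem_centralizer_singleton_iff]; exact Iff.rfl
  have hS₀conj : ∀ a ∈ S₀, ∀ s ∈ (S : Subgroup G), s * a * s⁻¹ ∈ S₀ := by
    intro a ha s hs
    obtain ⟨haS, hay⟩ := (hS₀m a).1 ha
    refine (hS₀m _).2 ⟨mul_mem (mul_mem hs haS) (inv_mem hs), ?_⟩
    obtain ⟨i, hi⟩ := mem_zpowers_iff.1 (hnormy s⁻¹ (htc _ (inv_mem hs)))
    rw [inv_inv] at hi
    have : Commute a (s⁻¹ * y * s) := hi ▸ hay.zpow_right i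
    show _ * _ = _ * _
    calc s * a * s⁻¹ * y = s * (a * (s⁻¹ * y * s)) * s⁻¹ := by group
      _ = s * ((s⁻¹ * y * s) * a) * s⁻¹ := by rw [this.eq]
      _ = _ := by group
  have hS₀n : ∀ a ∈ S₀, ∀ g, Commute g t → g * a * g⁻¹ ∈ zpowers a := by
    intro a ha g hg
    by_cases h1 : a = 1
    · subst h1; simp
    obtain ⟨v, hv, hv2, hvS⟩ := exists_inv_mem hpg ((hS₀m a).1 ha).1 h1
    have hvy : Commute v y := by
      obtain ⟨i, rfl⟩ := mem_zpowers_iff.1 hv; exact ((hS₀m a).1 ha).2.zpow_left i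
    exact (hc.f1 hv2 hv g).1 ((hsame v hv2 (htc v hvS) hvy g).2 hg)
  have hunS₀ : ∀ a ∈ S₀, ¬ (u * a ∈ S₀) := fun a ha h => hyy (by
    have h1 : Commute u y := by
      have := ((hS₀m _).1 h).2.mul_left ((hS₀m a).1 ha).2.inv_left
      rwa [mul_inv_cancel_right] at this
    rw [h1.eq, mul_inv_cancel_right] at huy
    exact huy.symm)
  have hinv₀ : ∀ a ∈ S₀, u * a * u⁻¹ = a⁻¹ := by
    intro a ha
    have hsq : (u * a) * (u * a) = (u * a * u⁻¹) * a := by rw [inv_of_two hu]; group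
    by_contra hne
    have h1 : (u * a) * (u * a) ≠ 1 := fun h => hne (eq_inv_of_mul_eq_one_left (hsq ▸ h))
    have hmem : (u * a) * (u * a) ∈ S₀ := hsq ▸ mul_mem (hS₀conj a ha u huS) ha
    obtain ⟨v, hv, hv2, hvS⟩ := exists_inv_mem hpg ((hS₀m _).1 hmem).1 h1
    have hvy : Commute v y := by
      obtain ⟨i, rfl⟩ := mem_zpowers_iff.1 hv; exact ((hS₀m _).1 hmem).2.zpow_left i
    have huaS : u * a ∈ (S : Subgroup G) := mul_mem huS ((hS₀m a).1 ha).1
    refine hunS₀ a ha ((hS₀m _).2 ⟨huaS, hc.commute_two ht (htc _ huaS) (h2el _ huaS)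
      (zpowers_le.2 (mul_mem (mem_zpowers _) (mem_zpowers _)) hv) hv2
      (hsame v hv2 (htc v hvS) hvy) hyt hy⟩)
  have hcomm₀ : ∀ a ∈ S₀, ∀ b ∈ S₀, a * b = b * a := by
    intro a ha b hb
    have h := hinv₀ _ (mul_mem ha hb)
    rw [← conj_mul, hinv₀ a ha, hinv₀ b hb, mul_inv_rev] at h
    exact (inv_injective (by rw [mul_inv_rev, mul_inv_rev]; exact h)).symm
  -- `S₀` has index two in `S`
  have hidx : ∀ a ∈ (S : Subgroup G), a ∈ S₀ ∨ a * u ∈ S₀ := by
    haveI := Fact.mk hp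
    haveI hcy : IsCyclic (MulAut ↥(zpowers y)) := by
      haveI : IsCyclic (ZMod (Nat.card ↥(zpowers y)))ˣ := by
        rw [Nat.card_zpowers, hyo]; infer_instance
      exact (IsCyclic.mulAutMulEquiv ↥(zpowers y)).symm.isCyclic.1 inferInstance
    have hSN : (S : Subgroup G) ≤ normalizer ((zpowers y : Subgroup G) : Set G) := by
      intro s hs
      refine mem_normalizer_iff.2 fun z => ⟨fun hz => ?_, fun hz => ?_⟩
      · obtain ⟨i, rfl⟩ := mem_zpowers_iff.1 hz
        rw [← conj_zpow]; exact zpow_mem (hnormy s (htc s hs)) i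
      · obtain ⟨i, hi⟩ := mem_zpowers_iff.1 hz
        have h1 := zpow_mem (hnormy s⁻¹ (htc _ (inv_mem hs))) i
        rwa [conj_zpow, hi, inv_inv, ← mul_assoc, ← mul_assoc, inv_mul_cancel, one_mul,
          inv_mul_cancel_right] at h1
    set ρ : ↥(S : Subgroup G) →* MulAut ↥(zpowers y) :=
      (normalizerMonoidHom (zpowers y)).comp (inclusion hSN) with hρ
    have hρy : ∀ s : ↥(S : Subgroup G),
        ((ρ s ⟨y, mem_zpowers y⟩ : ↥(zpowers y)) : G) = s * y * (s : G)⁻¹ := fun s => rfl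
    have hker : ∀ s : ↥(S : Subgroup G), ρ s = 1 ↔ (s : G) ∈ S₀ := by
      intro s
      refine ⟨fun h => (hS₀m _).2 ⟨s.2, ?_⟩, fun h => ?_⟩
      · have h1 := hρy s
        rw [h] at h1
        exact mul_inv_eq_iff_eq_mul.1 h1.symm
      · ext z
        obtain ⟨i, hi⟩ := mem_zpowers_iff.1 z.2
        show (s : G) * z * (s : G)⁻¹ = z
        rw [← hi, (((hS₀m _).1 h).2.zpow_right i).eq, mul_inv_cancel_right]
    obtain ⟨γ, hγ⟩ := IsCyclic.exists_generator (α := MulAut ↥(zpowers y))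
    set u' : ↥(S : Subgroup G) := ⟨u, huS⟩ with hu'
    have hι2 : orderOf (ρ u') = 2 := by
      refine two_of_sq (by rw [← map_mul, show u' * u' = 1 from Subtype.ext (two_pow_two hu), map_one])
        fun h => hunS₀ 1 (one_mem _) (by rw [mul_one]; exact (hker u').1 h)
    have huniq : ∀ z : MulAut ↥(zpowers y), z * z = 1 → z = 1 ∨ z = ρ u' := by
      intro z hz
      by_cases h1 : z = 1
      · exact Or.inl h1
      · exact Or.inr (involution_mem_unique (hγ z) (hγ _) (two_of_sq hz h1) hι2)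
    have hsmall : ∀ s : ↥(S : Subgroup G), ρ s * ρ s = 1 → (s : G) ∈ S₀ ∨ (s : G) * u ∈ S₀ := by
      intro s hs
      rcases huniq _ hs with h | h
      · exact Or.inl ((hker s).1 h)
      · refine Or.inr ((hker (s * u')).1 ?_)
        rw [map_mul, h, two_pow_two hι2]
    intro a ha
    by_contra hna
    have hρa : ρ ⟨a, ha⟩ * ρ ⟨a, ha⟩ ≠ 1 := fun h => hna (hsmall _ h)
    -- an element acting with order four
    obtain ⟨k, hk⟩ := exists_order hpg ha
    have hd : orderOf (ρ ⟨a, ha⟩) ∣ 2 ^ k := by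
      rw [← hk, ← orderOf_mk a ha]; exact orderOf_map_dvd ρ _
    obtain ⟨i, -, hi⟩ := (Nat.dvd_prime_pow Nat.prime_two).1 hd
    rcases i with _ | _ | i
    · exact hρa (by rw [orderOf_eq_one_iff.1 hi, one_mul])
    · exact hρa (by rw [← pow_two]; exact orderOf_dvd_iff_pow_eq_one.1 (by rw [hi]; norm_num))
    set w : ↥(S : Subgroup G) := ⟨a, ha⟩ ^ 2 ^ i with hw
    have hρw : orderOf (ρ (w * w)) = 2 := by
      rw [hw, ← pow_add, ← two_mul, ← pow_succ', map_pow]
      exact exists_two hi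
    have hρv : ρ (w * w) = ρ u' := involution_mem_unique (hγ _) (hγ _) hρw hι2
    -- the kernel is elementary
    have hexp : ∀ b ∈ S₀, b * b = 1 := by
      intro b hb
      obtain ⟨j, hj⟩ := mem_zpowers_iff.1 (hS₀n b hb w (htc _ w.2))
      have hv0 : ((w * w * u' : ↥(S : Subgroup G)) : G) ∈ S₀ :=
        (hker _).1 (by rw [map_mul, hρv, two_pow_two hι2])
      have h2 : b ^ (j * j) = b⁻¹ := by
        rw [zpow_mul, hj, conj_zpow, hj]
        have hc0 := hcomm₀ _ hv0 _ (hinv₀ b hb ▸ inv_mem hb : u * b * u⁻¹ ∈ S₀)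
        simp only [Subgroup.coe_mul, hu'] at hc0
        rw [← hinv₀ b hb, show (w : G) * ((w : G) * b * (w : G)⁻¹) * (w : G)⁻¹ =
          ((w : G) * w * u * (u⁻¹ * b * u)) * ((w : G) * w * u)⁻¹ by group]
        rw [show u⁻¹ * b * u = u * b * u⁻¹ by rw [inv_of_two hu], hc0, mul_inv_cancel_right]
      obtain ⟨n, hn⟩ := exists_order hpg ((hS₀m b).1 hb).1
      have h3 : b ^ (j * j + 1) = 1 := by rw [zpow_add, h2, zpow_one, inv_mul_cancel]
      have h4 := orderOf_dvd_iff_zpow_eq_one.2 h3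
      rw [hn] at h4
      rcases n with _ | _ | n
      · rw [pow_zero, orderOf_eq_one_iff] at hn; rw [hn, one_mul]
      · rw [← pow_two, show 2 = orderOf b from hn.symm, pow_orderOf_eq_one]
      · exfalso
        have h5 : ((4 : ℕ) : ℤ) ∣ j * j + 1 :=
          (Int.natCast_dvd_natCast.2 (show 4 ∣ 2 ^ (n + 1 + 1) from ⟨2 ^ n, by ring⟩)).trans h4
        rcases Int.even_or_odd' j with ⟨l, rfl | rfl⟩
        · obtain ⟨m, hm⟩ := h5
          rw [show 2 * l * (2 * l) + 1 = 4 * (l * l) + 1 by ring] at hm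
          omega
        · obtain ⟨m, hm⟩ := h5
          rw [show (2 * l + 1) * (2 * l + 1) + 1 = 4 * (l * l + l) + 2 by ring] at hm
          omega
    have hcen : ρ.ker ≤ center ↥(S : Subgroup G) := by
      intro b hb
      refine mem_center_iff.2 fun s => Subtype.ext ?_
      have hb' := (hker b).1 hb
      show Commute (s : G) b
      by_cases h1 : (b : G) = 1
      · rw [h1]; exact Commute.one_right _
      · exact (hsame _ (two_of_sq (hexp _ hb') h1) (htc _ b.2) ((hS₀m _).1 hb').2 _).2 (htc _ s.2)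
    have hSab : IsMulCommutative ↥(S : Subgroup G) :=
      ⟨⟨fun x z => commutative_of_cyclic_center_quotient ρ hcen x z⟩⟩
    -- squares
    have hsq : ∀ b : ↥(S : Subgroup G), orderOf (b * b) = 2 → b * b = w * w := by
      intro b hb
      have hb1 : ρ (b * b) ≠ 1 := fun h => by
        rw [map_mul] at h
        have hS : (b : G) * b = 1 := by
          rcases hsmall b h with h' | h'
          · exact hexp _ h'
          · have hue : Commute u (b : G) := congrArg Subtype.val (hSab.is_comm.comm u' b)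
            have := hexp _ h'
            rwa [hue.mul_mul_mul_comm, two_pow_two hu, mul_one] at this
        exact ne_one_of_two hb (Subtype.ext hS)
      have hbρ : ρ (b * b) = ρ (w * w) := hρv ▸ involution_mem_unique (hγ _) (hγ _)
        (orderOf_eq_prime (by rw [← map_pow, pow_two, two_pow_two hb, map_one]) hb1) hι2
      have h1 : ρ (b * w⁻¹) * ρ (b * w⁻¹) = 1 := by
        rw [← map_mul, show b * w⁻¹ * (b * w⁻¹) = b * b * (w * w)⁻¹ by
          rw [(show Commute w⁻¹ b from hSab.is_comm.comm _ _).mul_mul_mul_comm, mul_inv_rev],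
          map_mul, hbρ, map_inv, mul_inv_cancel]
      have he : ((b * w⁻¹ : ↥(S : Subgroup G)) : G) * (b * w⁻¹ : ↥(S : Subgroup G)) = 1 := by
        rcases hsmall _ h1 with h' | h'
        · exact hexp _ h'
        · have hue : Commute u ((b * w⁻¹ : ↥(S : Subgroup G)) : G) :=
            congrArg Subtype.val (hSab.is_comm.comm u' (b * w⁻¹))
          have := hexp _ h'
          rwa [hue.mul_mul_mul_comm, two_pow_two hu, mul_one] at this
      have he' : (b * w⁻¹) * (b * w⁻¹) = 1 := Subtype.ext he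
      rw [(show Commute w⁻¹ b from hSab.is_comm.comm _ _).mul_mul_mul_comm, ← mul_inv_rev,
        mul_inv_eq_one] at he'
      exact he'
    haveI := hSab
    have hw2 : orderOf (w * w) = 2 := by
      refine two_of_sq ?_ fun h => ne_one_of_two hρw (by rw [h, map_one])
      have h1 : ρ (w * w * u') = 1 := by rw [map_mul, hρv, two_pow_two hι2]
      have h2 := hexp _ ((hker _).1 h1)
      have hue : Commute u' (w * w) := hSab.is_comm.comm _ _
      have h3 : (w * w * u') * (w * w * u') = 1 := Subtype.ext h2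
      rwa [hue.mul_mul_mul_comm, show u' * u' = 1 from Subtype.ext (two_pow_two hu), mul_one] at h3
    obtain ⟨g, hgS, hgne⟩ := hns.not_isolated S (t := ((w * w : ↥(S : Subgroup G)) : G))
      (by rwa [orderOf_coe]) (w * w).2
    obtain ⟨n, hn, hnv⟩ := H5.control_of_commutative S _ (w * w).2 g hgS
    apply hgne
    rw [← hnv]
    have hnw : n * (w : G) * n⁻¹ ∈ (S : Subgroup G) := (mem_normalizer_iff.1 hn _).1 w.2
    have he : ((⟨_, hnw⟩ * ⟨_, hnw⟩ : ↥(S : Subgroup G)) : G) = n * ((w * w : ↥(S : Subgroup G)) : G) * n⁻¹ := by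
      push_cast; group
    rw [← he, hsq ⟨_, hnw⟩ ?_]
    rw [← orderOf_coe, he]
    exact conj_two (by rwa [orderOf_coe]) n
  -- the involution of `S₀` is unique
  have huniq₀ : ∀ e ∈ S₀, orderOf e = 2 → e = t := by
    intro e he he2
    by_contra hne
    have heS := ((hS₀m e).1 he).1
    have hrel : S₀.relIndex (S : Subgroup G) = 2 := by
      rw [relIndex, index_eq_two_iff]
      refine ⟨⟨u, huS⟩, fun b => ?_⟩
      simp only [mem_subgroupOf, Subgroup.coe_mul]
      rcases hidx b b.2 with h | h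
      · refine Or.inr ⟨h, fun h' => hunS₀ 1 (one_mem _) ?_⟩
        have := mul_mem (inv_mem h) h'
        rwa [inv_mul_cancel_left, ← mul_one u] at this
      · refine Or.inl ⟨h, fun h' => hunS₀ 1 (one_mem _) ?_⟩
        have := mul_mem (inv_mem h') h
        rwa [inv_mul_cancel_left, ← mul_one u] at this
    rcases H6.thompson_transfer S S₀ inf_le_left hrel u hu with ⟨M, hM, hM2, -⟩ | ⟨g, hg⟩
    · haveI := hM
      exact H6.not_normal_index_of_pResidual_eq_top hO M hM2
    set f := g * u * g⁻¹ with hf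
    have hfs : Same t f :=
      hsame f (conj_two hu g) (htc _ ((hS₀m _).1 hg).1) ((hS₀m _).1 hg).2
    set y' := g⁻¹ * y * g with hy'
    have hy'u : Commute y' u := by
      have := ((hfs y).2 hyt)
      rw [hf] at this
      show _ * _ = _ * _
      calc g⁻¹ * y * g * u = g⁻¹ * (y * (g * u * g⁻¹)) * g := by group
        _ = g⁻¹ * ((g * u * g⁻¹) * y) * g := by rw [this.eq]
        _ = _ := by rw [hy']; group
    have hy'o : orderOf y' = p := by
      rw [← hyo, hy', show g⁻¹ * y * g = g⁻¹ * y * (g⁻¹)⁻¹ by rw [inv_inv]]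
      exact orderOf_injective (MulAut.conj g⁻¹).toMonoidHom (MulAut.conj g⁻¹).injective y
    have hte : Commute t e := (htc e heS).symm
    have hes : Same t e := hsame e he2 (htc e heS) ((hS₀m e).1 he).2
    have hte2 : orderOf (t * e) = 2 := two_of_sq
      (by rw [hte.symm.mul_mul_mul_comm, two_pow_two ht, two_pow_two he2, mul_one])
      (fun h => hne (by rw [← inv_of_two ht]; exact eq_inv_of_mul_eq_one_right h))
    have htes : Same t (t * e) := hsame _ hte2 ((Commute.refl t).mul_left hte.symm)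
      (hyt.symm.mul_left ((hS₀m e).1 he).2)
    have key : ∀ v, orderOf v = 2 → Same t v → v * y' * v⁻¹ = y'⁻¹ := fun v hv hvs =>
      hc.dichotomy hu hv ((hvs u).2 hut).symm
        (fun h => hus fun a => (h a).symm.trans (hvs a)) (hy'o.symm ▸ hp2) hy'u
    have h1 := key _ hte2 htes
    rw [show t * e * y' * (t * e)⁻¹ = t * (e * y' * e⁻¹) * t⁻¹ by group, key e he2 hes,
      ← conj_inv, key t ht (fun _ => Iff.rfl), inv_inv] at h1
    exact hp.ne_one (Nat.eq_one_of_dvd_coprimes hp2.coprime_two_left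
      (hy'o ▸ orderOf_dvd_of_pow_eq_one (by rw [pow_two]; nth_rw 1 [h1]; exact inv_mul_cancel y'))
      dvd_rfl)
  -- the complement `K`
  set K : Subgroup G := centralizer {t} ⊓ centralizer {y} with hK
  have hKm : ∀ a, a ∈ K ↔ Commute a t ∧ Commute a y := fun a => by
    rw [hK, mem_inf, mem_centralizer_singleton_iff, mem_centralizer_singleton_iff]; exact Iff.rfl
  have hoddinv : ∀ b, Commute b t → Odd (orderOf b) → u * b * u⁻¹ = b⁻¹ := fun b hbt hb =>
    hc.dichotomy ht hu hut hus hb hbt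
  have hoddy : ∀ b, Commute b t → Odd (orderOf b) → Commute b y := by
    intro b hbt hb
    have hpow : ∀ n : ℕ, ∃ z ∈ zpowers y, (b * y) ^ n = b ^ n * z := by
      intro n
      induction n with
      | zero => exact ⟨1, one_mem _, by simp⟩
      | succ n ih =>
        obtain ⟨z, hz, e⟩ := ih
        refine ⟨(b⁻¹ * z * b) * y, mul_mem ?_ (mem_zpowers y), ?_⟩
        · obtain ⟨i, rfl⟩ := mem_zpowers_iff.1 hz
          have h := zpow_mem (hnormy b⁻¹ hbt.inv_left) i
          rwa [inv_inv, show (b⁻¹ * y * b) = b⁻¹ * y * (b⁻¹)⁻¹ by rw [inv_inv], conj_zpow,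
            inv_inv] at h
        · rw [pow_succ, e, pow_succ]; group
    obtain ⟨z, hz, e⟩ := hpow (orderOf b)
    rw [pow_orderOf_eq_one, one_mul] at e
    have hzo : z ^ orderOf y = 1 := by
      obtain ⟨i, rfl⟩ := mem_zpowers_iff.1 hz
      rw [← zpow_natCast, ← zpow_mul, mul_comm, zpow_mul, zpow_natCast, pow_orderOf_eq_one,
        one_zpow]
    have hodd : Odd (orderOf (b * y)) := (hb.mul hy).of_dvd_nat
      (orderOf_dvd_of_pow_eq_one (by rw [pow_mul, e, hzo]))
    have h := hoddinv _ (hbt.mul_left hyt) hodd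
    rw [← conj_mul, hoddinv b hbt hb, huy, mul_inv_rev] at h
    exact Commute.inv_inv_iff.1 h
  have hK2 : ∀ a ∈ K, (∃ k, orderOf a ∣ 2 ^ k) → a ∈ S₀ := by
    intro a ha hak
    obtain ⟨hat, hay⟩ := (hKm a).1 ha
    refine (hS₀m a).2 ⟨mem_sylow_of_norm hak fun s hs => ?_, hay⟩
    by_cases h1 : a = 1
    · subst h1; simp
    obtain ⟨k, hk⟩ := hak
    obtain ⟨i, -, hi⟩ := (Nat.dvd_prime_pow Nat.prime_two).1 hk
    obtain ⟨v, hv, hv2, -⟩ := exists_inv_mem
      (IsPGroup.of_card (n := i) (by rw [Nat.card_zpowers, hi]) : IsPGroup 2 ↥(zpowers a))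
      (mem_zpowers a) h1
    obtain ⟨j, hj⟩ := mem_zpowers_iff.1 hv
    exact (hc.f1 hv2 hv s).1 ((hsame v hv2 (hj ▸ hat.zpow_left j) (hj ▸ hay.zpow_left j) s).2
      (htc s hs))
  have hinvK : ∀ a ∈ K, u * a * u⁻¹ = a⁻¹ := by
    intro a ha
    obtain ⟨hat, hay⟩ := (hKm a).1 ha
    obtain ⟨c, d, hcd, hca, hda, hc2, hd⟩ := exists_parts a
    obtain ⟨i, hi⟩ := mem_zpowers_iff.1 hca
    obtain ⟨j, hj⟩ := mem_zpowers_iff.1 hda
    have hcomm : Commute c d := hi ▸ hj ▸ ((Commute.refl a).zpow_left i).zpow_right j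
    rw [hcd, ← conj_mul, hinv₀ c (hK2 c (hi ▸ zpow_mem ha i) hc2),
      hoddinv d (hj ▸ hat.zpow_left j) hd, mul_inv_rev]
    exact hcomm.inv_inv.eq
  refine ⟨u, K, ht, hu, htS, huS, hut, (hKm t).2 ⟨Commute.refl t, hyt.symm⟩, fun h => hyy ?_, ?_,
    fun k hk => ((hKm k).1 hk).1, hinvK, ?_, ?_, htc⟩
  · have h1 := huy
    rw [((hKm u).1 h).2.eq, mul_inv_cancel_right] at h1
    exact h1.symm
  · intro a ha b hb
    have h := hinvK _ (mul_mem ha hb)
    rw [← conj_mul, hinvK a ha, hinvK b hb, mul_inv_rev] at h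
    exact (inv_injective (by rw [mul_inv_rev, mul_inv_rev]; exact h)).symm
  · intro g hg
    obtain ⟨a, b, hab, hax, hbx, ha, hb⟩ := exists_parts g
    have hat : Commute a t := by
      obtain ⟨i, rfl⟩ := mem_zpowers_iff.1 hax; exact hg.zpow_left i
    have hbt : Commute b t := by
      obtain ⟨i, rfl⟩ := mem_zpowers_iff.1 hbx; exact hg.zpow_left i
    have hbK : b ∈ K := (hKm b).2 ⟨hbt, hoddy b hbt hb⟩
    obtain ⟨k, hk⟩ := ha
    obtain ⟨i, -, hi⟩ := (Nat.dvd_prime_pow Nat.prime_two).1 hk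
    have hle : (S : Subgroup G) ≤ centralizer {t} := fun s hs =>
      mem_centralizer_singleton_iff.2 (htc s hs).eq
    have haC : a ∈ centralizer ({t} : Set G) := mem_centralizer_singleton_iff.2 hat.eq
    obtain ⟨⟨c, hcC⟩, hc'⟩ := exists_sylow_mem (R := zpowers (⟨a, haC⟩ : centralizer ({t} : Set G)))
      (IsPGroup.of_card (n := i) (by rw [Nat.card_zpowers, orderOf_mk, hi])) (S.subtype hle)
    have hcaS : c * a * c⁻¹ ∈ (S : Subgroup G) := hc' _ (mem_zpowers _)
    obtain ⟨l, hl⟩ := mem_zpowers_iff.1 (hnormy c (mem_centralizer_singleton_iff.1 hcC))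
    have hay : a * y * a⁻¹ = y ∨ a * y * a⁻¹ = y⁻¹ := by
      obtain ⟨m, hm⟩ := mem_zpowers_iff.1 (hnormy a hat)
      have hrel : c * a * c⁻¹ * y * (c * a * c⁻¹)⁻¹ = a * y * a⁻¹ := by
        obtain ⟨q, hq⟩ := mem_zpowers_iff.1
          (hnormy c⁻¹ (Commute.inv_left (mem_centralizer_singleton_iff.1 hcC)))
        rw [inv_inv] at hq
        calc c * a * c⁻¹ * y * (c * a * c⁻¹)⁻¹ = c * (a * (c⁻¹ * y * c) * a⁻¹) * c⁻¹ := by group
          _ = c * ((c⁻¹ * y * c) ^ m) * c⁻¹ := by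
            rw [← hq, ← conj_zpow, ← hm, ← zpow_mul, ← zpow_mul, mul_comm]
          _ = y ^ m := by rw [← conj_zpow]; group
          _ = _ := hm
      rcases hidx _ hcaS with h | h
      · left; rw [← hrel, ((hS₀m _).1 h).2.eq, mul_inv_cancel_right]
      · right
        rw [← hrel, show c * a * c⁻¹ * y * (c * a * c⁻¹)⁻¹ =
          (c * a * c⁻¹ * u) * (u⁻¹ * y * u) * (c * a * c⁻¹ * u)⁻¹ by group,
          show u⁻¹ * y * u = y⁻¹ by
            have h' := huy; rw [inv_of_two hu] at h'; rw [inv_of_two hu]; exact h',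
          ((hS₀m _).1 h).2.inv_right.eq, mul_inv_cancel_right]
    rcases hay with h | h
    · exact Or.inl (hab ▸ mul_mem ((hKm a).2 ⟨hat, mul_inv_eq_iff_eq_mul.1 h⟩) hbK)
    · refine Or.inr ?_
      have hau : a * u ∈ K := (hKm _).2 ⟨hat.mul_left hut, mul_inv_eq_iff_eq_mul.1 (by
        rw [show a * u * y * (a * u)⁻¹ = a * (u * y * u⁻¹) * a⁻¹ by group, huy, ← conj_inv, h,
          inv_inv])⟩
      have : g * u = a * u * (u⁻¹ * b * u) := by rw [hab]; group
      rw [this, show u⁻¹ * b * u = b⁻¹ by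
        have h' := hoddinv b hbt hb; rw [inv_of_two hu] at h'; rw [inv_of_two hu]; exact h']
      exact mul_mem hau (inv_mem hbK)
  · intro v hv hv2
    exact huniq₀ v (hK2 v hv ⟨1, by rw [hv2]; norm_num⟩) hv2

end H79.SameNorm
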