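import Cfsg.Agent.H79.SameNorm.TwoDihedral
import Cfsg.Agent.H79.SameNorm.Shape
import Cfsg.Agent.H65.BSWMinus
import Cfsg.Agent.H40.GL2Count
import Cfsg.Agent.H33.TwoPrime
import Cfsg.Agent.S2202

/-!
The case `O²(G) = G`: the centralisers are those of the Brauer–Suzuki–Wall configuration, or the
group is `SL(2,2ⁿ)`.
-/

set_option autoImplicit false
set_option linter.style.haveILetI false
set_option linter.unusedSectionVars false
set_option maxHeartbeats 1000000

namespace H79.SameNorm

open Subgroup

universe u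

variable {G : Type u} [Group G] [Finite G]

theorem NS.not_solvable [Nontrivial G] (hns : NS G) : ¬ Group.IsSolvable G := fun h => by
  haveI := h
  have h1 : (⊤ : Subgroup G) = ⊥ := hns ⊤ inferInstance inferInstance
  exact top_ne_bot h1

theorem NS.even [Nontrivial G] (hns : NS G) : 2 ∣ Nat.card G := by
  rw [← even_iff_two_dvd]
  by_contra h
  exact hns.not_solvable (H16.FT.oddOrder (Nat.not_even_iff_odd.1 h))

theorem exists_central_two [Nontrivial G] (hns : NS G) (S : Sylow 2 G) :
    ∃ t ∈ (S : Subgroup G), orderOf t = 2 ∧ Cen (S : Subgroup G) t := by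
  haveI : Fact (Nat.Prime 2) := ⟨Nat.prime_two⟩
  haveI : Nontrivial ↥(S : Subgroup G) :=
    (Subgroup.nontrivial_iff_ne_bot _).2 (S.ne_bot_of_dvd_card hns.even)
  haveI := (S.isPGroup').center_nontrivial
  obtain ⟨c, hc⟩ := exists_ne (1 : center ↥(S : Subgroup G))
  obtain ⟨v, hv, hv2, hvc⟩ := exists_inv_mem (S.isPGroup'.to_subgroup (center _)) c.2
    (fun h => hc (Subtype.ext h))
  exact ⟨v, v.2, by rwa [orderOf_coe], fun s hs =>
    congrArg Subtype.val (mem_center_iff.1 hvc ⟨s, hs⟩)⟩

theorem shape_of_dih {S : Sylow 2 G} {t c u : G}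
    (hC : ∀ g, Commute g t → g ∈ (S : Subgroup G)) (htc : Cen (S : Subgroup G) t)
    (D : Dih (S : Subgroup G) t c u) : Shape (S : Subgroup G) t u (zpowers c) where
  t2 := D.t2
  s2 := D.u2
  tS := zpowers_le.2 D.cS D.tc
  sS := D.uS
  st := htc u D.uS
  tK := D.tc
  sK := D.uc
  comm := fun a ha b hb => by
    obtain ⟨i, rfl⟩ := mem_zpowers_iff.1 ha
    obtain ⟨j, rfl⟩ := mem_zpowers_iff.1 hb
    exact (((Commute.refl c).zpow_left i).zpow_right j).eq
  le := fun k hk => htc k (zpowers_le.2 D.cS hk)
  inv := fun k hk => by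
    obtain ⟨i, rfl⟩ := mem_zpowers_iff.1 hk
    rw [← conj_zpow, D.inv, inv_zpow]
  cov := fun g hg => D.all g (hC g hg)
  uniq := fun _ hv hv2 => involution_mem_unique hv D.tc hv2 D.t2
  tc := htc

/-- A perfect-case group: `SL(2,2ⁿ)` with `n ≥ 3`, or the shape. -/
theorem perfect_cases [Nontrivial G] (hc : Cond G) (hns : NS G) (hO : Cfsg.pResidual 2 G = ⊤)
    (S : Sylow 2 G) :
    (∃ (F : Type) (_ : Field F) (_ : Fintype F), CharP F 2 ∧ 4 < Fintype.card F ∧
      Nonempty (G ≃* Matrix.SpecialLinearGroup (Fin 2) F)) ∨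
    ∃ t s K, Shape (S : Subgroup G) t s K := by
  haveI : Fact (Nat.Prime 2) := ⟨Nat.prime_two⟩
  obtain ⟨t₀, ht₀S, ht₀, ht₀c⟩ := exists_central_two hns S
  by_cases hab : ∀ t : G, orderOf t = 2 → IsMulCommutative ↥(centralizer ({t} : Set G))
  · rcases Cfsg.Agent.S2202.result (even_iff_two_dvd.2 hns.even) hab with h | h | ⟨F, iF, iFt, A, iA, iAf, hF, hA, ⟨e⟩⟩
    · exfalso
      haveI := h S
      obtain ⟨g, hgS, hgne⟩ := hns.not_isolated S ht₀ ht₀S
      obtain ⟨⟨c, hcS⟩, hgen⟩ := IsCyclic.exists_generator (α := ↥(S : Subgroup G))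
      have hm : ∀ x ∈ (S : Subgroup G), x ∈ zpowers c := fun x hx => by
        obtain ⟨i, hi⟩ := mem_zpowers_iff.1 (hgen ⟨x, hx⟩)
        exact mem_zpowers_iff.2 ⟨i, congrArg Subtype.val hi⟩
      exact hgne (involution_mem_unique (hm _ hgS) (hm _ ht₀S) (conj_two ht₀ g) ht₀)
    · exact absurd (hns.two_core (h S) S.isPGroup') (S.ne_bot_of_dvd_card hns.even)
    -- the odd factor is trivial
    have hA1 : ∀ a : A, a = 1 := by
      intro a
      let f : A →* G := e.symm.toMonoidHom.comp (MonoidHom.inr _ A)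
      have hfN : f.range = (MonoidHom.fst (Matrix.SpecialLinearGroup (Fin 2) F) A).ker.comap
          e.toMonoidHom := by
        ext x
        constructor
        · rintro ⟨b, rfl⟩
          show (e (e.symm (1, b))).1 = 1
          rw [MulEquiv.apply_symm_apply]
        · intro hx
          refine ⟨(e x).2, ?_⟩
          show e.symm (1, (e x).2) = x
          apply e.injective
          rw [MulEquiv.apply_symm_apply]
          exact Prod.ext (show (1 : _) = (e x).1 from hx.symm) rfl
      have hN : f.range.Normal := by rw [hfN]; infer_instance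
      have hb : f.range = ⊥ := hns _ hN (isSolvable_of_le_commute (by
        rintro _ ⟨a, rfl⟩ _ ⟨b, rfl⟩
        rw [← map_mul, ← map_mul, mul_comm]))
      have h1 : f a ∈ f.range := ⟨a, rfl⟩
      rw [hb, mem_bot] at h1
      have h2 := congrArg e h1
      rw [map_one] at h2
      change e (e.symm (1, a)) = 1 at h2
      rw [MulEquiv.apply_symm_apply] at h2
      exact congrArg Prod.snd h2
    letI : Unique A := ⟨⟨1⟩, hA1⟩
    have e' : G ≃* Matrix.SpecialLinearGroup (Fin 2) F := e.trans MulEquiv.prodUnique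
    obtain ⟨n, -, hn⟩ := FiniteField.card F 2
    have hq3 : Nat.card (Matrix.SpecialLinearGroup (Fin 2) F) =
        Fintype.card F * (Fintype.card F * Fintype.card F - 1) := by
      rw [H40.card_SL2, pow_two]
    by_cases h4 : 4 < Fintype.card F
    · exact Or.inl ⟨F, iF, iFt, hF, h4, ⟨e'⟩⟩
    -- `|F| = 4`: the group has order `60`
    right
    have hG : Nat.card G = Fintype.card F * (Fintype.card F * Fintype.card F - 1) := by
      rw [Nat.card_congr e'.toEquiv, hq3]
    have hF4 : Fintype.card F = 4 := by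
      rcases (show (n : ℕ) = 1 ∨ (n : ℕ) = 2 ∨ 3 ≤ (n : ℕ) by have := n.pos; omega) with h | h | h
      · exfalso
        rw [hn, h] at hG
        exact hns.not_solvable (H33.isSolvable_of_two_primes Nat.prime_two Nat.prime_three
          (fun r hr hd => by
            rw [hG, show 2 ^ 1 * (2 ^ 1 * 2 ^ 1 - 1) = 2 * 3 by norm_num] at hd
            rcases hr.dvd_mul.1 hd with h | h
            · exact Or.inl ((Nat.prime_dvd_prime_iff_eq hr Nat.prime_two).1 h)
            · exact Or.inr ((Nat.prime_dvd_prime_iff_eq hr Nat.prime_three).1 h)))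
      · rw [hn, h]; norm_num
      · exfalso
        have : 2 ^ 3 ≤ 2 ^ (n : ℕ) := Nat.pow_le_pow_right (by norm_num) h
        omega
    rw [hF4] at hG
    norm_num at hG
    have hS4 : Nat.card ↥(S : Subgroup G) = 4 := by
      rw [S.card_eq_multiplicity, hG, show (60 : ℕ) = 2 ^ 2 * 15 by norm_num,
        Nat.factorization_mul (by norm_num) (by norm_num), Nat.prime_two.factorization_pow]
      simp [Nat.factorization_eq_zero_of_not_dvd (show ¬ 2 ∣ 15 by norm_num)]
    -- the centraliser of `t₀` is `S`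
    set C := centralizer ({t₀} : Set G) with hCdef
    have hCab := hab t₀ ht₀
    have hSC : (S : Subgroup G) ≤ C := fun s hs => mem_centralizer_singleton_iff.2 (ht₀c s hs).eq
    have hCle : C ≤ normalizer ((S : Subgroup G) : Set G) := fun c hc' => mem_normalizer_iff.2
      fun s => by
        have key : ∀ s ∈ C, c * s * c⁻¹ = s := fun s hs =>
          mul_inv_eq_iff_eq_mul.2 (congrArg Subtype.val (hCab.is_comm.comm ⟨c, hc'⟩ ⟨s, hs⟩))
        refine ⟨fun hs => by rwa [key s (hSC hs)], fun hs => ?_⟩
        have h1 := key _ (hSC hs)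
        have h2 : c * s * c⁻¹ = s := (MulAut.conj c).injective (by simpa using h1)
        rwa [h2] at hs
    have hC : C = (S : Subgroup G) := by
      by_contra hne
      have hlt : 4 < Nat.card C := hS4 ▸ (lt_of_le_of_ne (card_le_of_le hSC)
        (fun h => hne (eq_of_le_of_card_ge hSC h.ge).symm))
      have hd1 : 4 ∣ Nat.card C := hS4 ▸ card_dvd_of_le hSC
      have hd2 : Nat.card C ∣ Nat.card (normalizer ((S : Subgroup G) : Set G)) := card_dvd_of_le hCle
      have hd3 : Nat.card (normalizer ((S : Subgroup G) : Set G)) ∣ 60 := hG ▸ card_subgroup_dvd_card _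
      obtain ⟨a, ha⟩ := hd1
      have hA : a ∣ 15 := by
        have := hd2.trans hd3
        rw [ha, show 60 = 4 * 15 by norm_num] at this
        exact Nat.dvd_of_mul_dvd_mul_left (by norm_num) this
      obtain ⟨b, hb⟩ := hd2
      by_cases hb1 : b = 1
      · have hN : normalizer ((S : Subgroup G) : Set G) = C :=
          (eq_of_le_of_card_ge hCle (by rw [hb, hb1, mul_one])).symm
        have hNC : normalizer ((S : Subgroup G) : Set G) ≤ centralizer ((S : Subgroup G) : Set G) := by
          intro g hg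
          rw [hN] at hg
          exact fun s hs => congrArg Subtype.val (hCab.is_comm.comm ⟨s, hSC hs⟩ ⟨g, hg⟩)
        have hK := MonoidHom.ker_transferSylow_isComplement' S hNC
        haveI hsol : Group.IsSolvable (MonoidHom.transferSylow S hNC).ker := H16.FT.oddOrder (by
          have := hK.card_mul
          rw [hS4, hG] at this
          rw [show Nat.card (MonoidHom.transferSylow S hNC).ker = 15 by omega]
          decide)
        have hb0 := hns _ (MonoidHom.normal_ker _) hsol
        have := hK.card_mul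
        rw [hb0, Subgroup.card_bot, hS4, hG] at this
        omega
      · have hle : (S : Subgroup G).Normal := by
          have h60 : Nat.card (normalizer ((S : Subgroup G) : Set G)) = 60 := by
            have h1 := hd3
            rw [hb, ha] at h1 ⊢
            rw [show 60 = 4 * 15 by norm_num, mul_assoc] at h1
            have h2 : a * b ∣ 15 := Nat.dvd_of_mul_dvd_mul_left (by norm_num) h1
            have ha15 := Nat.le_of_dvd (by norm_num) hA
            have hb15 : b ≤ 15 := Nat.le_of_dvd (by norm_num) (Dvd.intro_left a rfl |>.trans h2)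
            have hab15 := Nat.le_of_dvd (by norm_num) h2
            interval_cases a <;> interval_cases b <;> omega
          rw [← normalizer_eq_top_iff]
          exact eq_top_of_card_eq _ (h60.trans hG.symm)
        exact S.ne_bot_of_dvd_card hns.even (hns.two_core hle S.isPGroup')
    obtain ⟨g, hgS, hgne⟩ := hns.not_isolated S ht₀ ht₀S
    have hK2 : Nat.card (zpowers t₀) = 2 := by rw [Nat.card_zpowers, ht₀]
    have hle : zpowers t₀ ≤ (S : Subgroup G) := zpowers_le.2 ht₀S
    have hidx : ((zpowers t₀).subgroupOf (S : Subgroup G)).index = 2 := by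
      have h1 := ((zpowers t₀).subgroupOf (S : Subgroup G)).index_mul_card
      rw [Nat.card_congr (subgroupOfEquivOfLe hle).toEquiv, hK2, hS4] at h1
      omega
    set s := g * t₀ * g⁻¹ with hs
    have hsK : s ∉ zpowers t₀ := fun h => by
      rcases mem_zpowers_two ht₀ h with h' | h'
      · exact ne_one_of_two (conj_two ht₀ g) h'
      · exact hgne h'
    refine ⟨t₀, s, zpowers t₀, ht₀, conj_two ht₀ g, ht₀S, hgS, ht₀c s hgS, mem_zpowers t₀, hsK,
      ?_, fun k hk => ht₀c k (hle hk), ?_, ?_, fun v hv hv2 => ?_, ht₀c⟩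
    · intro a ha b hb
      obtain ⟨i, rfl⟩ := mem_zpowers_iff.1 ha
      obtain ⟨j, rfl⟩ := mem_zpowers_iff.1 hb
      exact (((Commute.refl t₀).zpow_left i).zpow_right j).eq
    · intro k hk
      rcases mem_zpowers_two ht₀ hk with rfl | rfl
      · simp
      · rw [(ht₀c s hgS).eq, mul_inv_cancel_right, inv_of_two ht₀]
    · intro a ha
      have haS : a ∈ (S : Subgroup G) := hC ▸ mem_centralizer_singleton_iff.2 ha.eq
      by_cases haK : a ∈ zpowers t₀
      · exact Or.inl haK
      · right
        have := (mul_mem_iff_of_index_two hidx (a := (⟨a, haS⟩ : ↥(S : Subgroup G)))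
          (b := ⟨s, hgS⟩)).2 (iff_of_false haK hsK)
        exact this
    · exact involution_mem_unique hv (mem_zpowers t₀) hv2 ht₀
  right
  push Not at hab
  obtain ⟨t₁, ht₁, hnab⟩ := hab
  -- a central involution with non-abelian centraliser
  obtain ⟨t, htS, ht, htc, hnab⟩ : ∃ t ∈ (S : Subgroup G), orderOf t = 2 ∧ Cen (S : Subgroup G) t ∧
      ∃ a b : G, Commute a t ∧ Commute b t ∧ a * b ≠ b * a := by
    by_contra hno
    push Not at hno
    have hSab : ∀ a ∈ (S : Subgroup G), ∀ b ∈ (S : Subgroup G), a * b = b * a := fun a ha b hb =>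
      hno t₀ ht₀S ht₀ ht₀c a b (ht₀c a ha) (ht₀c b hb)
    obtain ⟨g, hg⟩ := exists_sylow_mem (R := zpowers t₁) (IsPGroup.of_card (n := 1)
      (by rw [Nat.card_zpowers, ht₁, pow_one])) S
    have hgS := hg t₁ (mem_zpowers t₁)
    refine hnab ⟨⟨fun a b => Subtype.ext ?_⟩⟩
    have key : ∀ x : G, x * t₁ = t₁ * x → Commute (g * x * g⁻¹) (g * t₁ * g⁻¹) := fun x hx => by
      show _ * _ = _ * _
      rw [conj_mul, conj_mul, hx]
    have := hno _ hgS (conj_two ht₁ g) (fun s hs => hSab s hs _ hgS) _ _
      (key a (mem_centralizer_singleton_iff.1 a.2)) (key b (mem_centralizer_singleton_iff.1 b.2))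
    rw [conj_mul, conj_mul, mul_left_inj, mul_right_inj] at this
    exact this
  by_cases hodd : ∃ e ∈ (S : Subgroup G), orderOf e = 2 ∧ Cen (S : Subgroup G) e ∧
      ∃ y, Odd (orderOf y) ∧ y ≠ 1 ∧ Commute y e
  · obtain ⟨e, heS, he, hec, y, hy, hy1, hye⟩ := hodd
    by_cases hne : ∃ a b : G, Commute a e ∧ Commute b e ∧ a * b ≠ b * a
    · obtain ⟨s, K, h⟩ := shape_of_odd hc hns hO S he heS hec hy hy1 hye hne
      exact ⟨e, s, K, h⟩
    push Not at hne
    have hSab : ∀ a ∈ (S : Subgroup G), ∀ b ∈ (S : Subgroup G), a * b = b * a := fun a ha b hb =>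
      hne a b (hec a ha) (hec b hb)
    by_cases hodd' : ∃ y', Odd (orderOf y') ∧ y' ≠ 1 ∧ Commute y' t
    · obtain ⟨y', hy', hy'1, hy't⟩ := hodd'
      obtain ⟨s, K, h⟩ := shape_of_odd hc hns hO S ht htS htc hy' hy'1 hy't hnab
      exact ⟨t, s, K, h⟩
    exfalso
    push Not at hodd'
    have hp : IsPGroup 2 ↥(centralizer ({t} : Set G)) := by
      intro x
      obtain ⟨a, b, hab', hax, hbx, ⟨k, hk⟩, hb⟩ := exists_parts (x : G)
      have hbt : Commute b t := by
        obtain ⟨i, rfl⟩ := mem_zpowers_iff.1 hbx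
        exact (show Commute (x : G) t from mem_centralizer_singleton_iff.1 x.2).zpow_left i
      refine ⟨k, Subtype.ext ?_⟩
      by_cases hb1 : b = 1
      · push_cast
        rw [hab', hb1, mul_one]
        exact orderOf_dvd_iff_pow_eq_one.1 hk
      · exact absurd hbt (hodd' b hb hb1)
    have hCS := S.is_maximal' hp (fun s hs => mem_centralizer_singleton_iff.2 (htc s hs).eq)
    obtain ⟨a, b, ha, hb, hne'⟩ := hnab
    exact hne' (hSab a (hCS ▸ mem_centralizer_singleton_iff.2 ha.eq) b
      (hCS ▸ mem_centralizer_singleton_iff.2 hb.eq))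
  push Not at hodd
  have hcent : ∀ e : G, orderOf e = 2 → e ∈ (S : Subgroup G) → Cen (S : Subgroup G) e →
      ∀ g, Commute g e → g ∈ (S : Subgroup G) := by
    intro e he heS hec g hg
    have hp : IsPGroup 2 ↥(centralizer ({e} : Set G)) := by
      intro x
      obtain ⟨a, b, hab', hax, hbx, ⟨k, hk⟩, hb⟩ := exists_parts (x : G)
      have hbt : Commute b e := by
        obtain ⟨i, rfl⟩ := mem_zpowers_iff.1 hbx
        exact (show Commute (x : G) e from mem_centralizer_singleton_iff.1 x.2).zpow_left i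
      refine ⟨k, Subtype.ext ?_⟩
      by_cases hb1 : b = 1
      · push_cast
        rw [hab', hb1, mul_one]
        exact orderOf_dvd_iff_pow_eq_one.1 hk
      · exact absurd hbt (hodd e heS he hec b hb hb1)
    rw [← S.is_maximal' hp (fun s hs => mem_centralizer_singleton_iff.2 (hec s hs).eq)]
    exact mem_centralizer_singleton_iff.2 hg.eq
  have hC := hcent t ht htS htc
  obtain ⟨a, b, ha, hb, hne⟩ := hnab
  obtain ⟨c, u, D⟩ := dihedral ⟨hc, hns, hcent, a, hC a ha, b, hC b hb, hne⟩ ht htS htc
  exact ⟨t, u, zpowers c, shape_of_dih hC htc D⟩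

/-- One class of involutions and the Brauer–Suzuki–Wall configuration. -/
theorem Shape.hyp (hc : Cond G) (hO : Cfsg.pResidual 2 G = ⊤) {S : Sylow 2 G} {t s : G}
    {K : Subgroup G} (h : Shape (S : Subgroup G) t s K) : H65.BSW.Hyp t s K where
  t2 := h.t2
  s2 := h.s2
  comm := h.comm
  tK := h.tK
  le := fun k hk => mem_centralizer_singleton_iff.2 (h.le k hk).eq
  sH := mem_centralizer_singleton_iff.2 h.st.eq
  sK := h.sK
  sup := by
    refine le_antisymm (sup_le (fun k hk => mem_centralizer_singleton_iff.2 (h.le k hk).eq)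
      (zpowers_le.2 (mem_centralizer_singleton_iff.2 h.st.eq))) fun g hg => ?_
    rcases h.cov g (mem_centralizer_singleton_iff.1 hg) with h' | h'
    · exact mem_sup_left h'
    · rw [← mul_inv_cancel_right g s]
      exact mul_mem (mem_sup_left h') (mem_sup_right (inv_mem (mem_zpowers s)))
  cK := by
    ext k
    constructor
    · rintro ⟨hk, hks⟩
      by_cases h1 : k = 1
      · rw [h1]; exact one_mem _
      have hi := h.inv k hk
      rw [← (mem_centralizer_singleton_iff.1 hks : k * s = s * k), mul_inv_cancel_right] at hi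
      rw [h.uniq k hk (two_of_sq (eq_inv_iff_mul_eq_one.1 hi) h1)]
      exact mem_zpowers t
    · intro hk
      rcases mem_zpowers_two h.t2 hk with rfl | rfl
      · exact one_mem _
      · exact ⟨h.tK, mem_centralizer_singleton_iff.2 h.st.symm.eq⟩
  inv := h.inv
  ti := fun g hg x hx hgx => by
    by_contra hx1
    have hkt : ∀ k ∈ K, k ≠ 1 → ∀ a : G, Commute a t ↔ a * k * a⁻¹ ∈ zpowers k := by
      intro k hk hk1 a
      obtain ⟨p, q, hpq, hpk, hqk, ⟨n, hn⟩, hq⟩ := exists_parts k
      by_cases hev : Even (orderOf k)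
      · refine hc.f1 h.t2 ?_ a
        have hd : 2 ∣ Nat.card (zpowers k) := by rw [Nat.card_zpowers]; exact even_iff_two_dvd.1 hev
        haveI : Fact (Nat.Prime 2) := ⟨Nat.prime_two⟩
        obtain ⟨v, hv⟩ := exists_prime_orderOf_dvd_card' 2 hd
        rw [← orderOf_coe] at hv
        rw [← h.uniq v (zpowers_le.2 hk v.2) hv]
        exact v.2
      · exact hc.f2 h.t2 (h.le k hk).symm (Nat.not_even_iff_odd.1 hev) hk1 a
    have hgx1 : g * x * g⁻¹ ≠ 1 := fun e => hx1 (conj_eq_one_iff.1 e)
    -- `g t g⁻¹` has the same centraliser as `t`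
    have hsame : ∀ a, Commute a (g * t * g⁻¹) ↔ Commute a t := by
      intro a
      rw [hkt _ hgx hgx1 a]
      have : Commute a (g * t * g⁻¹) ↔ Commute (g⁻¹ * a * g) t := by
        constructor <;> intro hh
        · show _ * _ = _ * _
          calc g⁻¹ * a * g * t = g⁻¹ * (a * (g * t * g⁻¹)) * g := by group
            _ = g⁻¹ * ((g * t * g⁻¹) * a) * g := by rw [hh.eq]
            _ = _ := by group
        · show _ * _ = _ * _
          calc a * (g * t * g⁻¹) = g * ((g⁻¹ * a * g) * t) * g⁻¹ := by group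
            _ = g * (t * (g⁻¹ * a * g)) * g⁻¹ := by rw [hh.eq]
            _ = _ := by group
      rw [this, hkt x hx hx1]
      have key : a * (g * x * g⁻¹) * a⁻¹ = g * (g⁻¹ * a * g * x * (g⁻¹ * a * g)⁻¹) * g⁻¹ := by group
      rw [key, mem_zpowers_iff, mem_zpowers_iff]
      simp only [conj_zpow, mul_left_inj, mul_right_inj]
    have hmem : g * t * g⁻¹ ∈ K ∨ g * t * g⁻¹ * s ∈ K :=
      h.cov _ ((hsame _).1 (Commute.refl _))
    rcases hmem with hm | hm
    · exact hg (mem_centralizer_singleton_iff.2
        (mul_inv_eq_iff_eq_mul.1 (h.uniq _ hm (conj_two h.t2 g))))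
    · -- then `K = ⟨t⟩` and `x = t`
      have hexp : ∀ k ∈ K, k * k = 1 := by
        intro k hk
        have h1 : Commute k (g * t * g⁻¹ * s) := h.comm k hk _ hm
        have h2 : Commute k (g * t * g⁻¹) := (hsame k).2 (h.le k hk)
        have h3 : Commute k s := by
          have := h2.inv_right.mul_right h1
          rwa [inv_mul_cancel_left] at this
        have hi := h.inv k hk
        rw [← h3.eq, mul_inv_cancel_right] at hi
        exact eq_inv_iff_mul_eq_one.1 hi
      have hxt : x = t := h.uniq x hx (two_of_sq (hexp x hx) hx1)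
      have hgt : g * t * g⁻¹ = t := h.uniq _ (hxt ▸ hgx) (conj_two h.t2 g)
      exact hg (mem_centralizer_singleton_iff.2 (mul_inv_eq_iff_eq_mul.1 hgt))
  conj := by
    haveI : Fact (Nat.Prime 2) := ⟨Nat.prime_two⟩
    have key : ∀ a : G, orderOf a = 2 → IsConj t a := by
      intro a ha
      obtain ⟨g, hg⟩ := exists_sylow_mem (R := zpowers a) (IsPGroup.of_card (n := 1)
        (by rw [Nat.card_zpowers, ha, pow_one])) S
      have hgS := hg a (mem_zpowers a)
      set M : Subgroup G := (S : Subgroup G) ⊓ K with hM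
      have hrel : M.relIndex (S : Subgroup G) = 2 := by
        rw [relIndex, index_eq_two_iff]
        refine ⟨⟨s, h.sS⟩, fun b => ?_⟩
        simp only [mem_subgroupOf, Subgroup.coe_mul, hM, mem_inf, b.2, mul_mem b.2 h.sS, true_and]
        by_cases hb : (b : G) ∈ K
        · refine Or.inr ⟨hb, fun h' => h.sK ?_⟩
          have := mul_mem (inv_mem hb) h'
          rwa [inv_mul_cancel_left] at this
        · refine Or.inl ⟨(h.cov b ?_).resolve_left hb, hb⟩
          exact h.tc b b.2
      have hto : IsConj t (g * a * g⁻¹) := by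
        rcases H6.thompson_transfer S M inf_le_left hrel _ (conj_two ha g) with ⟨N, hN, hN2, -⟩ | ⟨c, hc'⟩
        · haveI := hN
          exact absurd hN2 (H6.not_normal_index_of_pResidual_eq_top hO N)
        · have he := h.uniq _ hc'.2 (conj_two (conj_two ha g) c)
          exact (isConj_iff.2 ⟨c, he⟩).symm
      exact hto.trans (isConj_iff.2 ⟨g, rfl⟩).symm
    exact fun x y hx hy => (key x hx).symm.trans (key y hy)

end H79.SameNorm
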