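import Cfsg.Agent.H79.SameNorm.Perfect
import Cfsg.Agent.H37.Card
import Cfsg.Agent.S0731

/-!
The action on the conjugates of the kernel `Q` of the Brauer–Suzuki–Wall configuration.
-/

set_option autoImplicit false
set_option linter.style.haveILetI false
set_option linter.unusedSectionVars false
set_option maxHeartbeats 1000000

namespace H79.SameNorm

open Subgroup MulAction

universe u v

variable {G : Type u} [Group G]

/-- The subgroups delivered by the Brauer–Suzuki–Wall theorem. -/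
structure Frame (G : Type u) [Group G] (Q D : Subgroup G) : Prop where
  card : 2 * Nat.card G = Nat.card ↥Q * (Nat.card ↥Q + 1) * (Nat.card ↥Q - 1)
  cent : ∀ x ∈ Q, x ≠ 1 → centralizer ({x} : Set G) = Q
  dcomm : ∀ a ∈ D, ∀ b ∈ D, a * b = b * a
  qd : 2 * Nat.card ↥D + 1 = Nat.card ↥Q
  disj : Q ⊓ D = ⊥
  norm : normalizer (Q : Set G) = Q ⊔ D
  d2 : 2 ≤ Nat.card ↥D
  conj : ∀ x y : G, orderOf x = 2 → orderOf y = 2 → IsConj x y
  invo : ∃ u : G, orderOf u = 2 ∧ u ∉ D ∧ ∀ d ∈ D, u * d * u⁻¹ = d⁻¹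

variable [Finite G]

theorem exists_frame [Nontrivial G] (hns : NS G) {t s : G} {K : Subgroup G}
    (h : H65.BSW.Hyp t s K) : ∃ Q D, Frame G Q D := by
  haveI := Fintype.ofFinite G
  obtain ⟨S⟩ := H65.BSW.exists_data h
  obtain ⟨Q, D, hcard, hcent, hDc, hqd, hdisj, hnorm, hX⟩ : H65.BSW.Conclusion h := by
    rcases S.hδ with hd | hd
    · exact H65.BSW.case_plus h S hd
    · exact H65.BSW.case_minus h S hd
  have hd2 : 2 ≤ Nat.card ↥D := by
    by_contra hlt
    have hd : Nat.card ↥D = 1 := by have := Nat.card_pos (α := ↥D); omega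
    rw [hd] at hqd
    rw [← hqd] at hcard
    refine hns.not_solvable (H33.isSolvable_of_two_primes Nat.prime_two Nat.prime_three
      fun r hr hr' => ?_)
    rw [show Nat.card G = 2 * (2 * 3) by omega] at hr'
    rcases hr.dvd_mul.1 hr' with h1 | h1
    · exact Or.inl ((Nat.prime_dvd_prime_iff_eq hr Nat.prime_two).1 h1)
    rcases hr.dvd_mul.1 h1 with h1 | h1
    · exact Or.inl ((Nat.prime_dvd_prime_iff_eq hr Nat.prime_two).1 h1)
    · exact Or.inr ((Nat.prime_dvd_prime_iff_eq hr Nat.prime_three).1 h1)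
  refine ⟨Q, D, hcard, hcent, fun a ha b hb => congrArg Subtype.val (hDc.is_comm.comm ⟨a, ha⟩ ⟨b, hb⟩),
    hqd, hdisj, hnorm, hd2, h.conj, ?_⟩
  obtain ⟨-, u, hu, huD, hinv, -⟩ := hX D le_rfl (fun e => by
    rw [e, Subgroup.card_bot] at hd2; omega)
  exact ⟨u, hu, huD, hinv⟩

variable {Q D : Subgroup G} (F : Frame G Q D)
include F

theorem Frame.qcomm {a b : G} (ha : a ∈ Q) (hb : b ∈ Q) : Commute a b := by
  by_cases h1 : a = 1
  · exact h1 ▸ Commute.one_left b
  · have := hb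
    rw [← F.cent a ha h1, mem_centralizer_singleton_iff] at this
    exact this.symm

theorem Frame.ti {x g : G} (hx : x ∈ Q) (hx1 : x ≠ 1) (hg : g * x * g⁻¹ ∈ Q) :
    g ∈ normalizer (Q : Set G) := by
  have hg1 : g * x * g⁻¹ ≠ 1 := fun e => hx1 (conj_eq_one_iff.1 e)
  have key : ∀ z ∈ Q, g * z * g⁻¹ ∈ Q := fun z hz => by
    rw [← F.cent _ hg hg1, mem_centralizer_singleton_iff, conj_mul, conj_mul,
      (F.qcomm hz hx).eq]
  refine mem_normalizer_iff.2 fun z => ⟨key z, fun hz => ?_⟩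
  rw [← F.cent x hx hx1, mem_centralizer_singleton_iff]
  have := (F.qcomm hz hg).eq
  rw [conj_mul, conj_mul, mul_left_inj, mul_right_inj] at this
  exact this

theorem Frame.card_norm : Nat.card ↥(normalizer (Q : Set G)) = Nat.card ↥Q * Nat.card ↥D := by
  rw [← Nat.card_prod]
  refine (Nat.card_congr (Equiv.ofBijective (fun p : ↥Q × ↥D => (⟨p.1 * p.2, F.norm ▸
    mul_mem (mem_sup_left p.1.2) (mem_sup_right p.2.2)⟩ : ↥(normalizer (Q : Set G)))) ⟨?_, ?_⟩)).symm
  · rintro ⟨a, b⟩ ⟨a', b'⟩ hab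
    have h1 : (a : G) * b = a' * b' := congrArg Subtype.val hab
    have h2 : (a' : G)⁻¹ * a = b' * (b : G)⁻¹ := by
      rw [eq_mul_inv_iff_mul_eq, mul_assoc, h1, inv_mul_cancel_left]
    have h3 : (a' : G)⁻¹ * a ∈ Q ⊓ D :=
      mem_inf.2 ⟨mul_mem (inv_mem a'.2) a.2, h2 ▸ mul_mem b'.2 (inv_mem b.2)⟩
    rw [F.disj, mem_bot] at h3
    have ha : a = a' := Subtype.ext (inv_mul_eq_one.1 h3).symm
    rw [h2, mul_inv_eq_one] at h3
    exact Prod.ext ha (Subtype.ext h3.symm)
  · rintro ⟨g, hg⟩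
    have hDle : D ≤ normalizer (Q : Set G) := F.norm ▸ le_sup_right
    have : g ∈ ((Q ⊔ D : Subgroup G) : Set G) := F.norm ▸ hg
    rw [Subgroup.coe_mul_of_right_le_normalizer_left Q D hDle] at this
    obtain ⟨a, ha, b, hb, rfl⟩ := Set.mem_mul.1 this
    exact ⟨(⟨a, ha⟩, ⟨b, hb⟩), rfl⟩

theorem Frame.index_norm : (normalizer (Q : Set G)).index = Nat.card ↥Q + 1 := by
  have h1 := (normalizer (Q : Set G)).card_mul_index
  rw [F.card_norm] at h1
  have h2 := F.card
  have hd : Nat.card ↥Q - 1 = 2 * Nat.card ↥D := by have := F.qd; omega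
  rw [← h1, hd] at h2
  have hpos : 0 < 2 * (Nat.card ↥Q * Nat.card ↥D) :=
    Nat.mul_pos (by norm_num) (Nat.mul_pos Nat.card_pos Nat.card_pos)
  apply Nat.eq_of_mul_eq_mul_left hpos
  linarith

/-- An element of `N(Q)` of order dividing `|Q|` lies in `Q`. -/
theorem Frame.mem_of_pow {y : G} (hy : y ∈ normalizer (Q : Set G))
    (hyq : y ^ Nat.card ↥Q = 1) : y ∈ Q := by
  set N := normalizer (Q : Set G)
  have hidx : (Q.subgroupOf N).index = Nat.card ↥D := by
    have h1 := (Q.subgroupOf N).card_mul_index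
    rw [Nat.card_congr (subgroupOfEquivOfLe le_normalizer).toEquiv, F.card_norm] at h1
    exact Nat.eq_of_mul_eq_mul_left Nat.card_pos h1
  haveI : (Q.subgroupOf N).Normal := Subgroup.normal_in_normalizer
  have h1 : y ^ Nat.card ↥D ∈ Q := by
    have := (Q.subgroupOf N).pow_index_mem (⟨y, hy⟩ : ↥N)
    rwa [hidx, mem_subgroupOf] at this
  have hco : IsCoprime (Nat.card ↥D : ℤ) (Nat.card ↥Q : ℤ) := ⟨-2, 1, by
    have := congrArg (Nat.cast : ℕ → ℤ) F.qd
    push_cast at this
    linarith⟩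
  obtain ⟨a, b, hab⟩ := hco
  have : y = (y ^ Nat.card ↥D) ^ a * (y ^ Nat.card ↥Q) ^ b := by
    rw [← zpow_natCast, ← zpow_mul, ← zpow_natCast y (Nat.card ↥Q), ← zpow_mul, ← zpow_add,
      mul_comm (Nat.card ↥D : ℤ), mul_comm (Nat.card ↥Q : ℤ), hab, zpow_one]
  rw [this, hyq, one_zpow, mul_one]
  exact zpow_mem h1 a

omit [Finite G] in
theorem Frame.q_pos : 5 ≤ Nat.card ↥Q := by have := F.qd; have := F.d2; omega

theorem Frame.q_odd : Odd (Nat.card ↥Q) := ⟨Nat.card ↥D, F.qd.symm⟩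

theorem Frame.odd_mem {x : G} (hx : x ∈ Q) : Odd (orderOf x) :=
  F.q_odd.of_dvd_nat (by
    have := _root_.orderOf_dvd_natCard (⟨x, hx⟩ : ↥Q)
    rwa [orderOf_mk] at this)

section Pts

variable {Ω : Type v} [MulAction G Ω] [Finite Ω] (a : Ω) (htr : IsPretransitive G Ω)
  (hst : stabilizer G a = normalizer (Q : Set G))
include htr hst

theorem Frame.card_points : Nat.card Ω = Nat.card ↥Q + 1 := by
  rw [← F.index_norm, ← hst, index_stabilizer_of_transitive]

/-- `Q` acts semiregularly away from `a`. -/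
theorem Frame.semiregular {x : G} (hx : x ∈ Q) (hx1 : x ≠ 1) {b : Ω} (hb : x • b = b) : b = a := by
  obtain ⟨g, rfl⟩ := exists_smul_eq G a b
  have h1 : g⁻¹ * x * g ∈ normalizer (Q : Set G) := by
    rw [← hst, mem_stabilizer_iff, mul_smul, mul_smul, hb, inv_smul_smul]
  have h2 : (g⁻¹ * x * g) ^ Nat.card ↥Q = 1 := by
    have : x ^ Nat.card ↥Q = 1 := congrArg Subtype.val (pow_card_eq_one' (x := (⟨x, hx⟩ : ↥Q)))
    rw [show g⁻¹ * x * g = g⁻¹ * x * (g⁻¹)⁻¹ by rw [inv_inv], conj_pow, this]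
    group
  have h3 := F.ti hx hx1 (g := g⁻¹) (by rw [inv_inv]; exact F.mem_of_pow h1 h2)
  rw [← hst, mem_stabilizer_iff, inv_smul_eq_iff] at h3
  exact h3.symm

/-- `Q` acts regularly away from `a`. -/
theorem Frame.regular {b c : Ω} (hb : b ≠ a) (hc : c ≠ a) : ∃! x : ↥Q, (x : G) • b = c := by
  have hfix : ∀ x : ↥Q, (x : G) • a = a := fun x => by
    rw [← mem_stabilizer_iff, hst]; exact le_normalizer x.2
  let f : ↥Q → {z : Ω // z ≠ a} := fun x => ⟨(x : G) • b, fun e => hb (by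
    rw [← hfix x] at e; exact smul_left_cancel _ e)⟩
  have hinj : Function.Injective f := by
    intro x y hxy
    by_contra hne
    have h1 : ((y : G)⁻¹ * x) • b = b := by
      rw [mul_smul, inv_smul_eq_iff]; exact congrArg Subtype.val hxy
    exact hb (F.semiregular a htr hst (mul_mem (inv_mem y.2) x.2)
      (fun e => hne (Subtype.ext (inv_mul_eq_one.1 e).symm)) h1)
  have hcard : Nat.card ↥Q = Nat.card {z : Ω // z ≠ a} := by
    classical
    haveI := Fintype.ofFinite Ω
    have := F.card_points a htr hst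
    rw [Nat.card_eq_fintype_card (α := {z : Ω // z ≠ a}), Fintype.card_subtype_compl,
      Fintype.card_subtype_eq]
    rw [Nat.card_eq_fintype_card] at this
    omega
  have hbij := (Nat.bijective_iff_injective_and_card f).2 ⟨hinj, hcard⟩
  obtain ⟨x, hx⟩ := hbij.2 ⟨c, hc⟩
  exact ⟨x, congrArg Subtype.val hx, fun y hy => hinj (Subtype.ext
    (hy.trans (congrArg Subtype.val hx).symm))⟩

theorem Frame.two_trans : IsMultiplyPretransitive G Ω 2 := by
  rw [MulAction.is_two_pretransitive_iff]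
  have key : ∀ x y : Ω, x ≠ y → ∀ b : Ω, b ≠ a → ∃ g : G, g • x = a ∧ g • y = b := by
    intro x y hxy b hb
    obtain ⟨g, hg⟩ := exists_smul_eq G x a
    have hgy : g • y ≠ a := fun e => hxy (smul_left_cancel g (hg.trans e.symm))
    obtain ⟨q, hq, -⟩ := F.regular a htr hst hgy hb
    refine ⟨(q : G) * g, ?_, by rw [mul_smul, hq]⟩
    rw [mul_smul, hg, ← mem_stabilizer_iff, hst]
    exact le_normalizer q.2
  intro x y z w hxy hzw
  obtain ⟨b, hb⟩ : ∃ b : Ω, b ≠ a := by
    by_cases h : x = a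
    · exact ⟨y, fun e => hxy (h.trans e.symm)⟩
    · exact ⟨x, h⟩
  obtain ⟨g, hg1, hg2⟩ := key x y hxy b hb
  obtain ⟨k, hk1, hk2⟩ := key z w hzw b hb
  exact ⟨k⁻¹ * g, by rw [mul_smul, hg1, inv_smul_eq_iff, hk1],
    by rw [mul_smul, hg2, inv_smul_eq_iff, hk2]⟩

theorem Frame.three {g : G} {b c : Ω} (hab : a ≠ b) (hac : a ≠ c) (hbc : b ≠ c)
    (ha : g • a = a) (hb : g • b = b) (hc : g • c = c) : g = 1 := by
  have hgN : g ∈ normalizer (Q : Set G) := by rw [← hst]; exact ha
  obtain ⟨x, hx, hu⟩ := F.regular a htr hst (Ne.symm hab) (Ne.symm hac)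
  have hx1 : (x : G) ≠ 1 := fun e => hbc (by rw [← hx, e, one_smul])
  have hmem : g * x * g⁻¹ ∈ Q := (mem_normalizer_iff.1 hgN _).1 x.2
  have h1 : (⟨g * x * g⁻¹, hmem⟩ : ↥Q) = x := hu _ (by
    show (g * x * g⁻¹) • b = c
    rw [mul_smul, inv_smul_eq_iff.2 hb.symm, mul_smul, hx, hc])
  have h2 : g ∈ centralizer ({(x : G)} : Set G) :=
    mem_centralizer_singleton_iff.2 (mul_inv_eq_iff_eq_mul.1 (congrArg Subtype.val h1))
  rw [F.cent _ x.2 hx1] at h2
  by_contra hg1
  exact hab (F.semiregular a htr hst h2 hg1 hb).symm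

theorem Frame.three' {g : G} {x y z : Ω} (hxy : x ≠ y) (hxz : x ≠ z) (hyz : y ≠ z)
    (hx : g • x = x) (hy : g • y = y) (hz : g • z = z) : g = 1 := by
  obtain ⟨k, hk⟩ := exists_smul_eq G x a
  have hne : ∀ p q : Ω, p ≠ q → k • p ≠ k • q := fun p q h e => h (smul_left_cancel k e)
  have he : ∀ p : Ω, g • p = p → (k * g * k⁻¹) • (k • p) = k • p := fun p hp => by
    rw [mul_smul, inv_smul_smul, mul_smul, hp]
  have := F.three a htr hst (g := k * g * k⁻¹) (hk ▸ hne x y hxy) (hk ▸ hne x z hxz) (hne y z hyz)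
    (hk ▸ he x hx) (he y hy) (he z hz)
  exact conj_eq_one_iff.1 this

/-- The second point fixed by `D`, and the stabiliser of the two points. -/
theorem Frame.exists_pair : ∃ b : Ω, b ≠ a ∧
    (∀ g : G, g • a = a → g • b = b → g ∈ D) ∧ (∀ d ∈ D, d • a = a ∧ d • b = b) ∧
    ∃ u : G, orderOf u = 2 ∧ u • a = b ∧ ∀ d ∈ D, u * d * u⁻¹ = d⁻¹ := by
  obtain ⟨u, hu, huD, hinv⟩ := F.invo
  have hDle : D ≤ normalizer (Q : Set G) := F.norm ▸ le_sup_right
  have hDa : ∀ d ∈ D, d • a = a := fun d hd => by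
    rw [← mem_stabilizer_iff, hst]; exact hDle hd
  have hua : u • a ≠ a := by
    intro e
    have huN : u ∈ normalizer (Q : Set G) := by rw [← hst]; exact e
    set M : Subgroup G := D ⊔ zpowers u
    have hM : M ≤ normalizer (Q : Set G) := sup_le hDle (zpowers_le.2 huN)
    have hMn : M ≤ normalizer (D : Set G) := sup_le le_normalizer (zpowers_le.2
      (mem_normalizer_iff.2 fun z => ⟨fun hz => by rw [hinv z hz]; exact inv_mem hz, fun hz => by
        have h1 := hinv _ hz
        rw [show u * (u * z * u⁻¹) * u⁻¹ = (u * u) * z * (u * u)⁻¹ by group, two_pow_two hu] at h1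
        simp only [one_mul, inv_one, mul_one] at h1
        rw [h1]; exact inv_mem hz⟩))
    have hMQ : ∀ z ∈ M, z ∈ Q → z = 1 := by
      intro z hzM hzQ
      obtain ⟨d, hd, hd1⟩ : ∃ d ∈ D, d ≠ 1 := by
        by_contra hno
        push Not at hno
        have : D = ⊥ := (eq_bot_iff_forall D).2 hno
        have h2 := F.d2
        rw [this, Subgroup.card_bot] at h2
        omega
      by_contra hz1
      have h1 : z * d * z⁻¹ * d⁻¹ ∈ Q ⊓ D := by
        refine mem_inf.2 ⟨?_, mul_mem ((mem_normalizer_iff.1 (hMn hzM) d).1 hd) (inv_mem hd)⟩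
        rw [show z * d * z⁻¹ * d⁻¹ = z * (d * z⁻¹ * d⁻¹) by group]
        exact mul_mem hzQ ((mem_normalizer_iff.1 (hDle hd) _).1 (inv_mem hzQ))
      rw [F.disj, mem_bot, mul_inv_eq_one] at h1
      have h2 : d ∈ centralizer ({z} : Set G) :=
        mem_centralizer_singleton_iff.2 (mul_inv_eq_iff_eq_mul.1 h1).symm
      rw [F.cent z hzQ hz1] at h2
      exact hd1 ((mem_bot).1 (F.disj ▸ (⟨h2, hd⟩ : d ∈ Q ⊓ D)))
    have hlt : Nat.card ↥D < Nat.card ↥M := by
      refine lt_of_le_of_ne (card_le_of_le le_sup_left) fun e => huD ?_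
      rw [eq_of_le_of_card_ge (le_sup_left : D ≤ M) e.ge]
      exact mem_sup_right (mem_zpowers u)
    haveI : (Q.subgroupOf (normalizer (Q : Set G))).Normal := Subgroup.normal_in_normalizer
    have hle : Nat.card ↥M ≤ Nat.card ↥D := by
      have hidx : (Q.subgroupOf (normalizer (Q : Set G))).index = Nat.card ↥D := by
        have h1 := (Q.subgroupOf (normalizer (Q : Set G))).card_mul_index
        rw [Nat.card_congr (subgroupOfEquivOfLe le_normalizer).toEquiv, F.card_norm] at h1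
        exact Nat.eq_of_mul_eq_mul_left Nat.card_pos h1
      rw [← hidx]
      refine Nat.card_le_card_of_injective
        (fun z : ↥M => (QuotientGroup.mk (⟨z, hM z.2⟩ : ↥(normalizer (Q : Set G))) :
          ↥(normalizer (Q : Set G)) ⧸ Q.subgroupOf (normalizer (Q : Set G)))) fun z w hzw => ?_
      rw [QuotientGroup.eq, mem_subgroupOf] at hzw
      exact Subtype.ext (inv_mul_eq_one.1 (hMQ _ (mul_mem (inv_mem z.2) w.2) hzw))
    omega
  have hDb : ∀ d ∈ D, d • (u • a) = u • a := fun d hd => by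
    have h1 : d * u = u * d⁻¹ := by
      have := hinv _ (inv_mem hd)
      rw [inv_inv] at this
      exact (mul_inv_eq_iff_eq_mul.1 this).symm
    rw [← mul_smul, h1, mul_smul, hDa _ (inv_mem hd)]
  refine ⟨u • a, hua, fun g hga hgb => ?_, fun d hd => ⟨hDa d hd, hDb d hd⟩, u, hu, rfl, hinv⟩
  have hgN : g ∈ ((Q ⊔ D : Subgroup G) : Set G) := by
    rw [← F.norm, ← hst]; exact hga
  rw [Subgroup.coe_mul_of_right_le_normalizer_left Q D hDle] at hgN
  obtain ⟨x, hx, d, hd, rfl⟩ := Set.mem_mul.1 hgN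
  rw [mul_smul, hDb d hd] at hgb
  by_cases hx1 : x = 1
  · rwa [hx1, one_mul]
  · exact absurd (F.semiregular a htr hst hx hx1 hgb) hua

theorem Frame.psl [Nontrivial G] (hns : NS G) : ∃ (K : Type) (_ : Field K) (_ : Fintype K),
    Fintype.card K = Nat.card ↥Q ∧
    Nonempty (G ≃* Matrix.ProjectiveSpecialLinearGroup (Fin 2) K) := by
  classical
  haveI := Fintype.ofFinite Ω
  have hq := F.q_pos
  have hn := F.card_points a htr hst
  have h2 := F.two_trans a htr hst
  obtain ⟨b, hb, hstab, hD, -⟩ := F.exists_pair a htr hst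
  have hthree : ∀ g : G, ∀ x y z : Ω, x ≠ y → y ≠ z → x ≠ z → g • x = x → g • y = y → g • z = z →
      g = 1 := fun g x y z hxy hyz hxz => F.three' a htr hst hxy hxz hyz
  obtain ⟨c, hca, hcb⟩ : ∃ c : Ω, c ≠ a ∧ c ≠ b := by
    have : (({a, b} : Finset Ω)ᶜ).Nonempty := by
      rw [← Finset.card_pos, Finset.card_compl]
      have := Finset.card_le_two (a := a) (b := b)
      rw [Nat.card_eq_fintype_card (α := Ω)] at hn
      omega
    obtain ⟨c, hc⟩ := this
    simp only [Finset.mem_compl, Finset.mem_insert, Finset.mem_singleton, not_or] at hc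
    exact ⟨c, hc⟩
  have hfaith : FaithfulSMul G Ω := ⟨fun {g k} h => by
    have := F.three' a htr hst (g := k⁻¹ * g) (Ne.symm hb) (Ne.symm hca) (Ne.symm hcb)
      (by rw [mul_smul, h, inv_smul_smul]) (by rw [mul_smul, h, inv_smul_smul])
      (by rw [mul_smul, h, inv_smul_smul])
    exact (inv_mul_eq_one.1 this).symm⟩
  have hZ : Cfsg.IsZassenhausGroup G Ω := by
    refine ⟨hfaith, h2, hthree, ?_, ?_⟩
    · haveI : Nontrivial ↥D := Finite.one_lt_card_iff_nontrivial.1 F.d2
      obtain ⟨d, hd⟩ := exists_ne (1 : ↥D)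
      exact ⟨d, fun e => hd (Subtype.ext e), a, b, Ne.symm hb, hD d d.2⟩
    · intro N hN hNt
      by_contra hall
      push Not at hall
      have hreg : ∀ n ∈ N, ∀ z : Ω, n • z = z → n = 1 := fun n hn z hz => by
        have h1 : (⟨n, hn⟩ : ↥N) ∈ stabilizer N z := hz
        rw [hall z, mem_bot] at h1
        exact congrArg Subtype.val h1
      have hNcard : Nat.card ↥N = Nat.card Ω := Nat.card_congr (Equiv.ofBijective
        (fun n : ↥N => (n : G) • a) ⟨fun n n' e => by
          have := hreg _ (mul_mem (inv_mem n'.2) n.2) a (by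
            rw [mul_smul, inv_smul_eq_iff]; exact e)
          exact Subtype.ext (inv_mul_eq_one.1 this).symm,
          fun z => by obtain ⟨n, hn⟩ := hNt.exists_smul_eq a z; exact ⟨n, hn⟩⟩)
      haveI : Fact (Nat.Prime 2) := ⟨Nat.prime_two⟩
      have heven : 2 ∣ Nat.card ↥N := by
        rw [hNcard, hn, ← F.qd]; exact ⟨Nat.card ↥D + 1, by ring⟩
      obtain ⟨n₀, hn₀⟩ := exists_prime_orderOf_dvd_card' 2 heven
      rw [← orderOf_coe] at hn₀
      have hn₀a : (n₀ : G) • a ≠ a := fun e => ne_one_of_two hn₀ (hreg _ n₀.2 a e)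
      have hinvol : ∀ n ∈ N, n * n = 1 := by
        intro n hn
        by_cases h1 : n = 1
        · rw [h1, mul_one]
        have hna : n • a ≠ a := fun e => h1 (hreg n hn a e)
        obtain ⟨x, hx, -⟩ := F.regular a htr hst hna hn₀a
        have hxa : (x : G) • a = a := by rw [← mem_stabilizer_iff, hst]; exact le_normalizer x.2
        have he : (x : G) * n * (x : G)⁻¹ = n₀ := by
          have hm : (n₀ : G)⁻¹ * ((x : G) * n * (x : G)⁻¹) ∈ N :=
            mul_mem (inv_mem n₀.2) (hN.conj_mem n hn x)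
          have := hreg _ hm a (by
            rw [mul_smul, mul_smul, mul_smul, inv_smul_eq_iff.2 hxa.symm, hx, inv_smul_smul])
          exact (inv_mul_eq_one.1 this).symm
        have := two_pow_two hn₀
        rw [← he, conj_mul, conj_eq_one_iff] at this
        exact this
      have hNbot : N = ⊥ := hns N hN (isSolvable_of_le_commute fun p hp q hq => by
        have h1 := hinvol _ (mul_mem hp hq)
        have hp' := inv_eq_of_mul_eq_one_right (hinvol p hp)
        have hq' := inv_eq_of_mul_eq_one_right (hinvol q hq)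
        have hpq := inv_eq_of_mul_eq_one_right h1
        rw [mul_inv_rev, hp', hq'] at hpq
        exact hpq.symm)
      rw [hNbot, Subgroup.card_bot] at hNcard
      omega
  have hQa : Q ≤ stabilizer G a := hst ▸ le_normalizer
  rcases Cfsg.Agent.S0731.result hZ a Q hQa (by
      rw [hst]; exact Subgroup.normal_in_normalizer)
      ⟨⟨fun p q => Subtype.ext (F.qcomm p.2 q.2).eq⟩⟩
      (fun y z hy hz => F.regular a htr hst hy hz) with ⟨h3, -⟩ | ⟨K, iK, iKt, hK, ⟨e⟩⟩
  · exfalso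
    obtain ⟨f₀, -⟩ : ∃ f : Fin 3 ↪ Ω, True := ⟨⟨![a, b, c], fun i j h => by
      fin_cases i <;> fin_cases j <;> simp_all [eq_comm]⟩, trivial⟩
    have hle : Nat.card (Fin 3 ↪ Ω) ≤ Nat.card G :=
      Nat.card_le_card_of_surjective (fun g : G => g • f₀) (fun f => h3.exists_smul_eq f₀ f)
    rw [Nat.card_eq_fintype_card (α := Fin 3 ↪ Ω), Fintype.card_embedding_eq, Fintype.card_fin,
      ← Nat.card_eq_fintype_card, hn] at hle
    simp only [Nat.descFactorial] at hle
    have hc := F.card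
    have hpos : 0 < Nat.card G := Nat.card_pos
    have he : (Nat.card ↥Q + 1 - 2) * ((Nat.card ↥Q + 1 - 1) * ((Nat.card ↥Q + 1 - 0) * 1)) =
        2 * Nat.card G := by
      rw [hc, show Nat.card ↥Q + 1 - 2 = Nat.card ↥Q - 1 by omega]
      simp only [Nat.add_sub_cancel, Nat.sub_zero, mul_one]
      ring
    omega
  · refine ⟨K, iK, iKt, ?_, ⟨e⟩⟩
    obtain ⟨p, n, hp, hc⟩ := (⟨ringChar K, _, CharP.char_is_prime K (ringChar K),
      (FiniteField.card K (ringChar K)).choose_spec.2⟩ : ∃ p n, p.Prime ∧ Fintype.card K = p ^ n)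
    have hodd : Odd (Fintype.card K) := by
      exact Nat.odd_iff.2 (FiniteField.odd_card_of_char_ne_two hK)
    have hP := H37.card_PSL_fin (F := K) 2 (by norm_num)
    have hcd := F.card
    rw [Nat.card_congr e.toEquiv] at hcd
    rw [Nat.card_eq_fintype_card (α := K)] at hP
    have hgcd : Nat.gcd 2 (Fintype.card K - 1) = 2 := Nat.gcd_eq_left (by
      obtain ⟨k, hk⟩ := hodd; exact ⟨k, by omega⟩)
    simp only [hgcd, Fin.prod_univ_two, Fin.val_zero, Fin.val_one, pow_zero, pow_one] at hP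
    obtain ⟨k, hk⟩ := hodd
    rw [hk] at hP ⊢
    set P := Nat.card (Matrix.ProjectiveSpecialLinearGroup (Fin 2) K)
    obtain ⟨d, hd⟩ : ∃ d, Nat.card ↥Q = 2 * d + 1 := ⟨_, F.qd.symm⟩
    rw [hd] at hcd ⊢
    simp only [Nat.add_sub_cancel] at hP hcd
    have hk1 : 1 ≤ k := by have := Fintype.one_lt_card (α := K); omega
    have e1 : ((2 * k + 1) ^ 2 - 1) = 4 * k * (k + 1) := by
      rw [show (2 * k + 1) ^ 2 = 4 * k * (k + 1) + 1 by ring, Nat.add_sub_cancel]
    have e2 : ((2 * k + 1) ^ 2 - (2 * k + 1)) = 2 * k * (2 * k + 1) := by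
      rw [show (2 * k + 1) ^ 2 = 2 * k * (2 * k + 1) + (2 * k + 1) by ring, Nat.add_sub_cancel]
    rw [e1, e2] at hP
    have h1 : P = 2 * k * (k + 1) * (2 * k + 1) :=
      Nat.eq_of_mul_eq_mul_left (show 0 < 4 * k by omega) (by linarith)
    have h3 : k * (k + 1) * (2 * k + 1) = d * (d + 1) * (2 * d + 1) := by nlinarith
    rcases lt_trichotomy k d with h | h | h
    · exact absurd h3 (Nat.mul_lt_mul'' (Nat.mul_lt_mul'' h (by omega)) (by omega)).ne
    · omega
    · exact absurd h3.symm (Nat.mul_lt_mul'' (Nat.mul_lt_mul'' h (by omega)) (by omega)).ne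

end Pts

end H79.SameNorm
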