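import Mathlib

/-!
Involutions of `SL(2,F)` in characteristic two.
-/

set_option autoImplicit false

namespace H79.SameNorm.Char2

open Matrix

variable {F : Type*} [Field F] [CharP F 2] (A B : Matrix.SpecialLinearGroup (Fin 2) F)

theorem two_zero : (2 : F) = 0 := by exact_mod_cast CharP.cast_eq_zero F 2

theorem sq_entries : ∀ i j, (A * A : Matrix.SpecialLinearGroup (Fin 2) F).1 i j =
    A.1 i 0 * A.1 0 j + A.1 i 1 * A.1 1 j := fun i j => by
  simp [Matrix.mul_apply, Fin.sum_univ_two]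

theorem det_eq : A.1 0 0 * A.1 1 1 - A.1 0 1 * A.1 1 0 = 1 := by
  have := A.2
  rwa [Matrix.det_fin_two] at this

theorem sq_eq_one_iff : A * A = 1 ↔ A.1 0 0 + A.1 1 1 = 0 := by
  have h2 := two_zero (F := F)
  have hd := det_eq A
  constructor
  · intro h
    have h00 : (A * A).1 0 0 = 1 := by rw [h]; simp
    have h11 : (A * A).1 1 1 = 1 := by rw [h]; simp
    rw [sq_entries] at h00 h11
    refine pow_eq_zero_iff (n := 2) two_ne_zero |>.1 ?_
    linear_combination h00 + h11 + (A.1 0 0 * A.1 1 1 + 1 - A.1 0 1 * A.1 1 0) * h2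
  · intro h
    ext i j
    rw [sq_entries]
    fin_cases i <;> fin_cases j <;> simp
    · linear_combination A.1 0 0 * h - hd - h2
    · linear_combination A.1 0 1 * h
    · linear_combination A.1 1 0 * h
    · linear_combination A.1 1 1 * h - hd - h2

theorem trace_sq : (A * A).1 0 0 + (A * A).1 1 1 = (A.1 0 0 + A.1 1 1) ^ 2 := by
  have h2 := two_zero (F := F)
  rw [sq_entries, sq_entries]
  linear_combination (A.1 0 1 * A.1 1 0 - A.1 0 0 * A.1 1 1) * h2

theorem sq_eq_one_of_two_power : ∀ k : ℕ, ∀ A : Matrix.SpecialLinearGroup (Fin 2) F,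
    A ^ 2 ^ k = 1 → A * A = 1 := by
  intro k
  induction k with
  | zero => intro A h; rw [pow_zero, pow_one] at h; rw [h, one_mul]
  | succ k ih =>
    intro A h
    rw [pow_succ', pow_mul, pow_two] at h
    have h1 := (sq_eq_one_iff (A * A)).1 (ih _ h)
    rw [trace_sq] at h1
    exact (sq_eq_one_iff A).2 (pow_eq_zero_iff (n := 2) two_ne_zero |>.1 h1)

theorem eq_one_of_commute (hA : A * A = 1) (hA1 : A ≠ 1) (hB : Odd (orderOf B))
    (hc : A * B = B * A) : B = 1 := by
  have h2 := two_zero (F := F)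
  have ha := (sq_eq_one_iff A).1 hA
  have e : ∀ i j, A.1 i 0 * B.1 0 j + A.1 i 1 * B.1 1 j = B.1 i 0 * A.1 0 j + B.1 i 1 * A.1 1 j := by
    intro i j
    have := congrArg (fun M : Matrix.SpecialLinearGroup (Fin 2) F => M.1 i j) hc
    simpa [Matrix.mul_apply, Fin.sum_univ_two] using this
  have htr : B.1 0 0 + B.1 1 1 = 0 := by
    have e1 := e 0 1
    have e2 := e 1 0
    have h01 : A.1 0 1 * (B.1 0 0 + B.1 1 1) = 0 := by
      linear_combination e1 - B.1 0 1 * ha + (B.1 0 1 * A.1 1 1 + A.1 0 1 * B.1 0 0) * h2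
    have h10 : A.1 1 0 * (B.1 0 0 + B.1 1 1) = 0 := by
      linear_combination e2 - B.1 1 0 * ha + (B.1 1 0 * A.1 0 0 + A.1 1 0 * B.1 1 1) * h2
    by_contra hne
    apply hA1
    have b0 : A.1 0 1 = 0 := (mul_eq_zero.1 h01).resolve_right hne
    have c0 : A.1 1 0 = 0 := (mul_eq_zero.1 h10).resolve_right hne
    have hd := det_eq A
    rw [b0, c0] at hd
    have h00 : A.1 0 0 = 1 := by
      refine sub_eq_zero.1 (pow_eq_zero_iff (n := 2) two_ne_zero |>.1 ?_)
      linear_combination A.1 0 0 * ha - hd + (- A.1 0 0) * h2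
    have h11 : A.1 1 1 = 1 := by linear_combination ha - h00 - h2 + 0 * h2
    ext i j
    fin_cases i <;> fin_cases j <;> simp [b0, c0, h00, h11]
  have hB2 := (sq_eq_one_iff B).2 htr
  exact orderOf_eq_one_iff.1 (Nat.eq_one_of_dvd_coprimes hB.coprime_two_left
    (orderOf_dvd_of_pow_eq_one (by rw [pow_two]; exact hB2)) dvd_rfl)

end H79.SameNorm.Char2
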