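import Cfsg.Agent.H79.SameNorm.TwoGroup
import Cfsg.Agent.H6.Basic

/-!
The dihedral conclusion.
-/

set_option autoImplicit false
set_option linter.style.haveILetI false
set_option linter.unusedSectionVars false
set_option maxHeartbeats 1000000

namespace H79.SameNorm

open Subgroup

universe u

variable {G : Type u} [Group G] [Finite G]

/-- Dihedral shape of a `2`-group. -/
structure Dih (S : Subgroup G) (t c u : G) : Prop where
  cS : c ∈ S
  uS : u ∈ S
  u2 : orderOf u = 2
  t2 : orderOf t = 2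
  tc : t ∈ zpowers c
  uc : u ∉ zpowers c
  inv : u * c * u⁻¹ = c⁻¹
  all : ∀ s ∈ S, s ∈ zpowers c ∨ s * u ∈ zpowers c

variable {S : Sylow 2 G} (X : Ctx S) {t : G} (ht : orderOf t = 2) (htS : t ∈ (S : Subgroup G))
  (htc : Cen (S : Subgroup G) t)
include X ht htS htc

local notation "SS" => (S : Subgroup G)

theorem cen_eq {e : G} (he : orderOf e = 2) (heS : e ∈ SS) (hec : Cen SS e) : e = t :=
  central_unique X he heS hec ht htS htc

theorem exists_x' {u : G} (huS : u ∈ SS) (hu : orderOf u = 2) (hnc : ¬ Cen SS u) :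
    ∃ x ∈ SS, ¬ Commute x u ∧ t ∈ zpowers x ∧ x * x ≠ 1 := by
  obtain ⟨x, hx, hxu, t', htx, ht', ht'S, ht'c⟩ := exists_x X huS hu hnc
  obtain rfl := cen_eq X ht htS htc ht' ht'S ht'c
  refine ⟨x, hx, hxu, htx, fun h => hxu ?_⟩
  have hx2 : orderOf x = 2 := two_of_sq h (fun h' => hxu (h' ▸ Commute.one_left u))
  rcases mem_zpowers_two hx2 htx with h' | h'
  · exact absurd h' (ne_one_of_two ht')
  · exact h' ▸ (ht'c u huS).symm

omit ht htS htc in
theorem typeA_comm_sq {t v x : G} (ht : orderOf t = 2) (htc : Cen SS t) (hv : TypeA SS t v)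
    (hx : x ∈ SS) : Commute v (x * x) := by
  refine (commute_of_conj_eq ?_).symm
  rw [show x * x * v * (x * x)⁻¹ = x * (x * v * x⁻¹) * x⁻¹ by group]
  rcases hv x hx with h | h
  · rw [h, h]
  · rw [h, ← conj_mul, h, htc.conj hx, mul_assoc, two_pow_two ht, mul_one]

theorem typeA_all {z : G} (hzS : z ∈ SS) (hz : orderOf z = 2) (hznc : ¬ Cen SS z)
    (hzA : TypeA SS t z) : ∀ r ∈ SS, orderOf r = 2 → TypeA SS t r := by
  have first : ∀ r ∈ SS, orderOf r = 2 → ¬ Commute r z → TypeA SS t r := by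
    intro r hrS hr hrz
    have hsq : (z * r) * (z * r) = t := by
      rw [show (z * r) * (z * r) = z * ((r * z * r⁻¹) * (r * r)) by group, two_pow_two hr, mul_one]
      rcases hzA r hrS with h | h
      · exact absurd (commute_of_conj_eq h) hrz
      · rw [h, ← mul_assoc, two_pow_two hz, one_mul]
    have hx : TypeA SS t (z * r) := fun s hs => order_four_cases X ht hsq (htc s hs)
    have := TypeA.mul ht (mul_mem hzS hrS) htc hzA hx
    rwa [← mul_assoc, two_pow_two hz, one_mul] at this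
  intro r hrS hr
  by_cases hrz : Commute r z
  swap
  · exact first r hrS hr hrz
  obtain ⟨x, hxS, hxz, htx, hxx⟩ := exists_x' X ht htS htc hzS hz hznc
  obtain ⟨w, hwx, hww, hwS⟩ := exists_four pgS hxS ht htx hxx
  by_cases hrw : Commute r w
  · exact typeA_of_commute X ht htc hr hww hrS hwS hrw
  have hrw' : r * w * r⁻¹ = w * t :=
    (order_four_cases X ht hww (htc r hrS)).resolve_left fun h => hrw (commute_of_conj_eq h)
  by_cases hzw : Commute z w
  swap
  · have hzw' : z * w * z⁻¹ = w * t :=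
      (order_four_cases X ht hww (htc z hzS)).resolve_left fun h => hzw (commute_of_conj_eq h)
    have hc : Commute (r * z) w := commute_of_conj_eq (by
      rw [show r * z * w * (r * z)⁻¹ = r * (z * w * z⁻¹) * r⁻¹ by group, hzw', ← conj_mul, hrw',
        htc.conj hrS, mul_assoc, two_pow_two ht, mul_one])
    by_cases h1 : r * z = 1
    · rw [← inv_of_two hz] at hzA
      rwa [eq_inv_of_mul_eq_one_left h1]
    have h2 : orderOf (r * z) = 2 :=
      two_of_sq (by rw [hrz.symm.mul_mul_mul_comm, two_pow_two hr, two_pow_two hz, mul_one]) h1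
    have := TypeA.mul ht hzS htc (typeA_of_commute X ht htc h2 hww (mul_mem hrS hzS) hwS hc) hzA
    rwa [mul_assoc, two_pow_two hz, mul_one] at this
  have hzq : Commute z (x * x) := typeA_comm_sq X ht htc hzA hxS
  obtain ⟨l, hl⟩ := mem_zpowers_iff.1 hwx
  obtain ⟨i, hi⟩ : ∃ i : ℤ, w = (x * x) ^ i := by
    rcases Int.even_or_odd l with ⟨i, rfl⟩ | ⟨i, rfl⟩
    · exact ⟨i, by rw [← hl, zpow_add, (Commute.refl x).mul_zpow]⟩
    · refine absurd ?_ hxz
      have : x = ((x * x) ^ i)⁻¹ * w := by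
        rw [← hl, (Commute.refl x).mul_zpow, ← zpow_add, ← zpow_neg, ← zpow_add]
        rw [show -(i + i) + (2 * i + 1) = 1 by ring, zpow_one]
      rw [this]
      exact ((hzq.zpow_right i).inv_right.mul_right hzw).symm
  suffices hne : TypeA SS t r ∨ Commute r (x * x) by
    exact hne.resolve_right fun h => hrw (hi ▸ h.zpow_right i)
  have hrxm := (X.cond.f1 ht htx r).1 (htc r hrS)
  have hxr : r * x * r⁻¹ * x = x * (r * x * r⁻¹) := by
    obtain ⟨j, hj⟩ := mem_zpowers_iff.1 hrxm
    rw [← hj]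
    exact ((Commute.refl x).zpow_left j).eq
  have hyz : ¬ Commute (r * x) z := fun h => hxz (by
    have := hrz.inv_left.mul_left h
    rwa [inv_mul_cancel_left] at this)
  have hrinv := inv_of_two hr
  by_cases hy1 : (r * x) * (r * x) = 1
  · have hy2 := two_of_sq hy1 (fun h => hyz (h ▸ Commute.one_left z))
    have hc := typeA_comm_sq X ht htc (first _ (mul_mem hrS hxS) hy2 hyz) hxS
    have hcx : Commute x⁻¹ (x * x) := ((Commute.refl x).mul_right (Commute.refl x)).inv_left
    have := hc.mul_left hcx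
    rw [mul_inv_cancel_right] at this
    exact Or.inr this
  set p := (r * x) * (r * x) with hp
  have hpe : p = r * x * r⁻¹ * x := by rw [hp, hrinv]; group
  have hpx : p ∈ zpowers x := hpe ▸ mul_mem hrxm (mem_zpowers x)
  have hpS : p ∈ SS := mul_mem (mul_mem hrS hxS) (mul_mem hrS hxS)
  have hrp : Commute r p := commute_of_conj_eq (by
    rw [hpe, show r * (r * x * r⁻¹ * x) * r⁻¹ = (r * r) * x * r⁻¹ * x * r⁻¹ by group,
      two_pow_two hr, one_mul, hxr, hrinv]
    group)
  obtain ⟨v, hvp, hv2, -⟩ := exists_inv_mem pgS hpS hy1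
  obtain rfl : v = t := involution_mem_unique (zpowers_le.2 hpx hvp) htx hv2 ht
  by_cases hpp : p * p = 1
  · have hpt : p = v := involution_mem_unique (mem_zpowers p) hvp (two_of_sq hpp hy1) hv2
    have hzy : z * (r * x) * z⁻¹ = r * x * v := by
      rw [← conj_mul, hrz.symm.eq, mul_inv_cancel_right]
      rcases hzA x hxS with h | h
      · exact absurd (commute_of_conj_eq h) hxz
      · have h' : z * x * z⁻¹ = x * v := by
          have h1 : x * z = z * v * x := by rw [← h, inv_mul_cancel_right]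
          have h2 : z * x = x * z * v := by
            rw [h1, mul_assoc (z * v), (htc x hxS).eq, mul_assoc z, ← mul_assoc v, two_pow_two ht,
              one_mul]
          rw [h2, mul_assoc (x * z), (htc _ (inv_mem hzS)).symm.eq, ← mul_assoc,
            mul_inv_cancel_right]
        rw [h', mul_assoc r]
    have hsq : (r * x * z) * (r * x * z) = 1 := by
      rw [show (r * x * z) * (r * x * z) = (r * x) * ((z * (r * x) * z⁻¹) * (z * z)) by group,
        two_pow_two hz, mul_one, hzy, ← mul_assoc, ← hp, hpt, two_pow_two ht]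
    have hnz : ¬ Commute (r * x * z) z := fun h => hyz (by
      have := h.mul_left (Commute.refl z).inv_left
      rwa [mul_inv_cancel_right] at this)
    have h2 := two_of_sq hsq (fun h => hnz (h ▸ Commute.one_left z))
    have hc := typeA_comm_sq X ht htc (first _ (mul_mem (mul_mem hrS hxS) hzS) h2 hnz) hxS
    have hcx : Commute x⁻¹ (x * x) := ((Commute.refl x).mul_right (Commute.refl x)).inv_left
    have := (hc.mul_left hzq.inv_left).mul_left hcx
    rw [mul_inv_cancel_right, mul_inv_cancel_right] at this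
    exact Or.inr this
  · obtain ⟨w', hw'p, hw'w, hw'S⟩ := exists_four pgS hpS ht hvp hpp
    obtain ⟨j, rfl⟩ := mem_zpowers_iff.1 hw'p
    exact Or.inl (typeA_of_commute X ht htc hr hw'w hrS hw'S (hrp.zpow_right j))

theorem dih_of_no_typeA (hno : ∀ r ∈ SS, orderOf r = 2 → TypeA SS t r → Cen SS r) :
    ∃ c u, Dih SS t c u := by
  obtain ⟨z, hzS, hznc, hzz, hcc⟩ := exists_second X.na
  have hcase : ∀ s ∈ SS, s * z * s⁻¹ = z ∨ s * z * s⁻¹ = t * z := by
    intro s hs
    have hcS : s * z * s⁻¹ * z⁻¹ ∈ SS := mul_mem (mul_mem (mul_mem hs hzS) (inv_mem hs)) (inv_mem hzS)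
    have hsz : s * z * s⁻¹ = (s * z * s⁻¹ * z⁻¹) * z := by group
    by_cases h1 : s * z * s⁻¹ * z⁻¹ = 1
    · left; rwa [h1, one_mul] at hsz
    · right
      rwa [cen_eq X ht htS htc (two_of_sq (second_sq hsz (hcc s hs z hzS).symm
        ((hzz.conj hs))) h1) hcS (hcc s hs)] at hsz
  have hz1 : z * z ≠ 1 := fun h => hznc (hno z hzS
    (two_of_sq h fun h' => hznc (by subst h'; intro s _; exact Commute.one_right s))
    fun s hs => (hcase s hs).imp_right fun h' => h'.trans (htc z hzS).eq.symm)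
  obtain ⟨v, hv, hv2, hvS⟩ := exists_inv_mem pgS (mul_mem hzS hzS) hz1
  have hvc : Cen SS v := fun s hs => by
    obtain ⟨i, rfl⟩ := mem_zpowers_iff.1 hv
    exact (hzz s hs).zpow_right i
  obtain rfl := cen_eq X ht htS htc hv2 hvS hvc
  have htz : v ∈ zpowers z := zpowers_le.2 (mul_mem (mem_zpowers z) (mem_zpowers z)) hv
  obtain ⟨w, hwz, hww, hwS⟩ := exists_four pgS hzS ht htz hz1
  have Nr : ∀ r ∈ SS, orderOf r = 2 → ¬ Cen SS r → ∀ q ∈ SS, q * q = v → ¬ Commute r q :=
    fun r hrS hr hrnc q hqS hq hrq => hrnc (hno r hrS hr (typeA_of_commute X ht htc hr hq hrS hqS hrq))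
  set C₁ : Subgroup G := SS ⊓ centralizer {z} with hC₁
  have hmem : ∀ s, s ∈ C₁ ↔ s ∈ SS ∧ Commute s z := fun s => by
    rw [hC₁, mem_inf, mem_centralizer_singleton_iff]; exact Iff.rfl
  have hwc : ∀ s ∈ C₁, Commute s w := fun s hs => by
    obtain ⟨i, rfl⟩ := mem_zpowers_iff.1 hwz
    exact ((hmem s).1 hs).2.zpow_right i
  have hinv : ∀ r ∈ C₁, orderOf r = 2 → r = v := by
    intro r hr hr2
    by_contra hne
    exact Nr r ((hmem r).1 hr).1 hr2 (fun h => hne (cen_eq X ht htS htc hr2 ((hmem r).1 hr).1 h))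
      w hwS hww (hwc r hr)
  have hpg : IsPGroup 2 ↥C₁ := (pgS (S := S)).to_le inf_le_left
  have hn : ∀ a ∈ C₁, ∀ s ∈ SS, s * a * s⁻¹ ∈ zpowers a := by
    intro a ha s hs
    by_cases h1 : a = 1
    · subst h1; simp
    obtain ⟨b, hb, hb2, hbC⟩ := exists_inv_mem hpg ha h1
    obtain rfl := hinv b hbC hb2
    exact (X.cond.f1 ht hb s).1 (htc s hs)
  have hcomm : ∀ a ∈ C₁, ∀ b ∈ C₁, a * b = b * a := by
    intro a0 ha0 b0 hb0
    by_contra hab
    have hAN : H31.Hamilton.AllNormal ↥C₁ := fun H => ⟨fun h hh s => by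
      obtain ⟨i, hi⟩ := mem_zpowers_iff.1 (hn _ h.2 _ ((hmem _).1 s.2).1)
      rw [show s * h * s⁻¹ = h ^ i from Subtype.ext (by push_cast; exact hi.symm)]
      exact zpow_mem hh i⟩
    haveI : Fact (Nat.Prime 2) := ⟨Nat.prime_two⟩
    obtain ⟨-, ⟨a, ha⟩, ⟨b, hb⟩, ha4, -, -, hba⟩ := H31.Hamilton.exists_quaternion_pair hAN (p := 2)
      (x := ⟨a0, ha0⟩) (y := ⟨b0, hb0⟩) (hpg _) (hpg _) (fun h => hab (congrArg Subtype.val h))
    rw [orderOf_mk] at ha4
    have hba' : b * a * b⁻¹ = a⁻¹ := congrArg Subtype.val hba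
    have h4 : a ^ 4 = 1 := by rw [← ha4, pow_orderOf_eq_one]
    have hz1' : a * a ≠ 1 := fun h => by
      have h2 : orderOf a ∣ 2 := orderOf_dvd_of_pow_eq_one (by rw [pow_two]; exact h)
      rw [ha4] at h2; norm_num at h2
    have haa : a * a = v := hinv _ (mul_mem ha ha) (two_of_sq
      (by rw [← h4]; simp only [pow_succ, pow_zero, one_mul, mul_assoc]) hz1')
    have hwC : w ∈ C₁ := (hmem w).2 ⟨hwS, by
      obtain ⟨i, rfl⟩ := mem_zpowers_iff.1 hwz
      exact (Commute.refl z).zpow_left i⟩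
    have hsq : (a * w) * (a * w) = 1 := by
      rw [(hwc a ha).symm.mul_mul_mul_comm, haa, hww, two_pow_two ht]
    have hbav : Commute b (a * w) := by
      by_cases h1 : a * w = 1
      · rw [h1]; exact Commute.one_right b
      · rw [hinv _ (mul_mem ha hwC) (two_of_sq hsq h1)]
        exact htc b ((hmem b).1 hb).1
    have hba2 : Commute b a := by
      have := hbav.mul_right (hwc b hb).inv_right
      rwa [mul_inv_cancel_right] at this
    rw [hba2.eq, mul_inv_cancel_right] at hba'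
    exact hz1' (mul_eq_one_iff_eq_inv.2 hba')
  letI : CommGroup ↥C₁ :=
    { (inferInstance : Group ↥C₁) with mul_comm := fun a b => Subtype.ext (hcomm _ a.2 _ b.2) }
  haveI hcyc : IsCyclic ↥C₁ := H31.GenBound.cyclic_of_unique_involution hpg
    (z := ⟨v, (hmem v).2 ⟨htS, (htc z hzS).symm⟩⟩) (fun a ha => by
      by_cases h1 : a = 1
      · exact Or.inl h1
      · exact Or.inr (Subtype.ext (hinv _ a.2 (two_of_sq
          (by rw [pow_two] at ha; exact congrArg Subtype.val ha) fun h => h1 (Subtype.ext h)))))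
  obtain ⟨⟨c, hc⟩, hgen⟩ := IsCyclic.exists_generator (α := ↥C₁)
  have hC : ∀ s, s ∈ C₁ ↔ s ∈ zpowers c := fun s => by
    refine ⟨fun hs => ?_, fun hs => zpowers_le.2 hc hs⟩
    obtain ⟨i, hi⟩ := mem_zpowers_iff.1 (hgen ⟨s, hs⟩)
    exact mem_zpowers_iff.2 ⟨i, congrArg Subtype.val hi⟩
  obtain ⟨u, huS, hu, hunc⟩ := exists_noncentral X
  have huC : ∀ q, q ∈ C₁ → Commute u q → q * q ≠ v :=
    fun q hq h he => Nr u huS hu hunc q ((hmem q).1 hq).1 he h
  have hu1 : u ∉ C₁ := fun h => hunc (hinv u h hu ▸ htc)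
  have hcS := ((hmem c).1 hc).1
  refine ⟨c, u, hcS, huS, hu, ht, (hC v).1 ((hmem v).2 ⟨htS, (htc z hzS).symm⟩),
    fun h => hu1 ((hC u).2 h), ?_, ?_⟩
  · have huinv := inv_of_two hu
    set p := (c * u) * (c * u) with hp
    have hpe : p = c * (u * c * u⁻¹) := by rw [hp, huinv]; group
    have huc : u * c * u⁻¹ ∈ zpowers c := hn c hc u huS
    have hpC : p ∈ C₁ := (hC p).2 (hpe ▸ mul_mem (mem_zpowers c) huc)
    have hcc' : c * (u * c * u⁻¹) = (u * c * u⁻¹) * c := hcomm _ hc _ ((hC _).2 huc)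
    by_cases hp1 : p = 1
    · rw [hpe] at hp1; exact eq_inv_of_mul_eq_one_right hp1
    exfalso
    have hup : Commute u p := commute_of_conj_eq (by
      rw [hpe, show u * (c * (u * c * u⁻¹)) * u⁻¹ = (u * c * u⁻¹) * ((u * u) * c * (u * u)⁻¹) by group,
        two_pow_two hu, hcc']
      simp)
    obtain ⟨b, hbp, hb2, hbC⟩ := exists_inv_mem hpg hpC hp1
    obtain rfl := hinv b hbC hb2
    by_cases hpp : p * p = 1
    swap
    · obtain ⟨q, hq, hqq, hqC⟩ := exists_four hpg hpC ht hbp hpp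
      obtain ⟨i, rfl⟩ := mem_zpowers_iff.1 hq
      exact huC _ hqC (hup.zpow_right i) hqq
    have hpt : p = b := involution_mem_unique (mem_zpowers p) hbp (two_of_sq hpp hp1) hb2
    rcases order_four_cases X ht hpt (htc c hcS) with h | h
    · have huc' : Commute u c := by
        show u * c = c * u
        rw [show c * (c * u) * c⁻¹ = c * (c * (u * c⁻¹)) by group, mul_right_inj] at h
        rw [← mul_assoc, mul_inv_eq_iff_eq_mul] at h
        exact h.symm
      obtain ⟨i, hi⟩ := mem_zpowers_iff.1 ((hC z).1 ((hmem z).2 ⟨hzS, Commute.refl z⟩))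
      exact hu1 ((hmem u).2 ⟨huS, hi ▸ huc'.zpow_right i⟩)
    · have h1 : u * c * u⁻¹ = b * c := by
        have h2 : c * u * c⁻¹ = u * b := by
          rw [show c * (c * u) * c⁻¹ = c * (c * u * c⁻¹) by group, mul_assoc c u b] at h
          exact mul_left_cancel h
        calc u * c * u⁻¹ = u * (u * b)⁻¹ * (u * b) * c * u⁻¹ := by group
          _ = u * (u * b)⁻¹ * (c * u * c⁻¹) * c * u⁻¹ := by rw [h2]
          _ = u * b⁻¹ * u⁻¹ * c := by group
          _ = b * c := by rw [inv_of_two ht, htc.conj huS]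
      have hcc : c * c = 1 := by
        rw [hpe, h1, ← mul_assoc, (htc c hcS).eq, mul_assoc] at hpt
        exact mul_eq_left.1 hpt
      have hzc : z * z = 1 := by
        obtain ⟨i, hi⟩ := mem_zpowers_iff.1 ((hC z).1 ((hmem z).2 ⟨hzS, Commute.refl z⟩))
        rw [← hi, ← (Commute.refl c).mul_zpow, hcc, one_zpow]
      exact hz1 hzc
  · intro s hs
    rcases hcase s hs with h | h
    · exact Or.inl ((hC s).1 ((hmem s).2 ⟨hs, commute_of_conj_eq h⟩))
    · refine Or.inr ((hC _).1 ((hmem _).2 ⟨mul_mem hs huS, commute_of_conj_eq ?_⟩))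
      have hu' : u * z * u⁻¹ = v * z :=
        (hcase u huS).resolve_left fun h' => hu1 ((hmem u).2 ⟨huS, commute_of_conj_eq h'⟩)
      rw [show s * u * z * (s * u)⁻¹ = s * (u * z * u⁻¹) * s⁻¹ by group, hu', ← conj_mul, h,
        htc.conj hs, ← mul_assoc, two_pow_two ht, one_mul]

theorem dihedral : ∃ c u, Dih SS t c u := by
  by_cases hno : ∀ r ∈ SS, orderOf r = 2 → TypeA SS t r → Cen SS r
  · exact dih_of_no_typeA X ht htS htc hno
  push Not at hno
  obtain ⟨z, hzS, hz, hzA, hznc⟩ := hno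
  have hall := typeA_all X ht htS htc hzS hz hznc hzA
  obtain ⟨g, huS, hut⟩ := X.ns.not_isolated S ht htS
  set u := g * t * g⁻¹ with hudef
  have hu : orderOf u = 2 := conj_two ht g
  have hunc : ¬ Cen SS u := fun h => hut (cen_eq X ht htS htc hu huS h)
  have huA := hall u huS hu
  have hback : ∀ a, Commute a u → g⁻¹ * a * g ∈ SS := fun a ha => X.cent t ht htS htc _ (by
    show _ * _ = _ * _
    calc g⁻¹ * a * g * t = g⁻¹ * (a * (g * t * g⁻¹)) * g := by group
      _ = g⁻¹ * ((g * t * g⁻¹) * a) * g := by rw [← hudef, ha.eq]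
      _ = _ := by group)
  have hfrom : ∀ s ∈ SS, Commute (g * s * g⁻¹) u := fun s hs => by
    rw [hudef]
    show _ * _ = _ * _
    rw [conj_mul, conj_mul, (htc s hs).eq]
  have hin : ∀ a, Commute a t → a ∈ SS := X.cent t ht htS htc
  set t₀ := g⁻¹ * t * g with ht₀def
  have ht₀S : t₀ ∈ SS := hback t (htc u huS).symm
  have ht₀ : orderOf t₀ = 2 := by
    have := conj_two ht g⁻¹
    rwa [inv_inv] at this
  have ht₀nc : ¬ Cen SS t₀ := fun h => hut (by
    have h1 := cen_eq X ht htS htc ht₀ ht₀S h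
    rw [hudef]
    conv_lhs => rw [← h1, ht₀def]
    group)
  obtain ⟨y, hyS, hyt, hty, -⟩ := exists_x' X ht htS htc ht₀S ht₀ ht₀nc
  set x' := g * y * g⁻¹ with hx'def
  have hx'u : Commute x' u := hfrom y hyS
  have hux' : u ∈ zpowers x' := by
    obtain ⟨i, hi⟩ := mem_zpowers_iff.1 hty
    exact mem_zpowers_iff.2 ⟨i, by rw [hx'def, conj_zpow, hi]⟩
  have hx't : x' * t * x'⁻¹ = t * u := by
    have h1 : y * t₀ * y⁻¹ = t₀ * t :=
      (hall t₀ ht₀S ht₀ y hyS).resolve_left fun h => hyt (commute_of_conj_eq h)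
    calc x' * t * x'⁻¹ = g * (y * t₀ * y⁻¹) * g⁻¹ := by rw [hx'def, ht₀def]; group
      _ = t * u := by rw [h1, ht₀def, hudef]; group
  obtain ⟨x, hxS, hxu, htx, hxx⟩ := exists_x' X ht htS htc huS hu hunc
  have hxu' : x * u * x⁻¹ = u * t :=
    (huA x hxS).resolve_left fun h => hxu (commute_of_conj_eq h)
  have htu : Commute t u := (htc u huS).symm
  have htu1 : t * u ≠ 1 := fun h => hut (by rw [← inv_of_two ht]; exact eq_inv_of_mul_eq_one_right h)
  have htu2 : orderOf (t * u) = 2 :=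
    two_of_sq (by rw [htu.symm.mul_mul_mul_comm, two_pow_two ht, two_pow_two hu, mul_one]) htu1
  have hconjc : ∀ {a b c : G}, Commute a b → Commute (c * a * c⁻¹) (c * b * c⁻¹) := fun {a b c} h => by
    show _ * _ = _ * _
    rw [conj_mul, conj_mul, h.eq]
  -- no element of order four of the intersection squares to `t`
  have hA : ∀ a, Commute a t → Commute a u → a * a ≠ t := by
    intro a hat hau haa
    set w' := x' * a * x'⁻¹ with hw'
    have hw'u : Commute w' u := by
      have := hconjc (c := x') hau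
      rwa [hx'u.eq, mul_inv_cancel_right] at this
    have hw'tu : Commute w' (t * u) := hx't ▸ hconjc hat
    have hw't : Commute w' t := by
      have := hw'tu.mul_right hw'u.inv_right
      rwa [mul_inv_cancel_right] at this
    have hw'S := hin w' hw't
    have hw'2 : w' * w' = t * u := by rw [hw', conj_mul, haa, hx't]
    set w'' := x * w' * x⁻¹ with hw''
    have hw''2 : w'' * w'' = u := by
      rw [hw'', conj_mul, hw'2, ← conj_mul, htc.conj hxS, hxu', htu.symm.eq, ← mul_assoc,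
        two_pow_two ht, one_mul]
    have hw''S : w'' ∈ SS := mul_mem (mul_mem hxS hw'S) (inv_mem hxS)
    have hw''t : Commute w'' t := htc _ hw''S
    have hw''u : Commute w'' u := by
      have h1 := hconjc (c := x) (hw'u)
      rw [hxu'] at h1
      have := h1.mul_right hw''t.inv_right
      rwa [mul_inv_cancel_right] at this
    have hw''tu : Commute w'' (t * u) := hw''t.mul_right hw''u
    have hb : u ∈ zpowers w'' := hw''2 ▸ mul_mem (mem_zpowers _) (mem_zpowers _)
    have ha' : t * u ∈ zpowers w' := hw'2 ▸ mul_mem (mem_zpowers _) (mem_zpowers _)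
    have hne : t * u ≠ u := fun h => ne_one_of_two ht (mul_eq_right.1 h)
    have hww : Commute w' w'' := commute_of_norm pgS hw'S hw''S ha' htu2 hb hu hne
      ((X.cond.f1 hu hb w').1 hw'u) ((X.cond.f1 htu2 ha' w'').1 hw''tu)
    have hm : w' * w''⁻¹ ∈ zpowers x := by
      have h1 := (X.cond.f1 ht htx w').1 (htc w' hw'S)
      rw [show w' * w''⁻¹ = (w' * x * w'⁻¹) * x⁻¹ by rw [hw'']; group]
      exact mul_mem h1 (inv_mem (mem_zpowers x))
    set w3 := x * w'' * x⁻¹ with hw3
    have hmx : x * (w' * w''⁻¹) * x⁻¹ = w' * w''⁻¹ := by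
      obtain ⟨i, hi⟩ := mem_zpowers_iff.1 hm
      rw [← hi, ((Commute.refl x).zpow_right i).eq, mul_inv_cancel_right]
    rw [← conj_mul, ← hw'', ← conj_inv, ← hw3] at hmx
    have h3 : w3 ∈ zpowers w' := by
      have hc : Commute (x * x) (t * u) :=
        (htc _ (mul_mem hxS hxS)).mul_right (typeA_comm_sq X ht htc huA hxS).symm
      have := (X.cond.f1 htu2 ha' (x * x)).1 hc
      rwa [show x * x * w' * (x * x)⁻¹ = w3 by rw [hw3, hw'']; group] at this
    have hw3c : Commute w'' w3⁻¹ := by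
      obtain ⟨i, hi⟩ := mem_zpowers_iff.1 h3
      rw [← hi]; exact (hww.symm.zpow_right i).inv_right
    have he : w' * w3 = u := by
      rw [← hw''2]
      calc w' * w3 = (w' * w''⁻¹) * w'' * w3 := by group
        _ = w'' * (w3⁻¹ * w'') * w3 := by rw [← hmx]; group
        _ = w'' * (w'' * w3⁻¹) * w3 := by rw [hw3c.eq]
        _ = _ := by group
    exact ne_one_of_two ht (mul_eq_right.1 (involution_mem_unique ha'
      (he ▸ mul_mem (mem_zpowers w') h3) htu2 hu))
  have hBt : ∀ a, Commute a t → Commute a u → a * a ≠ t * u := by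
    intro a hat hau haa
    have h1 : Commute (x'⁻¹ * a * x') t := by
      have := hconjc (c := x'⁻¹) (hat.mul_right hau)
      rw [inv_inv] at this
      rwa [← hx't, show x'⁻¹ * (x' * t * x'⁻¹) * x' = t by group] at this
    have h2 : Commute (x'⁻¹ * a * x') u := by
      have := hconjc (c := x'⁻¹) hau
      rwa [inv_inv, hx'u.inv_left.eq, inv_mul_cancel_right] at this
    refine hA _ h1 h2 ?_
    rw [show x'⁻¹ * a * x' * (x'⁻¹ * a * x') = x'⁻¹ * (a * a) * x' by group, haa, ← hx't]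
    group
  have hWx : ∀ a, Commute a t → Commute a u →
      Commute (x * a * x⁻¹) t ∧ Commute (x * a * x⁻¹) u := by
    intro a hat hau
    have h1 : Commute (x * a * x⁻¹) t := by
      have := hconjc (c := x) hat
      rwa [htc.conj hxS] at this
    refine ⟨h1, ?_⟩
    have h2 := hconjc (c := x) hau
    rw [hxu'] at h2
    have := h2.mul_right h1.inv_right
    rwa [mul_inv_cancel_right] at this
  have hBu : ∀ a, Commute a t → Commute a u → a * a ≠ u := by
    intro a hat hau haa
    refine hBt _ (hWx a hat hau).1 (hWx a hat hau).2 ?_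
    rw [conj_mul, haa, hxu', htu.eq]
  set W : Subgroup G := centralizer {t} ⊓ centralizer {u} with hW
  have hWm : ∀ a, a ∈ W ↔ Commute a t ∧ Commute a u := fun a => by
    rw [hW, mem_inf, mem_centralizer_singleton_iff, mem_centralizer_singleton_iff]; exact Iff.rfl
  have hWS : W ≤ SS := fun a ha => hin a ((hWm a).1 ha).1
  have hpgW : IsPGroup 2 ↥W := (pgS (S := S)).to_le hWS
  -- commutators with `x`, `x'`
  have hcx : ∀ a ∈ W, Commute (x * a * x⁻¹ * a⁻¹) a ∧ (x * a * x⁻¹ * a⁻¹) * (x * a * x⁻¹ * a⁻¹) = 1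
      ∧ (x * a * x⁻¹ * a⁻¹ = 1 ∨ x * a * x⁻¹ * a⁻¹ = t) := by
    intro a ha
    obtain ⟨hat, hau⟩ := (hWm a).1 ha
    set m := x * a * x⁻¹ * a⁻¹ with hm
    have hmx : m ∈ zpowers x := by
      have h1 := (X.cond.f1 ht htx a).1 hat
      rw [show m = x * (a * x * a⁻¹)⁻¹ by rw [hm]; group]
      exact mul_mem (mem_zpowers x) (inv_mem h1)
    have hmW : m ∈ W := mul_mem ((hWm _).2 (hWx a hat hau)) (inv_mem ha)
    by_cases hm1 : m = 1
    · exact ⟨hm1 ▸ Commute.one_left a, by rw [hm1, one_mul], Or.inl hm1⟩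
    obtain ⟨v, hv, hv2, -⟩ := exists_inv_mem hpgW hmW hm1
    obtain rfl : v = t := involution_mem_unique (zpowers_le.2 hmx hv) htx hv2 ht
    have hmm : m * m = 1 := by
      by_contra hmm
      obtain ⟨q, -, hqq, hqW⟩ := exists_four hpgW hmW ht hv hmm
      exact hA q ((hWm q).1 hqW).1 ((hWm q).1 hqW).2 hqq
    have hmv : m = v := involution_mem_unique hmx htx (two_of_sq hmm hm1) ht
    exact ⟨hmv ▸ hat.symm, hmm, Or.inr hmv⟩
  have hcx' : ∀ a ∈ W, Commute x' (a * a) := by
    intro a ha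
    obtain ⟨hat, hau⟩ := (hWm a).1 ha
    set m := x' * a * x'⁻¹ * a⁻¹ with hm
    have hmx : m ∈ zpowers x' := by
      have h1 := (X.cond.f1 hu hux' a).1 hau
      rw [show m = x' * (a * x' * a⁻¹)⁻¹ by rw [hm]; group]
      exact mul_mem (mem_zpowers x') (inv_mem h1)
    have hmW : m ∈ W := by
      refine mul_mem ((hWm _).2 ?_) (inv_mem ha)
      have h1 := hconjc (c := x') hau
      rw [hx'u.eq, mul_inv_cancel_right] at h1
      refine ⟨?_, h1⟩
      have h2 := hconjc (c := x') hat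
      rw [hx't] at h2
      have := h2.mul_right h1.inv_right
      rwa [mul_inv_cancel_right] at this
    have hmc : Commute m a ∧ m * m = 1 := by
      by_cases hm1 : m = 1
      · exact ⟨hm1 ▸ Commute.one_left a, by rw [hm1, one_mul]⟩
      obtain ⟨v, hv, hv2, -⟩ := exists_inv_mem hpgW hmW hm1
      obtain rfl : v = u := involution_mem_unique (zpowers_le.2 hmx hv) hux' hv2 hu
      have hmm : m * m = 1 := by
        by_contra hmm
        obtain ⟨q, -, hqq, hqW⟩ := exists_four hpgW hmW hv2 hv hmm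
        exact hBu q ((hWm q).1 hqW).1 ((hWm q).1 hqW).2 hqq
      exact ⟨(involution_mem_unique hmx hux' (two_of_sq hmm hm1) hv2) ▸ hau.symm, hmm⟩
    refine commute_of_conj_eq ?_
    rw [← conj_mul, show x' * a * x'⁻¹ = m * a by rw [hm, inv_mul_cancel_right],
      hmc.1.symm.mul_mul_mul_comm, hmc.2, one_mul]
  -- the intersection is elementary
  have hel : ∀ a ∈ W, a * a = 1 := by
    by_contra hne
    push Not at hne
    obtain ⟨a, ha, haa⟩ := hne
    set P : Subgroup G := closure {b | ∃ a ∈ W, a * a = b} with hP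
    have hPS : P ≤ SS := (closure_le _).2 fun b ⟨a, ha, e⟩ => e ▸ mul_mem (hWS ha) (hWS ha)
    have hPx' : P ≤ centralizer {x'} := (closure_le _).2 fun b ⟨a, ha, e⟩ =>
      mem_centralizer_singleton_iff.2 (e ▸ (hcx' a ha).symm.eq)
    haveI : (P.subgroupOf SS).Normal := ⟨fun q hq s => by
      have hmap : P.map (MulAut.conj (s : G)).toMonoidHom ≤ P := by
        rw [hP, MonoidHom.map_closure, closure_le]
        rintro _ ⟨_, ⟨a, ha, rfl⟩, rfl⟩
        refine subset_closure ⟨(s : G) * a * (s : G)⁻¹, ?_, ?_⟩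
        · obtain ⟨hat, hau⟩ := (hWm a).1 ha
          have h1 := htc _ (mul_mem (mul_mem s.2 (hWS ha)) (inv_mem s.2))
          refine (hWm _).2 ⟨h1, ?_⟩
          have h2 := hconjc (c := (s : G)) hau
          rcases huA s s.2 with h | h <;> rw [h] at h2
          · exact h2
          · have := h2.mul_right h1.inv_right
            rwa [mul_inv_cancel_right] at this
        · simp
      exact hmap ⟨q, hq, rfl⟩⟩
    have hPne : P.subgroupOf SS ≠ ⊥ := by
      intro h
      have hm : (⟨a * a, mul_mem (hWS ha) (hWS ha)⟩ : ↥SS) ∈ P.subgroupOf SS :=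
        subset_closure ⟨a, ha, rfl⟩
      rw [h, mem_bot] at hm
      exact haa (congrArg Subtype.val hm)
    haveI : Fact (Nat.Prime 2) := ⟨Nat.prime_two⟩
    obtain ⟨q, hq, hq1⟩ := (Subgroup.ne_bot_iff_exists_ne_one).1
      (H6.inf_center_ne_bot (pgS (S := S)) (N := P.subgroupOf SS) hPne) |> fun ⟨q, hq⟩ =>
        (⟨q.1, q.2, fun h => hq (Subtype.ext h)⟩ : ∃ q, q ∈ P.subgroupOf SS ⊓ center ↥SS ∧ q ≠ 1)
    obtain ⟨v, hv, hv2, hvS⟩ := exists_inv_mem pgS q.2 (fun h => hq1 (Subtype.ext h))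
    have hvc : Cen SS v := fun s hs => by
      obtain ⟨i, rfl⟩ := mem_zpowers_iff.1 hv
      exact (show Commute s (q : G) from
        congrArg Subtype.val (mem_center_iff.1 hq.2 ⟨s, hs⟩)).zpow_right i
    obtain rfl := cen_eq X ht htS htc hv2 hvS hvc
    have hvP : v ∈ centralizer {x'} := hPx' (zpowers_le.2 (show (q : G) ∈ P from hq.1) hv)
    rw [(mem_centralizer_singleton_iff.1 hvP).symm, mul_inv_cancel_right] at hx't
    exact ne_one_of_two hu (mul_eq_left.1 hx't.symm)
  have hxcoset : ∀ s ∈ SS, ¬ Commute s u → Commute (x * s) u := by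
    intro s hs hsu
    refine commute_of_conj_eq ?_
    rw [show x * s * u * (x * s)⁻¹ = x * (s * u * s⁻¹) * x⁻¹ by group,
      (huA s hs).resolve_left fun h => hsu (commute_of_conj_eq h), ← conj_mul, hxu', htc.conj hxS,
      mul_assoc, two_pow_two ht, mul_one]
  have hfix : ∀ a ∈ W, x * a * x⁻¹ = a → a = 1 ∨ a = t := by
    intro a ha hxa
    by_cases ha1 : a = 1
    · exact Or.inl ha1
    refine Or.inr (cen_eq X ht htS htc (two_of_sq (hel a ha) ha1) (hWS ha) fun s hs => ?_)
    have hWc : ∀ b ∈ W, Commute b a := fun b hb => by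
      have h1 := hel _ (mul_mem hb ha)
      show b * a = a * b
      calc b * a = (b * a)⁻¹ := (inv_eq_of_mul_eq_one_right h1).symm
        _ = a⁻¹ * b⁻¹ := mul_inv_rev b a
        _ = a * b := by rw [inv_eq_of_mul_eq_one_right (hel _ hb),
            inv_eq_of_mul_eq_one_right (hel _ ha)]
    by_cases hsu : Commute s u
    · exact hWc s ((hWm s).2 ⟨htc s hs, hsu⟩)
    · have h := (commute_of_conj_eq hxa).inv_left.mul_left
        (hWc _ ((hWm _).2 ⟨htc _ (mul_mem hxS hs), hxcoset s hs hsu⟩))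
      rwa [inv_mul_cancel_left] at h
  have hW4 : ∀ a ∈ W, a ∈ zpowers x ∨ a * u ∈ zpowers x := by
    intro a ha
    have huW : u ∈ W := (hWm u).2 ⟨htu.symm, Commute.refl u⟩
    have hz : ∀ b : G, b = 1 ∨ b = t → b ∈ zpowers x := by
      rintro b (rfl | rfl)
      · exact one_mem _
      · exact htx
    rcases (hcx a ha).2.2 with h | h
    · exact Or.inl (hz a (hfix a ha (mul_inv_eq_one.1 h)))
    · refine Or.inr (hz _ (hfix _ (mul_mem ha huW) ?_))
      rw [← conj_mul, mul_inv_eq_iff_eq_mul.1 h, hxu', ← ((hWm a).1 ha).1.eq,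
        mul_assoc a t, ← mul_assoc t u t, htu.eq, mul_assoc u, two_pow_two ht, mul_one]
  have hx2t : x * x = t := by
    have hxxW : x * x ∈ W :=
      (hWm _).2 ⟨htc _ (mul_mem hxS hxS), (typeA_comm_sq X ht htc huA hxS).symm⟩
    exact (hfix _ hxxW (by group)).resolve_left hxx
  refine ⟨x, u, hxS, huS, hu, ht, htx, fun h => hxu ?_, ?_, fun s hs => ?_⟩
  · obtain ⟨i, hi⟩ := mem_zpowers_iff.1 h
    exact hi ▸ (Commute.refl x).zpow_right i
  · have h1 : x * u = u * t * x := by rw [← hxu', inv_mul_cancel_right]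
    have h2 : x⁻¹ = x * t := inv_eq_of_mul_eq_one_right (by
      rw [← mul_assoc, hx2t, two_pow_two ht])
    rw [h2, inv_of_two hu, mul_assoc, h1, mul_assoc u, ← mul_assoc u u, two_pow_two hu, one_mul,
      (htc x hxS).eq]
  · by_cases hsu : Commute s u
    · exact hW4 s ((hWm s).2 ⟨htc s hs, hsu⟩)
    · rcases hW4 _ ((hWm _).2 ⟨htc _ (mul_mem hxS hs), hxcoset s hs hsu⟩) with h | h
      · exact Or.inl (by simpa using mul_mem (inv_mem (mem_zpowers x)) h)
      · exact Or.inr (by simpa [mul_assoc] using mul_mem (inv_mem (mem_zpowers x)) h)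

end H79.SameNorm
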