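import Cfsg.Agent.H79.SameNorm.Cond
import Cfsg.Agent.H31.Hamilton
import Cfsg.Agent.H65.Dihedral

/-!
Under the same-normaliser condition, a non-abelian Sylow `2`-subgroup which is the centraliser of
each of its central involutions is dihedral.
-/

set_option autoImplicit false
set_option linter.style.haveILetI false

namespace H79.SameNorm

open Subgroup

universe u

variable {G : Type u} [Group G]

/-- `e` commutes with all of `S`. -/
def Cen (S : Subgroup G) (e : G) : Prop := ∀ s ∈ S, Commute s e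

/-- An involution all whose `S`-conjugates lie in `{r, r t}`. -/
def TypeA (S : Subgroup G) (t r : G) : Prop :=
  ∀ s ∈ S, s * r * s⁻¹ = r ∨ s * r * s⁻¹ = r * t

theorem Cen.conj {S : Subgroup G} {e : G} (h : Cen S e) {s : G} (hs : s ∈ S) :
    s * e * s⁻¹ = e := by rw [(h s hs).eq, mul_inv_cancel_right]

theorem commute_of_conj_eq {g a : G} (h : g * a * g⁻¹ = a) : Commute g a :=
  mul_inv_eq_iff_eq_mul.1 h

theorem four_cases {y g : G} (h4 : y ^ 4 = 1) (hg : g ∈ zpowers y) (hg2 : g * g ≠ 1) :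
    g = y ∨ g = y * (y * y) := by
  obtain ⟨i, rfl⟩ := mem_zpowers_iff.1 hg
  have hy : ∀ j : ℤ, y ^ j = y ^ (j % 4) := fun j => by
    conv_lhs => rw [← Int.emod_add_mul_ediv j 4, zpow_add, zpow_mul,
      show y ^ (4 : ℤ) = 1 from by exact_mod_cast h4, one_zpow, mul_one]
  have h0 : 0 ≤ i % 4 := Int.emod_nonneg _ (by norm_num)
  have h1 : i % 4 < 4 := Int.emod_lt_of_pos _ (by norm_num)
  rw [hy] at hg2 ⊢
  rcases (by omega : i % 4 = 0 ∨ i % 4 = 1 ∨ i % 4 = 2 ∨ i % 4 = 3) with h | h | h | h <;>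
    rw [h] at hg2 ⊢
  · simp at hg2
  · left; simp
  · exact absurd (by rw [← zpow_add]; exact_mod_cast h4) hg2
  · right; rw [show ((3 : ℤ)) = ((3 : ℕ) : ℤ) from rfl, zpow_natCast, pow_succ, pow_two, mul_assoc]

/-- Two elements normalising each other's cyclic groups, with different involutions, commute. -/
theorem commute_of_norm [Finite G] {S : Subgroup G} (hS : IsPGroup 2 S) {x y a b : G} (hx : x ∈ S)
    (hy : y ∈ S) (ha : a ∈ zpowers x) (ha2 : orderOf a = 2) (hb : b ∈ zpowers y)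
    (hb2 : orderOf b = 2) (hab : a ≠ b) (h1 : x * y * x⁻¹ ∈ zpowers y)
    (h2 : y * x * y⁻¹ ∈ zpowers x) : Commute x y := by
  by_contra hc
  have hcx : x * y * x⁻¹ * y⁻¹ ∈ zpowers x := by
    rw [show x * y * x⁻¹ * y⁻¹ = x * (y * x * y⁻¹)⁻¹ by group]
    exact mul_mem (mem_zpowers x) (inv_mem h2)
  have hcy : x * y * x⁻¹ * y⁻¹ ∈ zpowers y := mul_mem h1 (inv_mem (mem_zpowers y))
  have hne : x * y * x⁻¹ * y⁻¹ ≠ 1 := fun h =>
    hc (mul_inv_eq_iff_eq_mul.1 (mul_inv_eq_one.1 h))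
  obtain ⟨v, hv, hv2, -⟩ := exists_inv_mem hS
    (mul_mem (mul_mem (mul_mem hx hy) (inv_mem hx)) (inv_mem hy)) hne
  exact hab ((involution_mem_unique ha (zpowers_le.2 hcx hv) ha2 hv2).trans
    (involution_mem_unique hb (zpowers_le.2 hcy hv) hb2 hv2).symm)

/-- The element of order four of a cyclic `2`-group of order at least four. -/
theorem exists_four [Finite G] {S : Subgroup G} (hS : IsPGroup 2 S) {x t : G} (hx : x ∈ S)
    (ht : orderOf t = 2) (htx : t ∈ zpowers x) (hne : x * x ≠ 1) :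
    ∃ w ∈ zpowers x, w * w = t ∧ w ∈ S := by
  obtain ⟨k, hk⟩ := exists_order hS hx
  rcases k with _ | _ | k
  · exact absurd (by rw [orderOf_eq_one_iff.1 hk, mul_one]) hne
  · exact absurd (by rw [← pow_two, show 2 = orderOf x from hk.symm, pow_orderOf_eq_one]) hne
  · refine ⟨x ^ 2 ^ k, npow_mem_zpowers _ _, ?_, pow_mem hx _⟩
    rw [← pow_add, ← two_mul, ← pow_succ']
    exact involution_mem_unique (npow_mem_zpowers _ _) htx (exists_two hk) ht

variable [Finite G]

/-- The standing hypotheses. -/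
structure Ctx (S : Sylow 2 G) : Prop where
  cond : Cond G
  ns : NS G
  cent : ∀ e : G, orderOf e = 2 → e ∈ (S : Subgroup G) → Cen (S : Subgroup G) e →
    ∀ g, Commute g e → g ∈ (S : Subgroup G)
  na : ∃ a ∈ (S : Subgroup G), ∃ b ∈ (S : Subgroup G), ¬ Commute a b

variable {S : Sylow 2 G} (X : Ctx S)
include X

local notation "SS" => (S : Subgroup G)

omit X in
theorem pgS : IsPGroup 2 SS := S.isPGroup'

theorem exists_noncentral : ∃ u ∈ SS, orderOf u = 2 ∧ ¬ Cen SS u := by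
  by_contra hA
  push Not at hA
  have hn : ∀ x ∈ SS, ∀ s ∈ SS, s * x * s⁻¹ ∈ zpowers x := by
    intro x hx s hs
    by_cases h1 : x = 1
    · subst h1; simp
    · obtain ⟨v, hv, hv2, hvS⟩ := exists_inv_mem pgS hx h1
      exact (X.cond.f1 hv2 hv s).1 (hA v hvS hv2 s hs)
  have hAN : H31.Hamilton.AllNormal ↥SS := fun H => ⟨fun h hh s => by
    obtain ⟨i, hi⟩ := mem_zpowers_iff.1 (hn _ h.2 _ s.2)
    rw [show s * h * s⁻¹ = h ^ i from Subtype.ext (by push_cast; exact hi.symm)]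
    exact zpow_mem hh i⟩
  obtain ⟨a0, ha0, b0, hb0, hab0⟩ := X.na
  haveI : Fact (Nat.Prime 2) := ⟨Nat.prime_two⟩
  obtain ⟨-, a, b, ha4, -, hbb, hba⟩ := H31.Hamilton.exists_quaternion_pair hAN (p := 2)
    (x := ⟨a0, ha0⟩) (y := ⟨b0, hb0⟩) (pgS _) (pgS _) (fun h => hab0 (congrArg Subtype.val h))
  obtain ⟨a, haS⟩ := a
  obtain ⟨b, hbS⟩ := b
  rw [orderOf_mk] at ha4
  have hbb' : b * b = a * a := congrArg Subtype.val hbb
  have hba' : b * a * b⁻¹ = a⁻¹ := congrArg Subtype.val hba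
  have h4 : a * a * (a * a) = 1 := by
    rw [show a * a * (a * a) = a ^ 4 by simp only [pow_succ, pow_zero, one_mul, mul_assoc], ← ha4, pow_orderOf_eq_one]
  have hz1 : a * a ≠ 1 := fun h => by
    have h2 : orderOf a ∣ 2 := orderOf_dvd_of_pow_eq_one (by rw [pow_two]; exact h)
    rw [ha4] at h2; norm_num at h2
  have hz : orderOf (a * a) = 2 := two_of_sq h4 hz1
  have hzS : a * a ∈ SS := mul_mem haS haS
  obtain ⟨g, heS, hne⟩ := X.ns.not_isolated S hz hzS
  set e := g * (a * a) * g⁻¹ with he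
  have he2 : orderOf e = 2 := conj_two hz g
  have hsq : (g * a * g⁻¹) * (g * a * g⁻¹) = e := by rw [he]; group
  have ha'S : g * a * g⁻¹ ∈ SS := X.cent e he2 heS (hA e heS he2) _ (by
    show _ * _ = _ * _
    rw [← hsq]; group)
  set a' := g * a * g⁻¹ with ha'
  have hea : e ∈ zpowers a' := hsq ▸ mul_mem (mem_zpowers _) (mem_zpowers _)
  have hc1 : Commute a a' := commute_of_norm pgS haS ha'S
    (mul_mem (mem_zpowers a) (mem_zpowers a)) hz hea he2 (Ne.symm hne) (hn _ ha'S _ haS)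
    (hn _ haS _ ha'S)
  have hc2 : Commute b a' := commute_of_norm pgS hbS ha'S
    (hbb' ▸ mul_mem (mem_zpowers b) (mem_zpowers b)) hz hea he2 (Ne.symm hne) (hn _ ha'S _ hbS)
    (hn _ hbS _ ha'S)
  have hm : (a * a') * (a * a') = a * a * e := by
    rw [← hsq, ← mul_assoc, mul_assoc a a' a, ← hc1.eq]; group
  have hm1 : a * a * e ≠ 1 := fun h => hne (by
    rw [← inv_of_two hz]; exact eq_inv_of_mul_eq_one_right h)
  have hm2 : orderOf (a * a * e) = 2 :=
    two_of_sq (by rw [((hA e heS he2) _ hzS).symm.mul_mul_mul_comm, two_pow_two he2, mul_one, h4]) hm1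
  have hbm : b * (a * a') * b⁻¹ = a⁻¹ * a' := by
    rw [show b * (a * a') * b⁻¹ = (b * a * b⁻¹) * (b * a' * b⁻¹) by group, hba', hc2.eq,
      mul_inv_cancel_right]
  have hzm : a * a ∈ zpowers (a * a') := by
    have h1 := hn _ (mul_mem haS ha'S) _ hbS
    rw [hbm] at h1
    have h2 := mul_mem (mem_zpowers (a * a')) (inv_mem h1)
    rwa [show (a * a') * (a⁻¹ * a')⁻¹ = a * a by group] at h2
  have hkey := involution_mem_unique hzm (hm ▸ mul_mem (mem_zpowers _) (mem_zpowers _)) hz hm2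
  exact ne_one_of_two he2 (mul_eq_left.1 hkey.symm)

omit X in
/-- A non-central element of the second centre whose square is central. -/
theorem exists_second (hna : ∃ a ∈ SS, ∃ b ∈ SS, ¬ Commute a b) :
    ∃ z ∈ SS, ¬ Cen SS z ∧ Cen SS (z * z) ∧ ∀ s ∈ SS, Cen SS (s * z * s⁻¹ * z⁻¹) := by
  haveI : Fact (Nat.Prime 2) := ⟨Nat.prime_two⟩
  haveI : Nontrivial (↥SS ⧸ center ↥SS) := by
    rw [QuotientGroup.nontrivial_iff]
    intro h
    obtain ⟨a, ha, b, hb, hab⟩ := hna
    have : (⟨b, hb⟩ : ↥SS) ∈ center ↥SS := h ▸ mem_top _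
    exact hab (congrArg Subtype.val (mem_center_iff.1 this ⟨a, ha⟩))
  have hQ : IsPGroup 2 (↥SS ⧸ center ↥SS) := (pgS (S := S)).to_quotient _
  haveI := hQ.center_nontrivial
  obtain ⟨c, hc⟩ := exists_ne (1 : center (↥SS ⧸ center ↥SS))
  obtain ⟨v, hv, hv2, hvc⟩ := exists_inv_mem (hQ.to_subgroup (center _)) c.2
    (fun h => hc (Subtype.ext h))
  obtain ⟨z, rfl⟩ := QuotientGroup.mk_surjective v
  have key : ∀ w : ↥SS, w ∈ center ↥SS → Cen SS (w : G) := fun w hw s hs =>
    congrArg Subtype.val (mem_center_iff.1 hw ⟨s, hs⟩)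
  refine ⟨z, z.2, fun h => ?_, key (z * z) ?_, fun s hs => ?_⟩
  · exact ne_one_of_two hv2 ((QuotientGroup.eq_one_iff _).2
      (mem_center_iff.2 fun s => Subtype.ext (h s s.2)))
  · exact (QuotientGroup.eq_one_iff _).1 (two_pow_two hv2)
  · refine key (⟨s, hs⟩ * z * ⟨s, hs⟩⁻¹ * z⁻¹) ((QuotientGroup.eq_one_iff _).1 ?_)
    have := mem_center_iff.1 hvc (QuotientGroup.mk (⟨s, hs⟩ : ↥SS))
    rw [QuotientGroup.mk_mul, QuotientGroup.mk_mul, QuotientGroup.mk_mul, QuotientGroup.mk_inv,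
      QuotientGroup.mk_inv, this, mul_inv_cancel_right, mul_inv_cancel]

omit X in
theorem second_sq {z c s : G} (hc : s * z * s⁻¹ = c * z) (hcz : Commute c z)
    (hzz : s * (z * z) * s⁻¹ = z * z) : c * c = 1 := by
  have h : (c * z) * (c * z) = z * z := by rw [← hc, ← hzz]; group
  rw [hcz.symm.mul_mul_mul_comm] at h
  exact mul_eq_right.1 h

/-- For an involution `z` with central commutators, each `s` not commuting with it gives an element
with central involution. -/
theorem exists_x_aux {z : G} (hzS : z ∈ SS) (hz : orderOf z = 2)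
    (hcc : ∀ s ∈ SS, Cen SS (s * z * s⁻¹ * z⁻¹)) {s : G} (hs : s ∈ SS) (hns : ¬ Commute s z) :
    ∃ x ∈ SS, (x = s ∨ x = z * s) ∧ ∃ t ∈ zpowers x, orderOf t = 2 ∧ t ∈ SS ∧ Cen SS t := by
  set c := s * z * s⁻¹ * z⁻¹ with hcdef
  have hcS : c ∈ SS := mul_mem (mul_mem (mul_mem hs hzS) (inv_mem hs)) (inv_mem hzS)
  have hsz : s * z * s⁻¹ = c * z := by rw [hcdef, inv_mul_cancel_right]
  have hc2 : c * c = 1 := second_sq hsz (hcc s hs z hzS).symm (by
    rw [two_pow_two hz, mul_one, mul_inv_cancel])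
  have hc1 : c ≠ 1 := fun h => hns (commute_of_conj_eq (by rw [hsz, h, one_mul]))
  by_cases h1 : s * s = 1
  · refine ⟨z * s, mul_mem hzS hs, Or.inr rfl, c, ?_, two_of_sq hc2 hc1, hcS, hcc s hs⟩
    have : (z * s) * (z * s) = c := by
      have hsi : s⁻¹ = s := inv_eq_of_mul_eq_one_right h1
      rw [show (z * s) * (z * s) = z * (s * z * s) by group]
      nth_rw 2 [← hsi]
      rw [hsz, ← mul_assoc, ((hcc s hs) z hzS).eq, mul_assoc, two_pow_two hz, mul_one]
    exact this ▸ mul_mem (mem_zpowers _) (mem_zpowers _)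
  obtain ⟨v, hv, hv2, hvS⟩ := exists_inv_mem pgS (mul_mem hs hs) h1
  have hvs : v ∈ zpowers s := zpowers_le.2 (mul_mem (mem_zpowers s) (mem_zpowers s)) hv
  by_cases hvc : Cen SS v
  · exact ⟨s, hs, Or.inl rfl, v, hvs, hv2, hvS, hvc⟩
  exfalso
  have hss : Commute z (s * s) := by
    refine (commute_of_conj_eq ?_).symm
    rw [show s * s * z * (s * s)⁻¹ = s * (s * z * s⁻¹) * s⁻¹ by group, hsz,
      show s * (c * z) * s⁻¹ = (s * c * s⁻¹) * (s * z * s⁻¹) by group, hsz, (hcc s hs).conj hs,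
      ← mul_assoc, hc2, one_mul]
  obtain ⟨i, rfl⟩ := mem_zpowers_iff.1 hv
  have h2 := (X.cond.f1 hv2 hvs z).1 (hss.zpow_right i)
  have h3 : c ∈ zpowers s := by
    have h4 : s * (z * s * z⁻¹)⁻¹ ∈ zpowers s := mul_mem (mem_zpowers s) (inv_mem h2)
    rwa [show s * (z * s * z⁻¹)⁻¹ = c by rw [hcdef]; group] at h4
  exact hvc (involution_mem_unique h3 hvs (two_of_sq hc2 hc1) hv2 ▸ hcc s hs)

/-- A non-central involution does not centralise some element with central involution. -/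
theorem exists_x {u : G} (huS : u ∈ SS) (hu : orderOf u = 2) (hnc : ¬ Cen SS u) :
    ∃ x ∈ SS, ¬ Commute x u ∧ ∃ t ∈ zpowers x, orderOf t = 2 ∧ t ∈ SS ∧ Cen SS t := by
  obtain ⟨z, hzS, hznc, hzz, hcc⟩ := exists_second X.na
  -- an involution with central commutators
  suffices key : ∀ z ∈ SS, orderOf z = 2 → ¬ Cen SS z →
      (∀ s ∈ SS, Cen SS (s * z * s⁻¹ * z⁻¹)) →
      ∃ x ∈ SS, ¬ Commute x u ∧ ∃ t ∈ zpowers x, orderOf t = 2 ∧ t ∈ SS ∧ Cen SS t by
    by_cases h1 : z * z = 1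
    · exact key z hzS (two_of_sq h1 fun h => hznc (by subst h; intro s _; exact Commute.one_right s))
        hznc hcc
    obtain ⟨v, hv, hv2, hvS⟩ := exists_inv_mem pgS (mul_mem hzS hzS) h1
    have hvc : Cen SS v := fun s hs => by
      obtain ⟨i, rfl⟩ := mem_zpowers_iff.1 hv
      exact (hzz s hs).zpow_right i
    by_cases hzu : Commute z u
    swap
    · exact ⟨z, hzS, hzu, v, zpowers_le.2 (mul_mem (mem_zpowers z) (mem_zpowers z)) hv, hv2, hvS, hvc⟩
    refine key u huS hu hnc fun s hs => ?_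
    have hsq : (z * u) * (z * u) = z * z := by
      rw [hzu.symm.mul_mul_mul_comm, two_pow_two hu, mul_one]
    have hvy : v ∈ zpowers (z * u) :=
      zpowers_le.2 (hsq ▸ mul_mem (mem_zpowers _) (mem_zpowers _)) hv
    have hj := (X.cond.f1 hv2 hvy s).1 (hvc s hs)
    obtain ⟨j, hj⟩ := mem_zpowers_iff.1 hj
    have heven := even_of_mem_zpowers hv2 hvy
    have hodd : Odd j := by
      rw [← Int.not_even_iff_odd]
      rintro ⟨i, rfl⟩
      have ho : orderOf (s * (z * u) * s⁻¹) = orderOf (z * u) :=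
        orderOf_injective (MulAut.conj s).toMonoidHom (MulAut.conj s).injective (z * u)
      obtain ⟨m, hm⟩ := heven
      have hd : (s * (z * u) * s⁻¹) ^ m = 1 := by
        rw [← hj, ← zpow_natCast, ← zpow_mul, show (i + i) * (m : ℤ) = ((orderOf (z * u) : ℕ) : ℤ) * i by
          rw [hm]; push_cast; ring, zpow_mul, zpow_natCast, pow_orderOf_eq_one, one_zpow]
      have h5 := orderOf_dvd_of_pow_eq_one hd
      rw [ho, hm] at h5
      have := (isOfFinOrder_of_finite (z * u)).orderOf_pos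
      have := Nat.le_of_dvd (by omega) h5
      omega
    obtain ⟨i, rfl⟩ := hodd
    have hc' : s * u * s⁻¹ * u⁻¹ = (s * z * s⁻¹ * z⁻¹)⁻¹ * (z * z) ^ i := by
      rw [zpow_add, zpow_mul, zpow_two, hsq, zpow_one] at hj
      calc s * u * s⁻¹ * u⁻¹ = (s * z * s⁻¹)⁻¹ * (s * (z * u) * s⁻¹) * u⁻¹ := by group
        _ = (s * z * s⁻¹)⁻¹ * ((z * z) ^ i * (z * u)) * u⁻¹ := by rw [hj]
        _ = (s * z * s⁻¹)⁻¹ * z * (z * z) ^ i := by
          rw [← (((Commute.refl z).mul_right (Commute.refl z)).zpow_right i).left_comm]; group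
        _ = _ := by
          rw [show (s * z * s⁻¹)⁻¹ * z = z⁻¹ * (s * z * s⁻¹ * z⁻¹)⁻¹ * z by group,
            mul_assoc z⁻¹, ((hcc s hs z hzS).inv_right).symm.eq, inv_mul_cancel_left]
    rw [hc']
    intro r hr
    exact (hcc s hs r hr).inv_right.mul_right ((hzz r hr).zpow_right i)
  intro z hzS hz hznc hcc
  obtain ⟨s, hs, hsz, hsu⟩ : ∃ s ∈ SS, ¬ Commute s z ∧ (Commute z u → ¬ Commute s u) := by
    simp only [Cen, not_forall] at hznc hnc
    obtain ⟨s0, hs0, hs0z⟩ := hznc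
    obtain ⟨a, ha, hau⟩ := hnc
    by_cases haz : Commute a z
    swap
    · exact ⟨a, ha, haz, fun _ => hau⟩
    by_cases hs0u : Commute s0 u
    swap
    · exact ⟨s0, hs0, hs0z, fun _ => hs0u⟩
    refine ⟨a * s0, mul_mem ha hs0, fun h => hs0z ?_, fun _ h => hau ?_⟩
    · have := haz.inv_left.mul_left h
      rwa [inv_mul_cancel_left] at this
    · have := h.mul_left hs0u.inv_left
      rwa [mul_inv_cancel_right] at this
  by_cases hzu : Commute z u
  · obtain ⟨x, hx, hxe, h⟩ := exists_x_aux X hzS hz hcc hs hsz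
    refine ⟨x, hx, fun hxu => hsu hzu ?_, h⟩
    rcases hxe with rfl | rfl
    · exact hxu
    · have := hzu.inv_left.mul_left hxu
      rwa [inv_mul_cancel_left] at this
  · obtain ⟨x, hx, hxe, h⟩ := exists_x_aux X hzS hz hcc huS (fun h => hzu h.symm)
    rcases hxe with rfl | rfl
    · exfalso
      obtain ⟨t, ht, ht2, -, htc⟩ := h
      rcases mem_zpowers_two hu ht with h' | h'
      · exact ne_one_of_two ht2 h'
      · exact hnc (h' ▸ htc)
    · refine ⟨z * u, hx, fun h' => hzu ?_, h⟩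
      have := h'.mul_left (Commute.refl u).inv_left
      rwa [mul_inv_cancel_right] at this

theorem central_unique {e₁ e₂ : G} (h1 : orderOf e₁ = 2) (h1S : e₁ ∈ SS) (h1c : Cen SS e₁)
    (h2 : orderOf e₂ = 2) (h2S : e₂ ∈ SS) (h2c : Cen SS e₂) : e₁ = e₂ := by
  by_contra hne
  have h12 : Commute e₁ e₂ := h2c _ h1S
  have h3 : orderOf (e₁ * e₂) = 2 := two_of_sq
    (by rw [h12.symm.mul_mul_mul_comm, two_pow_two h1, two_pow_two h2, mul_one])
    (fun h => hne (by rw [← inv_of_two h2]; exact eq_inv_of_mul_eq_one_left h))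
  have h3c : Cen SS (e₁ * e₂) := fun s hs => (h1c s hs).mul_right (h2c s hs)
  -- some central involution has a non-central conjugate
  obtain ⟨u, huS, hu, hunc, e, he, heS, hec, g, hg⟩ : ∃ u ∈ SS, orderOf u = 2 ∧ ¬ Cen SS u ∧
      ∃ e : G, orderOf e = 2 ∧ e ∈ SS ∧ Cen SS e ∧ ∃ g : G, g * e * g⁻¹ = u := by
    by_contra hno
    push Not at hno
    obtain ⟨u₀, hu₀S, hu₀, hu₀nc⟩ := exists_noncentral X
    have hall : ∀ h : G, h * u₀ * h⁻¹ ∈ SS := by
      intro h
      set r := h * u₀ * h⁻¹ with hr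
      have hr2 : orderOf r = 2 := conj_two hu₀ h
      have hrc : ¬ IsConj e₁ r := by
        intro hh
        obtain ⟨c, hc⟩ := isConj_iff.1 hh
        exact hno u₀ hu₀S hu₀ hu₀nc e₁ h1 h1S h1c (h⁻¹ * c) (by rw [hr] at hc; rw [show
          h⁻¹ * c * e₁ * (h⁻¹ * c)⁻¹ = h⁻¹ * (c * e₁ * c⁻¹) * h by group, hc]; group)
      obtain ⟨-, w, hw, hwe, hwr, -⟩ := H65.exists_commuting_of_not_isConj h1 hr2 hrc
      have hwS := X.cent e₁ h1 h1S h1c w hwe
      -- the centraliser of `w` is a `2`-group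
      have hpg : IsPGroup 2 ↥(centralizer ({w} : Set G)) := by
        intro y
        obtain ⟨k, m, hm, hym⟩ := Nat.exists_eq_two_pow_mul_odd (orderOf_pos y).ne'
        refine ⟨k, ?_⟩
        by_contra hne1
        obtain ⟨p, hp, hpd⟩ := Nat.exists_prime_and_dvd (n := m) (fun h1m => hne1 (by
          rw [h1m, mul_one] at hym; rw [← hym]; exact pow_orderOf_eq_one y))
        have hp2 : Odd p := hm.of_dvd_nat hpd
        set q : G := (y : G) ^ (orderOf y / p) with hq
        have hdvd : p ∣ orderOf (y : G) := by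
          rw [orderOf_coe, hym]; exact Dvd.dvd.mul_left hpd _
        have hqo : orderOf q = p := by
          rw [hq, ← orderOf_coe y]
          exact orderOf_pow_orderOf_div (orderOf_pos _).ne' hdvd
        have hq1 : q ≠ 1 := fun h => hp.ne_one (by rw [← hqo, h, orderOf_one])
        have hqw : Commute w q := (mem_centralizer_singleton_iff.1 y.2 : (y : G) * w = w * y).symm
          |> fun h => (show Commute w (y : G) from h).pow_right _
        have inv : ∀ f : G, orderOf f = 2 → f ∈ SS → Cen SS f → f * q * f⁻¹ = q⁻¹ := by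
          intro f hf hfS hfc
          have hmem := (X.cond.f2 hw hqw (hqo ▸ hp2) hq1 f).1 (hfc w hwS).symm
          have hcq : Commute (f * q * f⁻¹) q := by
            obtain ⟨i, hi⟩ := mem_zpowers_iff.1 hmem
            rw [← hi]; exact (Commute.refl q).zpow_left i
          set p' := q * (f * q * f⁻¹) with hp'
          have hfix : f * p' * f⁻¹ = p' := by
            rw [hp', show f * (q * (f * q * f⁻¹)) * f⁻¹ =
              (f * q * f⁻¹) * ((f * f) * q * (f * f)⁻¹) by group, two_pow_two hf]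
            simpa using hcq.eq
          by_cases hp1 : p' = 1
          · exact (eq_inv_of_mul_eq_one_right hp1)
          exfalso
          have hS' : p' ∈ SS := X.cent f hf hfS hfc p' (commute_of_conj_eq hfix).symm
          obtain ⟨j, hj⟩ := exists_order pgS hS'
          have : orderOf p' ∣ p := hqo ▸ orderOf_dvd_of_mem_zpowers
            (mul_mem (mem_zpowers q) hmem)
          rcases (Nat.dvd_prime hp).1 this with h' | h'
          · exact hp1 (orderOf_eq_one_iff.1 h')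
          · rw [h'] at hj
            cases j with
            | zero => exact hp.ne_one hj
            | succ j => rw [hj] at hp2; exact (Nat.not_even_iff_odd.2 hp2) (by simp [pow_succ])
        have hfix : Commute q (e₁ * e₂) := by
          refine (commute_of_conj_eq ?_).symm
          rw [show (e₁ * e₂) * q * (e₁ * e₂)⁻¹ = e₁ * (e₂ * q * e₂⁻¹) * e₁⁻¹ by group,
            inv e₂ h2 h2S h2c, ← conj_inv, inv e₁ h1 h1S h1c, inv_inv]
        obtain ⟨j, hj⟩ := exists_order pgS (X.cent _ h3 (mul_mem h1S h2S) h3c q hfix)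
        rw [hqo] at hj
        cases j with
        | zero => exact hp.ne_one hj
        | succ j => rw [hj] at hp2; exact (Nat.not_even_iff_odd.2 hp2) (by simp [pow_succ])
      obtain ⟨g, hg⟩ := exists_sylow_mem hpg S
      have hmem : ∀ a, Commute w a → g * a * g⁻¹ ∈ SS := fun a ha =>
        hg a (mem_centralizer_singleton_iff.2 ha.symm)
      set f := g⁻¹ * e₁ * g with hf
      have hcf : ∀ a, Commute w a → Commute a f := fun a ha => by
        have := h1c _ (hmem a ha)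
        rw [hf]
        show _ * _ = _ * _
        calc a * (g⁻¹ * e₁ * g) = g⁻¹ * ((g * a * g⁻¹) * e₁) * g := by group
          _ = g⁻¹ * (e₁ * (g * a * g⁻¹)) * g := by rw [this.eq]
          _ = _ := by group
      have hf2 : orderOf f = 2 := by
        rw [hf, show g⁻¹ * e₁ * g = g⁻¹ * e₁ * (g⁻¹)⁻¹ by rw [inv_inv]]; exact conj_two h1 _
      have hfS : f ∈ SS := X.cent e₁ h1 h1S h1c f (hcf e₁ hwe).symm
      have hfc : Cen SS f := by
        by_contra hfc
        exact hno f hfS hf2 hfc e₁ h1 h1S h1c g⁻¹ (by rw [hf]; group)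
      exact X.cent f hf2 hfS hfc r (hcf r hwr)
    have hN := X.ns.two_core (N := normalClosure {u₀}) inferInstance (pgS.to_le
      ((closure_le _).2 fun a ha => by
        obtain ⟨b, rfl, hb⟩ := Group.mem_conjugatesOfSet_iff.1 ha
        obtain ⟨c, hc⟩ := isConj_iff.1 hb
        exact hc ▸ hall c))
    exact ne_one_of_two hu₀ (mem_bot.1 (hN ▸ subset_normalClosure (Set.mem_singleton u₀)))
  -- the conjugates of `e₁`, `e₂` under `g`
  have hcu : ∀ a, Commute a u → g⁻¹ * a * g ∈ SS := fun a ha => X.cent e he heS hec _ (by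
    rw [← hg] at ha
    show _ * _ = _ * _
    calc g⁻¹ * a * g * e = g⁻¹ * (a * (g * e * g⁻¹)) * g := by group
      _ = g⁻¹ * ((g * e * g⁻¹) * a) * g := by rw [ha.eq]
      _ = _ := by group)
  have hke : ∀ f, orderOf f = 2 → f ∈ SS → Cen SS f →
      g * f * g⁻¹ ∈ SS ∧ (∀ a, Commute a (g * f * g⁻¹) → Commute a u) ∧
        ∀ a, Commute a u → Commute a (g * f * g⁻¹) := by
    intro f hf hfS hfc
    have hto : ∀ a, Commute a u → Commute a (g * f * g⁻¹) := fun a ha => by
      have := hfc _ (hcu a ha)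
      show _ * _ = _ * _
      calc a * (g * f * g⁻¹) = g * ((g⁻¹ * a * g) * f) * g⁻¹ := by group
        _ = g * (f * (g⁻¹ * a * g)) * g⁻¹ := by rw [this.eq]
        _ = _ := by group
    refine ⟨X.cent e₁ h1 h1S h1c _ (hto e₁ (h1c u huS).symm).symm, fun a ha => ?_, hto⟩
    have h' : Commute (g⁻¹ * a * g) f := by
      show _ * _ = _ * _
      calc g⁻¹ * a * g * f = g⁻¹ * (a * (g * f * g⁻¹)) * g := by group
        _ = g⁻¹ * ((g * f * g⁻¹) * a) * g := by rw [ha.eq]
        _ = _ := by group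
    have h5 := hec _ (X.cent f hf hfS hfc _ h')
    rw [← hg]
    show _ * _ = _ * _
    calc a * (g * e * g⁻¹) = g * ((g⁻¹ * a * g) * e) * g⁻¹ := by group
      _ = g * (e * (g⁻¹ * a * g)) * g⁻¹ := by rw [h5.eq]
      _ = _ := by group
  obtain ⟨x₀, hx₀S, hx₀u, t, htx, ht, htS, htc⟩ := exists_x X huS hu hunc
  have hord : x₀ * x₀ ≠ 1 := by
    intro h
    have hx2 : orderOf x₀ = 2 := two_of_sq h (fun h' => hx₀u (h' ▸ Commute.one_left u))
    rcases mem_zpowers_two hx2 htx with h' | h'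
    · exact ne_one_of_two ht h'
    · exact hx₀u (h' ▸ (htc u huS).symm)
  obtain ⟨w, hwx, hww, hwS⟩ := exists_four pgS hx₀S ht htx hord
  have hw4 : w ^ 4 = 1 := by
    rw [show w ^ 4 = (w * w) * (w * w) by simp only [pow_succ, pow_zero, one_mul, mul_assoc], hww,
      two_pow_two ht]
  have hfin : ∀ x ∈ SS, ∀ d : G, t ∈ zpowers x → ¬ Commute x u → d ∈ zpowers x →
      (∀ f, orderOf f = 2 → f ∈ SS → Cen SS f →
        g * f * g⁻¹ * x * (g * f * g⁻¹)⁻¹ = x ∨ g * f * g⁻¹ * x * (g * f * g⁻¹)⁻¹ = x * t) → False := by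
    intro x hx d _ hxu _ h
    have hne : ∀ f, orderOf f = 2 → f ∈ SS → Cen SS f →
        g * f * g⁻¹ * x * (g * f * g⁻¹)⁻¹ = x * t := by
      intro f hf hfS hfc
      refine (h f hf hfS hfc).resolve_left fun h' => hxu ?_
      exact (hke f hf hfS hfc).2.1 x (commute_of_conj_eq h').symm
    have hA := hne e₁ h1 h1S h1c
    have hB := hne e₂ h2 h2S h2c
    have hC := hne _ h3 (mul_mem h1S h2S) h3c
    have hAS := (hke e₁ h1 h1S h1c).1
    rw [show g * (e₁ * e₂) * g⁻¹ * x * (g * (e₁ * e₂) * g⁻¹)⁻¹ =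
      (g * e₁ * g⁻¹) * ((g * e₂ * g⁻¹) * x * (g * e₂ * g⁻¹)⁻¹) * (g * e₁ * g⁻¹)⁻¹ by group, hB,
      ← conj_mul, hA, htc.conj hAS, mul_assoc, two_pow_two ht, mul_one] at hC
    exact ne_one_of_two ht (mul_eq_left.1 hC.symm)
  by_cases hwu : Commute w u
  swap
  · refine hfin w hwS w (hww ▸ mul_mem (mem_zpowers w) (mem_zpowers w)) hwu (mem_zpowers w) ?_
    intro f hf hfS hfc
    have hm := (X.cond.f1 ht (hww ▸ mul_mem (mem_zpowers w) (mem_zpowers w)) _).1
      (htc _ (hke f hf hfS hfc).1)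
    rw [← hww]
    refine four_cases hw4 hm fun h => ne_one_of_two ht ?_
    rw [← hww, show w * w = (g * f * g⁻¹)⁻¹ * ((g * f * g⁻¹ * w * (g * f * g⁻¹)⁻¹) *
      (g * f * g⁻¹ * w * (g * f * g⁻¹)⁻¹)) * (g * f * g⁻¹) by group, h]
    group
  refine hfin x₀ hx₀S w htx hx₀u hwx ?_
  intro f hf hfS hfc
  obtain ⟨hkS, -, hto⟩ := hke f hf hfS hfc
  have hwk : g * f * g⁻¹ * w * (g * f * g⁻¹)⁻¹ = w := by
    rw [(hto w hwu).symm.eq, mul_inv_cancel_right]
  have hm := (X.cond.f1 ht htx (g * f * g⁻¹)).1 (htc _ hkS)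
  set k := g * f * g⁻¹ with hk
  set d := x₀⁻¹ * (k * x₀ * k⁻¹) with hd
  obtain ⟨j, hj⟩ := mem_zpowers_iff.1 hm
  obtain ⟨l, hl⟩ := mem_zpowers_iff.1 hwx
  obtain ⟨n, hn⟩ := exists_order pgS hx₀S
  have hkk : k * k = 1 := two_pow_two (conj_two hf g)
  have hjw : w ^ j = w := by
    conv_rhs => rw [← hwk, ← hl, ← conj_zpow, ← hj, ← zpow_mul, mul_comm, zpow_mul, hl]
  have hj4 : (4 : ℤ) ∣ j - 1 := by
    have h1 : w ^ (j - 1) = 1 := by rw [zpow_sub, hjw, zpow_one, mul_inv_cancel]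
    have h2 : orderOf w = 2 ^ (1 + 1) := orderOf_eq_prime_pow (by
      rw [pow_one, pow_two, hww]; exact ne_one_of_two ht) (by norm_num; exact hw4)
    have h3 := orderOf_dvd_iff_zpow_eq_one.2 h1
    rw [h2] at h3
    exact_mod_cast h3
  have hdd : d * d = 1 := by
    have hde : d = x₀ ^ (j - 1) := by rw [hd, ← hj]; group
    have hjj : x₀ ^ (j * j) = x₀ := by
      rw [zpow_mul, hj, conj_zpow, hj]
      rw [show k * (k * x₀ * k⁻¹) * k⁻¹ = (k * k) * x₀ * (k * k)⁻¹ by group, hkk]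
      simp
    obtain ⟨q, hq⟩ := hj4
    have h1 : d ^ (j + 1) = 1 := by
      rw [hde, ← zpow_mul, show (j - 1) * (j + 1) = j * j - 1 by ring, zpow_sub, hjj, zpow_one,
        mul_inv_cancel]
    have h2 : orderOf d ∣ 2 ^ n := hn ▸ orderOf_dvd_of_mem_zpowers (hde ▸ zpow_mem (mem_zpowers x₀) _)
    obtain ⟨i, -, hi⟩ := (Nat.dvd_prime_pow Nat.prime_two).1 h2
    have h3 := orderOf_dvd_iff_zpow_eq_one.2 h1
    rw [hi, show j + 1 = 2 * (2 * q + 1) by omega] at h3
    rcases i with _ | _ | i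
    · have h4 := pow_orderOf_eq_one d
      rw [hi, pow_zero, pow_one] at h4
      rw [h4, one_mul]
    · have h4 := pow_orderOf_eq_one d
      rwa [hi, pow_succ, pow_zero, one_mul, pow_two] at h4
    · exfalso
      have h5 : ((4 : ℕ) : ℤ) ∣ 2 * (2 * q + 1) :=
        (Int.natCast_dvd_natCast.2 (show 4 ∣ 2 ^ (i + 1 + 1) from ⟨2 ^ i, by ring⟩)).trans h3
      omega
  by_cases hd1 : d = 1
  · left
    rwa [hd, inv_mul_eq_one, eq_comm] at hd1
  · right
    have hdt := involution_mem_unique (mul_mem (inv_mem (mem_zpowers x₀)) hm) htx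
      (two_of_sq hdd hd1) ht
    rw [← hdt, mul_inv_cancel_left]

omit X in
theorem TypeA.mul {t a b : G} (ht : orderOf t = 2) (hbS : b ∈ SS) (htc : Cen SS t)
    (ha : TypeA SS t a) (hb : TypeA SS t b) : TypeA SS t (a * b) := by
  intro s hs
  rw [← conj_mul]
  rcases ha s hs with h | h <;> rcases hb s hs with h' | h' <;> rw [h, h']
  · exact Or.inl rfl
  · exact Or.inr (mul_assoc _ _ _).symm
  · refine Or.inr ?_
    rw [mul_assoc, mul_assoc, (htc b hbS).eq]
  · refine Or.inl ?_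
    rw [mul_assoc, ← mul_assoc t, ← (htc b hbS).eq, mul_assoc b, two_pow_two ht, mul_one]

/-- With a single central involution `t`, elements normalising an element of order four. -/
theorem order_four_cases {t y : G} (ht : orderOf t = 2) (hy : y * y = t)
    {s : G} (hst : Commute s t) : s * y * s⁻¹ = y ∨ s * y * s⁻¹ = y * t := by
  have hm := (X.cond.f1 ht (hy ▸ mul_mem (mem_zpowers y) (mem_zpowers y)) s).1 hst
  rw [← hy]
  refine four_cases ?_ hm fun h => ne_one_of_two ht ?_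
  · rw [show y ^ 4 = (y * y) * (y * y) by simp only [pow_succ, pow_zero, one_mul, mul_assoc], hy,
      two_pow_two ht]
  · rw [← hy, show y * y = s⁻¹ * ((s * y * s⁻¹) * (s * y * s⁻¹)) * s by group, h]
    group

theorem typeA_of_commute {t r w : G} (ht : orderOf t = 2) (htc : Cen SS t) (hr : orderOf r = 2)
    (hww : w * w = t) (hrS : r ∈ SS) (hwS : w ∈ SS) (hrw : Commute r w) : TypeA SS t r := by
  intro s hs
  have hy : (r * w) * (r * w) = t := by
    rw [hrw.symm.mul_mul_mul_comm, two_pow_two hr, one_mul, hww]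
  have hA := order_four_cases X ht hy (htc s hs)
  have hB := order_four_cases X ht hww (htc s hs)
  have e : s * r * s⁻¹ = (s * (r * w) * s⁻¹) * (s * w * s⁻¹)⁻¹ := by group
  have hwt : Commute w t := htc w hwS
  rcases hA with h | h <;> rcases hB with h' | h' <;> rw [e, h, h']
  · left; group
  · right; rw [mul_inv_rev, inv_of_two ht, hwt.inv_left.symm.eq, ← mul_assoc, mul_inv_cancel_right]
  · right; rw [mul_assoc r, hwt.eq, ← mul_assoc, mul_inv_cancel_right]
  · left; group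

end H79.SameNorm
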